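import Mathlib
import Cfsg.Agent.H6.M11.Reps
import Cfsg.Agent.S2060
import Cfsg.Agent.Lib.FinFast
import Cfsg.Agent.H923.Ten.A7Grp
import Mathlib.NumberTheory.Zsqrtd.Basic
import Cfsg.Agent.H906.Cover_m3
import Cfsg.Agent.H908.SLTrans
import Cfsg.Agent.LieClassical.GUOrder
import Cfsg.Agent.S2119
import Cfsg.Agent.Lib.FastPerm
import Cfsg.Agent.H6.M11.Main11
import Cfsg.Agent.FastGrp
import Cfsg.Agent.Prune
set_option linter.all false

section
prune_inst 0x7ffdadf9bab8b9dfdfff7e7faededffc3d911fffa6dff94bffe061ff2bdf27020dc56bad89e010fe1ed7e21410b87853fdffefffea6bdc7ffffd5ff41ffbee4ff5f7b508519488340fbc2fff03f0778e7f3fffffffffffffffffffffffffffbeffbfffffffff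

-- part: H840/M11/Dec
section
prune_inst 0x21006454404002000000051210003c26ce0005900028000078e00d420c8edf2089002160fc901c0200caa6846038002001000040420000000a000000011900a080084200936c0104240009802084000000000000000000000000000000041004000000000
set_option linter.all false
open scoped Cfsg.Agent.FastGrp

/-- decoders of the packed data (elaboration time only) -/
private noncomputable def pk61d (b S i : Nat) : Nat := Nat.mod (Nat.shiftRight S (Nat.mul b i)) (Nat.shiftLeft (nat_lit 1) b)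
private noncomputable def pk61c {α : Type} (t : Nat) (a : α) (f : Nat → α) : α := Nat.rec a (fun k _ => f k) t
private noncomputable def pk61f {α : Type} (t : Nat) (f : Nat → α) : α := Nat.rec (f Nat.zero) (fun k _ => f (Nat.succ k)) t
private noncomputable def pk61z (t : Nat) : Int := pk61f t fun t =>
  pk61c (Nat.mod t (nat_lit 2)) (Int.ofNat (Nat.div t (nat_lit 2))) fun _ => Int.negSucc (Nat.div t (nat_lit 2))
private noncomputable def pk61l {α : Type} (f : Nat → α) (s e : Nat) (tl : List α) : List α :=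
  pk61f e fun e => Nat.rec tl (fun k ih => List.cons (pk61f (Nat.sub e (Nat.succ k)) f) ih) (Nat.sub e s)
private noncomputable def pk61o {α : Type} (O : (n : Nat) → OfNat α n → α) (I : (n : Nat) → OfNat α n) (t : Nat) : α :=
  pk61c t (O (nat_lit 0) (I (nat_lit 0))) fun k => O (Nat.succ k) (I (Nat.succ k))
private noncomputable def pk61y (O : (n : Nat) → OfNat Int n → Int) (I : (n : Nat) → OfNat Int n) (G : Int → Int) (t : Nat) : Int := pk61f t fun t =>
  pk61c (Nat.mod t (nat_lit 2)) (pk61o O I (Nat.div t (nat_lit 2))) fun _ => G (pk61o O I (Nat.succ (Nat.div t (nat_lit 2))))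


-- part: H840/M11/Zs
section
/-!
# Computable linear algebra over `ℤ[s]`, `s² = -2`
-/

set_option autoImplicit false
set_option linter.unusedSectionVars false
set_option linter.unusedVariables false

namespace Cfsg.Agent.H840.M11

/-- `(a, b)` stands for `a + b s` -/
abbrev Zs := ℤ × ℤ

/-- product -/
def zm (x y : Zs) : Zs := (x.1 * y.1 - 2 * (x.2 * y.2), x.1 * y.2 + x.2 * y.1)
/-- sum -/
def za (x y : Zs) : Zs := (x.1 + y.1, x.2 + y.2)
/-- opposite -/
def zn (x : Zs) : Zs := (-x.1, -x.2)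
/-- conjugate -/
def zc (x : Zs) : Zs := (x.1, -x.2)
/-- reduction modulo an integer (nothing if it is zero) -/
def zr (q : ℤ) (x : Zs) : Zs := (x.1 % q, x.2 % q)

/-- scalar product -/
def dot : List Zs → List Zs → Zs
  | a :: r, b :: w => za (zm a b) (dot r w)
  | _, _ => (0, 0)

/-- matrix times vector -/
def mv (M : List (List Zs)) (w : List Zs) : List Zs := M.map fun r => dot r w

/-- the value of a product of matrices on a vector -/
def app (Ms : List (List (List Zs))) (w : List Zs) : List Zs := Ms.foldr mv w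

/-- the basis vectors -/
def bv (n j : ℕ) : List Zs := (List.range n).map fun i => if i = j then (1, 0) else (0, 0)

/-- equality modulo `q` of the first `n` coordinates -/
def eqv (q : ℤ) (n : ℕ) (w w' : List Zs) : Bool :=
  (List.range n).all fun i => decide (zr q (w.getD i (0, 0)) = zr q (w'.getD i (0, 0)))

/-- rows have length at most `n` -/
def okm (n : ℕ) (M : List (List Zs)) : Bool := M.all fun r => decide (r.length ≤ n)

/-- trace of a product of matrices -/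
def trw (n : ℕ) (Ms : List (List (List Zs))) : Zs :=
  (List.range n).foldr (fun j t => za ((app Ms (bv n j)).getD j (0, 0)) t) (0, 0)

section eval

variable {F : Type*} [Field F] (s : F)

/-- evaluation -/
def zf (x : Zs) : F := (x.1 : F) + (x.2 : F) * s

theorem zf_zero : zf s (0, 0) = 0 := by simp [zf]
theorem zf_one : zf s (1, 0) = 1 := by simp [zf]
theorem zf_add (x y : Zs) : zf s (za x y) = zf s x + zf s y := by
  simp only [zf, za, Int.cast_add]; ring
theorem zf_neg (x : Zs) : zf s (zn x) = -zf s x := by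
  simp only [zf, zn, Int.cast_neg]; ring

theorem zf_conj (x : Zs) : zf s (zc x) = zf (-s) x := by
  simp only [zf, zc, Int.cast_neg]; ring

variable {s}

theorem zf_mul (hs : s * s = -2) (x y : Zs) : zf s (zm x y) = zf s x * zf s y := by
  simp only [zf, zm, Int.cast_add, Int.cast_mul, Int.cast_sub, Int.cast_ofNat]
  linear_combination (-(x.2 : F) * y.2) * hs

theorem zf_red {q : ℤ} (hq : (q : F) = 0) (x : Zs) : zf s (zr q x) = zf s x := by
  have h : ∀ a : ℤ, ((a % q : ℤ) : F) = a := by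
    intro a
    rw [Int.emod_def, Int.cast_sub, Int.cast_mul, hq, zero_mul, sub_zero]
  simp only [zf, zr, h]

theorem zf_eq {q : ℤ} (hq : (q : F) = 0) {x y : Zs} (h : zr q x = zr q y) : zf s x = zf s y := by
  rw [← zf_red hq x, h, zf_red hq]

variable (s) in
/-- the vector of a list -/
def tv (n : ℕ) (w : List Zs) : Fin n → F := fun i => zf s (w.getD i (0, 0))

variable (s) in
/-- the matrix of a list of rows -/
def tm (n : ℕ) (M : List (List Zs)) : Matrix (Fin n) (Fin n) F := fun i j => zf s ((M.getD i []).getD j (0, 0))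

theorem dot_spec (hs : s * s = -2) : ∀ (n : ℕ) (r w : List Zs), r.length ≤ n →
    zf s (dot r w) = ∑ i : Fin n, zf s (r.getD i (0, 0)) * zf s (w.getD i (0, 0)) := by
  intro n
  induction n with
  | zero =>
    intro r w hr
    have : r = [] := List.length_eq_zero_iff.1 (Nat.le_zero.1 hr)
    subst this
    rw [Fin.sum_univ_zero]
    exact zf_zero s
  | succ n ih =>
    intro r w hr
    match r, w with
    | [], w =>
      simp only [List.getD_nil, zf_zero, zero_mul, Finset.sum_const_zero]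
      exact zf_zero s
    | a :: r, [] =>
      simp only [List.getD_nil, zf_zero, mul_zero, Finset.sum_const_zero]
      exact zf_zero s
    | a :: r, b :: w =>
      rw [Fin.sum_univ_succ, dot, zf_add, zf_mul hs, ih r w (Nat.le_of_succ_le_succ hr)]
      rfl

theorem mv_spec (hs : s * s = -2) {n : ℕ} {M : List (List Zs)} (hM : okm n M = true) (w : List Zs) :
    (tm s n M).mulVec (tv s n w) = tv s n (mv M w) := by
  ext i
  have h1 : (mv M w).getD i (0, 0) = dot (M.getD i []) w := by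
    unfold mv
    by_cases hi : (i : ℕ) < M.length
    · rw [List.getD_eq_getElem _ _ (by rw [List.length_map]; exact hi), List.getElem_map,
        List.getD_eq_getElem _ _ hi]
    · rw [List.getD_eq_default _ _ (by rw [List.length_map]; omega), List.getD_eq_default _ _ (by omega)]
      rfl
  have h2 : (M.getD i []).length ≤ n := by
    by_cases hi : (i : ℕ) < M.length
    · rw [List.getD_eq_getElem _ _ hi]
      have := List.all_eq_true.1 hM _ (List.getElem_mem hi)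
      exact of_decide_eq_true this
    · rw [List.getD_eq_default _ _ (by omega)]
      exact Nat.zero_le _
  change ∑ j : Fin n, zf s ((M.getD i []).getD j (0, 0)) * zf s (w.getD j (0, 0)) = zf s ((mv M w).getD i (0, 0))
  rw [h1, dot_spec hs n _ _ h2]

theorem app_spec (hs : s * s = -2) {n : ℕ} : ∀ {Ms : List (List (List Zs))} (_ : ∀ M ∈ Ms, okm n M = true)
    (w : List Zs), ((Ms.map (tm s n)).prod).mulVec (tv s n w) = tv s n (app Ms w) := by
  intro Ms
  induction Ms with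
  | nil => intro _ w; simp [app]
  | cons M Ms ih =>
    intro h w
    rw [List.map_cons, List.prod_cons, ← Matrix.mulVec_mulVec, ih (fun M' h' => h M' (List.mem_cons_of_mem _ h')),
      mv_spec hs (h M List.mem_cons_self)]
    rfl

theorem eqv_spec {q : ℤ} (hq : (q : F) = 0) {n : ℕ} {w w' : List Zs} (h : eqv q n w w' = true) :
    tv s n w = tv s n w' := by
  ext i
  have h1 := List.all_eq_true.1 h i (List.mem_range.2 i.2)
  exact zf_eq hq (of_decide_eq_true h1)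

theorem getD_map_range {α : Type*} (f : ℕ → α) (n i : ℕ) (d : α) (hi : i < n) :
    ((List.range n).map f).getD i d = f i := by
  rw [List.getD_eq_getElem _ _ (by simpa using hi)]
  simp

theorem bv_spec (n : ℕ) (j : Fin n) : tv s n (bv n j) = Pi.single j 1 := by
  ext i
  unfold tv bv
  rw [getD_map_range _ _ _ _ i.2]
  by_cases h : i = j
  · subst h
    rw [if_pos rfl, zf_one, Pi.single_eq_same]
  · rw [if_neg (fun h' => h (Fin.ext h')), zf_zero, Pi.single_eq_of_ne h]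

/-- equality of products of matrices -/
theorem prod_eq (hs : s * s = -2) {q : ℤ} (hq : (q : F) = 0) {n : ℕ} {Ms Ns : List (List (List Zs))}
    (hM : ∀ M ∈ Ms, okm n M = true) (hN : ∀ M ∈ Ns, okm n M = true)
    (h : ∀ j < n, eqv q n (app Ms (bv n j)) (app Ns (bv n j)) = true) :
    (Ms.map (tm s n)).prod = (Ns.map (tm s n)).prod := by
  apply Matrix.ext_of_mulVec_single
  intro j
  rw [← bv_spec n j, app_spec hs hM, app_spec hs hN]
  exact eqv_spec hq (h j j.2)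

/-- opposite products -/
theorem prod_neg (hs : s * s = -2) {q : ℤ} (hq : (q : F) = 0) {n : ℕ} {Ms Ns : List (List (List Zs))}
    (hM : ∀ M ∈ Ms, okm n M = true) (hN : ∀ M ∈ Ns, okm n M = true)
    (h : ∀ j < n, eqv q n (app Ms (bv n j)) ((app Ns (bv n j)).map zn) = true) :
    (Ms.map (tm s n)).prod = -(Ns.map (tm s n)).prod := by
  apply Matrix.ext_of_mulVec_single
  intro j
  rw [Matrix.neg_mulVec, ← bv_spec n j, app_spec hs hM, app_spec hs hN, eqv_spec hq (h j j.2)]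
  ext i
  change zf s (((app Ns (bv n j)).map zn).getD i (0, 0)) = -zf s ((app Ns (bv n j)).getD i (0, 0))
  rw [← zf_neg]
  congr 1
  generalize app Ns (bv n j) = w
  by_cases hi : (i : ℕ) < w.length
  · rw [List.getD_eq_getElem _ _ (by rw [List.length_map]; exact hi), List.getElem_map,
      List.getD_eq_getElem _ _ hi]
  · rw [List.getD_eq_default _ _ (by rw [List.length_map]; omega), List.getD_eq_default _ _ (by omega)]
    rfl

/-- the trace of a product of matrices -/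
theorem trace_spec (hs : s * s = -2) {n : ℕ} {Ms : List (List (List Zs))} (hM : ∀ M ∈ Ms, okm n M = true) :
    ((Ms.map (tm s n)).prod).trace = zf s (trw n Ms) := by
  have h1 : ∀ l : List ℕ, zf s (l.foldr (fun j t => za ((app Ms (bv n j)).getD j (0, 0)) t) (0, 0)) =
      (l.map fun j => zf s ((app Ms (bv n j)).getD j (0, 0))).sum := by
    intro l
    induction l with
    | nil => exact zf_zero s
    | cons a l ih => rw [List.foldr_cons, zf_add, ih, List.map_cons, List.sum_cons]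
  have h2 : ∀ (f : ℕ → F), ((List.range n).map f).sum = ∑ j : Fin n, f j := by
    intro f
    rw [← List.sum_ofFn, List.ofFn_eq_map, ← List.map_coe_finRange_eq_range, List.map_map]
    rfl
  unfold trw
  rw [h1, h2, Matrix.trace]
  refine Finset.sum_congr rfl fun j _ => ?_
  have h3 := congrFun (app_spec hs hM (bv n j)) j
  rw [bv_spec, Matrix.mulVec_single_one] at h3
  exact h3

end eval

end Cfsg.Agent.H840.M11
end

-- part: H840/M11/Dat
section
/-!
# The ten-dimensional representation of `M11` over `ℤ[√-2]` : data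
-/

set_option autoImplicit false
set_option maxRecDepth 100000

namespace Cfsg.Agent.H840.M11

open Cfsg.Agent.CoThreeStd.MTwelve

/-- codes of the eleven points -/
def pc (i : ℕ) : ℕ := [1, 2, 3, 4, 6, 8, 9, 12, 13, 16, 18].getD i 0
/-- index of a code -/
def ix (c : ℕ) : ℕ := [11, 0, 1, 2, 3, 11, 4, 11, 5, 6, 11, 11, 7, 8, 11, 11, 9, 11, 10, 11, 11, 11, 11, 11].getD c 11

/-- vectors of the triples `i < j < k` -/
def tabL : List (List (List (List Zs))) :=
  let y0 : List (List (List (List Zs))) := (by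
  refine (?fq9001 : (pk61l (fun i0 => ((fun g0 : Nat → Nat => pk61l (fun i1 => ((fun g1 : Nat → Nat => pk61l (fun i2 => (pk61l (fun i3 => (_root_.Prod.mk (pk61z (pk61d (nat_lit 3) 
    (nat_lit 0x900c809) i3)) (pk61z (pk61d (nat_lit 3) 
    (nat_lit 0xa6428c5) i3)))) (nat_lit 0) (nat_lit 10) List.nil)) (g1 i1) (g1 (Nat.succ i1)) List.nil) fun j => (pk61d (nat_lit 1) 
    (nat_lit 0xe) j))) (g0 i0) (g0 (Nat.succ i0)) List.nil) fun j => (pk61d (nat_lit 2) 
    (nat_lit 0xf8) j))) (nat_lit 0) (nat_lit 3) List.nil : List (List (List (List Zs))))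
    = ?xq9001 → (List (List (List (List Zs))))) ?hq9001; (case hq9001 => (set_option maxRecDepth 1000000 in conv => lhs; reduce)); intro _; exact ?xq9001 : List (List (List (List Zs))))
  let y1 : List (List (List (List Zs))) := (by
  refine (?fq9002 : (fun (tl : List (List (List (List Zs)))) => (pk61l (fun i0 => ((fun g0 : Nat → Nat => pk61l (fun i1 => ((fun g1 : Nat → Nat => pk61l (fun i2 => (pk61l (fun i3 => (_root_.Prod.mk (pk61z (pk61d (nat_lit 5) 
    (nat_lit 0x108c6314282a0400804030ca108080080a6218040800430ce1184221882020001184063242720400000002086210000398c6000a1009092ac0000020188c41940109861304021042119086198401004609001180a410c80200013142300440084811146511061008c70942100c6029140088c2004f033823094a218101108200808718c22000430082010886314281982209422088c1080202904110080200032904818c40010a64108128402534ed008600008518c0008044214612100010c83284011842100cc30044008024088201080210060) i3)) (pk61z (pk61d (nat_lit 4) 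
    (nat_lit 0x31221238441200200200001114231302000104020011102303020201213000000221100100321020220223021000001001102030126735210100000010011054622211014533214421140600222002100222211214411100050313113211614131204939022221023201200134401042105a6a21112005032001012111010002201001303225232402414030002043120210020100102242233808200021031101100241151211022001) i3)))) (Nat.mul (nat_lit 10) i2) (Nat.mul (nat_lit 10) (Nat.succ i2)) List.nil)) (g1 i1) (g1 (Nat.succ i1)) List.nil) fun j => (pk61d (nat_lit 6) 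
    (nat_lit 0x228a17df79c6596164cf3ce309140) j))) (g0 i0) (g0 (Nat.succ i0)) List.nil) fun j => (pk61d (nat_lit 5) 
    (nat_lit 0x127acc0) j))) (nat_lit 0) (nat_lit 4) tl : List (List (List (List Zs)))))
    = ?xq9002 → (List (List (List (List Zs))))) ?hq9002; (case hq9002 => (set_option maxRecDepth 1000000 in conv => lhs; reduce)); intro _; exact ?xq9002 y0 : List (List (List (List Zs))))
  let y2 : List (List (List (List Zs))) := (by
  refine (?fq9003 : (fun (tl : List (List (List (List Zs)))) => (pk61l (fun i0 => ((fun g0 : Nat → Nat => pk61l (fun i1 => ((fun g1 : Nat → Nat => pk61l (fun i2 => (pk61l (fun i3 => (_root_.Prod.mk (pk61z (pk61d (nat_lit 4) 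
    (nat_lit 0x230021304022426304326151104d19215016ab7b1100222513200110112230223414260301001101024485163442110349353042107a8804512087570220213412310114146020040123322020210012100012064225011401401510521141001100251730021434421240205a682002216151202221144610201032242040200434150112348102514289393242017c664044430054002201241205011210603222521a484010236975400112010021044302111220105a462240675426100252146420102047553222010404410221211111462016342155146b1b10202214261035100327013036470501201152642646672876) i3)) (pk61z (pk61d (nat_lit 4) 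
    (nat_lit 0x210200210210221238464224434072041221413102000020100000002131011110210301120243351042105a682242431434001334032102204334240302001220003112252502221106141020201202001110034100300487572031006737202221021200103201201101141140122021140210001210220011022113100002020001310449070222233426010132306210220206141201020220003014673701131001430242431614001022433100220014460310101141014200362622131023011222200230100110324000220004041000320442221040655511101001214100431101041000435101000223113040007c88) i3)))) (Nat.mul (nat_lit 10) i2) (Nat.mul (nat_lit 10) (Nat.succ i2)) List.nil)) (g1 i1) (g1 (Nat.succ i1)) List.nil) fun j => (pk61d (nat_lit 6) 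
    (nat_lit 0xc71c2eae789c71b65648d1c0) j))) (g0 i0) (g0 (Nat.succ i0)) List.nil) fun j => (pk61d (nat_lit 4) 
    (nat_lit 0xf80) j))) (nat_lit 0) (nat_lit 2) tl : List (List (List (List Zs)))))
    = ?xq9003 → (List (List (List (List Zs))))) ?hq9003; (case hq9003 => (set_option maxRecDepth 1000000 in conv => lhs; reduce)); intro _; exact ?xq9003 y1 : List (List (List (List Zs))))
  let y3 : List (List (List (List Zs))) := (by
  refine (?fq9004 : (fun (tl : List (List (List (List Zs)))) => (pk61l (fun i0 => (pk61l (fun i1 => ((fun g1 : Nat → Nat => pk61l (fun i2 => (pk61l (fun i3 => (_root_.Prod.mk (pk61z (pk61d (nat_lit 5) 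
    (nat_lit 0x102010c8518c62308213c90e00801104000840100040084002042010c4309c60108222a0c608002188261082010801090860982300040000450040218c81080a50888702c23194a619543108001000210822118410982400040200421888018020224210102030103394810884120c630088010ca801820208022a0c8100a5088890248010840204a0010021008338001200211a0060044210c242102008c62080c1080600990519c80084c301c25004423042400082208450982818000090410848028422434ab094a33900541422200434a0c800822108c1384022004109804) i3)) (pk61z (pk61d (nat_lit 4) 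
    (nat_lit 0x24023562603133211810120413222110202211122222002040110301140001112012100211012220001213020201202655140004301114130006b57002000122410203036663000021220222223225212220158460022210204030002124010113623012200412331120022221212220116040111022105100012102040110023010200010000204421141610021212421120001422001100210322244322524031216b59032012322212000004220000121222) i3)))) (Nat.mul (nat_lit 10) i2) (Nat.mul (nat_lit 10) (Nat.succ i2)) List.nil)) (g1 i1) (g1 (Nat.succ i1)) List.nil) fun j => (pk61d (nat_lit 6) 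
    (nat_lit 0x9248e179a54f200) j))) (nat_lit 0) (nat_lit 9) List.nil)) (nat_lit 0) (nat_lit 1) tl : List (List (List (List Zs)))))
    = ?xq9004 → (List (List (List (List Zs))))) ?hq9004; (case hq9004 => (set_option maxRecDepth 1000000 in conv => lhs; reduce)); intro _; exact ?xq9004 y2 : List (List (List (List Zs))))
  (by
  refine (?fq9005 : (fun (tl : List (List (List (List Zs)))) => (pk61l (fun i0 => (pk61l (fun i1 => ((fun g1 : Nat → Nat => pk61l (fun i2 => (pk61l (fun i3 => (_root_.Prod.mk (pk61z (pk61d (nat_lit 5) 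
    (nat_lit 0x411802232469100650904501c20118400a024100401140218820000a2000421188630c84490010886420440204610008b19c000006201002180420104418006208c30906620442100410880010041098400008210c661182118ce6014831044010421080220002208000080e5090cb034400804241ce3008420008428862408434c91008401088a2508212842231c0908040100a421020208a13b10a2080420c802808110040088020980108840090a0208241b08a08041080663084510021388c41186110cc5294000100210460000201088709440004402046310020080012080208843100212080130c411840018026314632004210c011882508c66004c31080008443184611084008820188800812e528000002200082) i3)) (pk61z (pk61d (nat_lit 4) 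
    (nat_lit 0x222221223220104045331000321464012021142000110023133240005c6a04111043110222412050011000210310111200411042105a48120004403000001210421120003222401121675500020220302100010000420043011012022122101201001420130334308021101005012200230111110014010121131223231042013848000202201200010112003133340345201112012121100265330240435626120210020202220102140000400000202001001200202134440144213626021001211100220006140051048b3b0220200230000010022003113213410201000102) i3)))) (Nat.mul (nat_lit 10) i2) (Nat.mul (nat_lit 10) (Nat.succ i2)) List.nil)) (g1 i1) (g1 (Nat.succ i1)) List.nil) fun j => (pk61d (nat_lit 6) 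
    (nat_lit 0x2db6caa78de611240) j))) (nat_lit 0) (nat_lit 10) List.nil)) (nat_lit 0) (nat_lit 1) tl : List (List (List (List Zs)))))
    = ?xq9005 → (List (List (List (List Zs))))) ?hq9005; (case hq9005 => (set_option maxRecDepth 1000000 in conv => lhs; reduce)); intro _; exact ?xq9005 y3 : List (List (List (List Zs))))

/-- the vector of the triple `i < j < k` -/
def tab (i j k : ℕ) : List Zs := ((tabL.getD i []).getD (j - i - 1) []).getD (k - j - 1) []

/-- the vector of a triple -/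
def om (i j k : ℕ) : List Zs :=
  if i = j then [] else if j = k then [] else if i = k then [] else
  if i < j then
    if j < k then tab i j k else if i < k then (tab i k j).map zn else tab k i j
  else
    if i < k then (tab j i k).map zn else if j < k then tab j k i else (tab k j i).map zn

/-- the matrix of `u₁` -/
noncomputable def U1 : List (List Zs) :=
  (by
  refine (?fq9006 : (fun (Oz : (n : Nat) → OfNat Int n → Int) (Iz : (n : Nat) → OfNat Int n) (Gz : Int → Int) => ((pk61l (fun i1 => (pk61l (fun i2 => (_root_.Prod.mk (pk61y Oz Iz Gz (pk61d (nat_lit 4) 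
    (nat_lit 0x20121001300100022012222020121220200000500100021261020213200315305023562443821422062181141666406002) i2)) (pk61y Oz Iz Gz (pk61d (nat_lit 4) 
    (nat_lit 0x2010000000010110110030010002000000021000011110120100220021128024021301700500140072112344027003000202) i2)))) (Nat.mul (nat_lit 10) i1) (Nat.mul (nat_lit 10) (Nat.succ i1)) List.nil)) (nat_lit 0) (nat_lit 10) List.nil) : List (List Zs)))
    = ?xq9006 → (List (List Zs))) ?hq9006; (case hq9006 => (set_option maxRecDepth 1000000 in conv => lhs; reduce)); intro _; exact ?xq9006 (@OfNat.ofNat Int) (@instOfNat) (@Neg.neg Int Int.instNegInt) : List (List Zs))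

/-- the matrix of `u₂` -/
noncomputable def U2 : List (List Zs) :=
  (by
  refine (?fq9007 : (fun (Oz : (n : Nat) → OfNat Int n → Int) (Iz : (n : Nat) → OfNat Int n) (Gz : Int → Int) => ((pk61l (fun i1 => (pk61l (fun i2 => (_root_.Prod.mk (pk61y Oz Iz Gz (pk61d (nat_lit 4) 
    (nat_lit 0x2110021112201122122120230002012003001211403024300012240020204034043302104913460350801360000149012411) i2)) (pk61y Oz Iz Gz (pk61d (nat_lit 3) 
    (nat_lit 0x20205001008224040848801029220000a0010804480002122512b0a64a8100b004060624681) i2)))) (Nat.mul (nat_lit 10) i1) (Nat.mul (nat_lit 10) (Nat.succ i1)) List.nil)) (nat_lit 0) (nat_lit 10) List.nil) : List (List Zs)))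
    = ?xq9007 → (List (List Zs))) ?hq9007; (case hq9007 => (set_option maxRecDepth 1000000 in conv => lhs; reduce)); intro _; exact ?xq9007 (@OfNat.ofNat Int) (@instOfNat) (@Neg.neg Int Int.instNegInt) : List (List Zs))

/-- the matrix of `a` -/
noncomputable def Aa : List (List Zs) :=
  (by
  refine (?fq9008 : (fun (Oz : (n : Nat) → OfNat Int n → Int) (Iz : (n : Nat) → OfNat Int n) (Gz : Int → Int) => ((pk61l (fun i1 => (pk61l (fun i2 => (_root_.Prod.mk (pk61y Oz Iz Gz (pk61d (nat_lit 4) 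
    (nat_lit 0x1210010401100011211213110021341010212210101201221020211011201410130623391500457a23410415141513002578) i2)) (pk61y Oz Iz Gz (pk61d (nat_lit 3) 
    (nat_lit 0x41008844200108128205204208009108200244104004a80109845a2839096c906071a083909) i2)))) (Nat.mul (nat_lit 10) i1) (Nat.mul (nat_lit 10) (Nat.succ i1)) List.nil)) (nat_lit 0) (nat_lit 10) List.nil) : List (List Zs)))
    = ?xq9008 → (List (List Zs))) ?hq9008; (case hq9008 => (set_option maxRecDepth 1000000 in conv => lhs; reduce)); intro _; exact ?xq9008 (@OfNat.ofNat Int) (@instOfNat) (@Neg.neg Int Int.instNegInt) : List (List Zs))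

/-- the matrix of `g` -/
noncomputable def Gg : List (List Zs) :=
  (by
  refine (?fq9009 : (fun (Oz : (n : Nat) → OfNat Int n → Int) (Iz : (n : Nat) → OfNat Int n) (Gz : Int → Int) => ((pk61l (fun i1 => (pk61l (fun i2 => (_root_.Prod.mk (pk61y Oz Iz Gz (pk61d (nat_lit 3) 
    (nat_lit 0x80096800920102494104814c805049240341000a080924299059060c3265946401b2e28a2) i2)) (pk61y Oz Iz Gz (pk61d (nat_lit 3) 
    (nat_lit 0x2080422000080000000090100002480820082012404020492026804002d00a2411c400002d0) i2)))) (Nat.mul (nat_lit 10) i1) (Nat.mul (nat_lit 10) (Nat.succ i1)) List.nil)) (nat_lit 0) (nat_lit 10) List.nil) : List (List Zs)))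
    = ?xq9009 → (List (List Zs))) ?hq9009; (case hq9009 => (set_option maxRecDepth 1000000 in conv => lhs; reduce)); intro _; exact ?xq9009 (@OfNat.ofNat Int) (@instOfNat) (@Neg.neg Int Int.instNegInt) : List (List Zs))

/-- the matrix of the form -/
def Ph : List (List Zs) :=
  (by
  refine (?fq9010 : (fun (Oz : (n : Nat) → OfNat Int n → Int) (Iz : (n : Nat) → OfNat Int n) (Gz : Int → Int) => ((pk61l (fun i1 => (pk61l (fun i2 => (_root_.Prod.mk (pk61y Oz Iz Gz (pk61d (nat_lit 4) 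
    (nat_lit 0xc244265323284640004344c4020343464c640141240682022160242831205000038202303121280124442200833331102138) i2)) (pk61y Oz Iz Gz (pk61d (nat_lit 3) 
    (nat_lit 0x324a4c000140100004046001020340104025241029344208128800141a208454062514250) i2)))) (Nat.mul (nat_lit 10) i1) (Nat.mul (nat_lit 10) (Nat.succ i1)) List.nil)) (nat_lit 0) (nat_lit 10) List.nil) : List (List Zs)))
    = ?xq9010 → (List (List Zs))) ?hq9010; (case hq9010 => (set_option maxRecDepth 1000000 in conv => lhs; reduce)); intro _; exact ?xq9010 (@OfNat.ofNat Int) (@instOfNat) (@Neg.neg Int Int.instNegInt) : List (List Zs))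

/-- its inverse -/
def Ps : List (List Zs) :=
  (by
  refine (?fq9011 : (fun (Oz : (n : Nat) → OfNat Int n → Int) (Iz : (n : Nat) → OfNat Int n) (Gz : Int → Int) => ((pk61l (fun i1 => (pk61l (fun i2 => (_root_.Prod.mk (pk61y Oz Iz Gz (pk61d (nat_lit 6) 
    (nat_lit 0x2000401031891c50080821030841440423061052d611400218810304a0ca1041043070822420c31431cc1071071822c108461b4d724458a0876f44aa1c51032444d270e14450a0875ea3a8) i2)) (pk61y Oz Iz Gz (pk61d (nat_lit 5) 
    (nat_lit 0x8842040619820200013a8c818c012986440860100621a0c6180c4000ee330422840042ca90208441c08298a919dac38281214e5298d3034a70956a289c0) i2)))) (Nat.mul (nat_lit 10) i1) (Nat.mul (nat_lit 10) (Nat.succ i1)) List.nil)) (nat_lit 0) (nat_lit 10) List.nil) : List (List Zs)))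
    = ?xq9011 → (List (List Zs))) ?hq9011; (case hq9011 => (set_option maxRecDepth 1000000 in conv => lhs; reduce)); intro _; exact ?xq9011 (@OfNat.ofNat Int) (@instOfNat) (@Neg.neg Int Int.instNegInt) : List (List Zs))

/-- indices of ten triples -/
def bt : List (ℕ × ℕ × ℕ) := [(2,7,10), (1,3,8), (0,5,8), (4,5,6), (3,6,8), (5,8,9), (0,7,9), (3,8,10), (1,3,4), (2,3,9)]

/-- coefficients -/
def cb : List (List Zs) :=
  (by
  refine (?fq9012 : (fun (Oz : (n : Nat) → OfNat Int n → Int) (Iz : (n : Nat) → OfNat Int n) (Gz : Int → Int) => ((pk61l (fun i1 => (pk61l (fun i2 => (_root_.Prod.mk (pk61y Oz Iz Gz (pk61d (nat_lit 9) 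
    (nat_lit 0x218018657101cc4e6011b526e979db8c00ff3dcd117d478270d88c12220a8d3343cd1e3b599cc10871da5086f44594c9e570795c5e7c1da71786c3e1d0207c222aca8df000101e030201c0004018300838638cc6857078b016a8321401e2810070384b120bc100008020060c0201c0813) i2)) (pk61y Oz Iz Gz (pk61d (nat_lit 8) 
    (nat_lit 0x8363003b1f2f276433549f9f981f4d082156351d1038971f2c3f07140378635b3c1f270b1740230c1727540c1b1c000003372c406b07281f040b0c400b0703070307030c030c97633753194f31823d8e27074f270a331132155e0c080004020402090605) i2)))) (Nat.mul (nat_lit 10) i1) (Nat.mul (nat_lit 10) (Nat.succ i1)) List.nil)) (nat_lit 0) (nat_lit 10) List.nil) : List (List Zs)))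
    = ?xq9012 → (List (List Zs))) ?hq9012; (case hq9012 => (set_option maxRecDepth 1000000 in conv => lhs; reduce)); intro _; exact ?xq9012 (@OfNat.ofNat Int) (@instOfNat) (@Neg.neg Int Int.instNegInt) : List (List Zs))

/-- the words of `u₁, u₂, a` in the letters -/
def UL (i : ℕ) : List ℕ := [[0, 4, 1], [5, 7], [1, 3]].getD i []

/-- the matrices of `u₁, u₂, a` -/
noncomputable def Mt (i : ℕ) : List (List Zs) := [U1, U2, Aa].getD i []

/-- the permutation of the eleven indices -/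
def pi11 (i : ℕ) : List ℕ := (List.range 11).map fun j => ix (act ((UL i).flatMap H6.M11.W) (pc j))

/-- check of the action on the vectors of triples -/
noncomputable def chk3 (M : List (List Zs)) (p : List ℕ) : Bool :=
  (List.range 11).all fun i => (List.range 11).all fun j => (List.range 11).all fun k =>
    !decide (i < j) || !decide (j < k) || eqv 0 10 (mv M (om i j k)) (om (p.getD i 0) (p.getD j 0) (p.getD k 0))

/-- the permutations -/
def pp (i : ℕ) : List ℕ := [[0,7,3,10,8,6,5,9,2,4,1], [0,4,1,9,2,3,6,10,7,5,8], [3,1,2,0,9,8,10,7,5,4,6]].getD i []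

theorem pp_eq : ∀ i < 3, pi11 i = pp i := by decide +kernel

private noncomputable def _root_.Cfsg.Agent.LsF.f98a44f_0 : {f // @Cfsg.Agent.H840.M11.zr = f} := ⟨_, by first | (delta Cfsg.Agent.H840.M11.zr; rewrite [Cfsg.Agent.LsF.imod_pat]; exact rfl) | exact rfl⟩
private noncomputable def _root_.Cfsg.Agent.LsF.f98a44f_1 : {f // @Cfsg.Agent.H840.M11.eqv = f} := ⟨_, by first | (delta Cfsg.Agent.H840.M11.eqv; rewrite [Cfsg.Agent.LsF.f98a44f_0.2, Cfsg.Agent.LsF.dProdEq_eq, Cfsg.Agent.LsF.all_eq, Cfsg.Agent.LsF.range_eq, Cfsg.Agent.LsF.getD_eq, Cfsg.Agent.LsF.instIDecEq_eq, Cfsg.Agent.LsF.decide_eq]; exact rfl) | exact rfl⟩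
private noncomputable def _root_.Cfsg.Agent.LsF.f98a44f_2 : {f // @Cfsg.Agent.H840.M11.za = f} := ⟨_, by first | (delta Cfsg.Agent.H840.M11.za; rewrite [Cfsg.Agent.LsF.iadd_pat]; exact rfl) | exact rfl⟩
private noncomputable def _root_.Cfsg.Agent.LsF.f98a44f_3 : {f // @Cfsg.Agent.H840.M11.zm = f} := ⟨_, by first | (delta Cfsg.Agent.H840.M11.zm; rewrite [Cfsg.Agent.LsF.iadd_pat, Cfsg.Agent.LsF.imul_pat, Cfsg.Agent.LsF.isub_pat]; exact rfl) | exact rfl⟩
private noncomputable def _root_.Cfsg.Agent.LsF.f98a44f_4 : {f // @Cfsg.Agent.H840.M11.dot = f} := ⟨_, by first | (delta Cfsg.Agent.H840.M11.dot List.brecOn List.brecOn.go Cfsg.Agent.H840.M11.dot._f; rewrite [Cfsg.Agent.LsF.f98a44f_2.2, Cfsg.Agent.LsF.f98a44f_3.2]; (try delta Cfsg.Agent.H840.M11.dot.match_1); (try delta Cfsg.Agent.H840.M11.dot._sparseCasesOn_1); first | dsimp -zeta only | exact rfl) | exact rfl⟩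
private noncomputable def _root_.Cfsg.Agent.LsF.f98a44f_5 : {f // @Cfsg.Agent.H840.M11.mv = f} := ⟨_, by first | (delta Cfsg.Agent.H840.M11.mv; rewrite [Cfsg.Agent.LsF.f98a44f_4.2, Cfsg.Agent.LsF.map_eq]; exact rfl) | exact rfl⟩
private noncomputable def _root_.Cfsg.Agent.LsF.f98a44f_6 : {f // @Cfsg.Agent.H840.M11.tab = f} := ⟨_, by first | (delta Cfsg.Agent.H840.M11.tab; rewrite [Cfsg.Agent.LsF.nsub_pat, Cfsg.Agent.LsF.getD_eq]; exact rfl) | exact rfl⟩
private noncomputable def _root_.Cfsg.Agent.LsF.f98a44f_7 : {f // @Cfsg.Agent.H840.M11.zn = f} := ⟨_, by first | (delta Cfsg.Agent.H840.M11.zn; rewrite [Cfsg.Agent.LsF.ineg_pat]; exact rfl) | exact rfl⟩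
private noncomputable def _root_.Cfsg.Agent.LsF.f98a44f_8 : {f // @Cfsg.Agent.H840.M11.om = f} := ⟨_, by first | (delta Cfsg.Agent.H840.M11.om; rewrite [Cfsg.Agent.LsF.f98a44f_6.2, Cfsg.Agent.LsF.f98a44f_7.2, Cfsg.Agent.LsF.instDecEq_eq, Cfsg.Agent.LsF.decLt_eq, Cfsg.Agent.LsF.map_eq, Cfsg.Agent.LsF.ite_eq]; exact rfl) | exact rfl⟩
private noncomputable def _root_.Cfsg.Agent.LsF.f98a44f_9 : {f // @Cfsg.Agent.H840.M11.chk3 = f} := ⟨_, by first | (delta Cfsg.Agent.H840.M11.chk3; rewrite [Cfsg.Agent.LsF.f98a44f_1.2, Cfsg.Agent.LsF.f98a44f_5.2, Cfsg.Agent.LsF.f98a44f_8.2, Cfsg.Agent.LsF.or_eq, Cfsg.Agent.LsF.not_eq, Cfsg.Agent.LsF.decLt_eq, Cfsg.Agent.LsF.all_eq, Cfsg.Agent.LsF.range_eq, Cfsg.Agent.LsF.getD_eq, Cfsg.Agent.LsF.decide_eq]; exact rfl) | exact rfl⟩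
private noncomputable def _root_.Cfsg.Agent.LsF.f98a44f_10 : {f // @Cfsg.Agent.H840.M11.Mt = f} := ⟨_, by first | (delta Cfsg.Agent.H840.M11.Mt; rewrite [Cfsg.Agent.LsF.getD_eq]; exact rfl) | exact rfl⟩
private noncomputable def _root_.Cfsg.Agent.LsF.f98a44f_11 : {f // @Cfsg.Agent.H840.M11.pp = f} := ⟨_, by first | (delta Cfsg.Agent.H840.M11.pp; rewrite [Cfsg.Agent.LsF.getD_eq]; exact rfl) | exact rfl⟩
theorem chk_pp : ∀ i < 3, chk3 (Mt i) (pp i) = true := by (refine of_decide_eq_true ?_; (try (rewrite [Cfsg.Agent.LsF.f98a44f_9.2, Cfsg.Agent.LsF.f98a44f_10.2, Cfsg.Agent.LsF.f98a44f_11.2, Cfsg.Agent.LsF.dBoolEq_eq, Cfsg.Agent.LsF.dBallLT_eq, Cfsg.Agent.LsF.decide_eq])); decide +kernel)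

end Cfsg.Agent.H840.M11
end

-- part: H840/M11/Dec
section
/-!
# `M11` : generators, double cosets of the point stabiliser
-/

set_option autoImplicit false
set_option maxRecDepth 100000

namespace Cfsg.Agent.H840.M11

open Cfsg Cfsg.Agent.CoThreeStd.MTwelve Cfsg.Agent.H6.M11

/-- equality of two elements -/
theorem ev_eq {w w' : List ℕ} (h : eqW (w.flatMap W) (w'.flatMap W) = true) : ev v11 w = ev v11 w' := by
  apply Subgroup.inclusion_injective M11_le
  rw [map_ev, map_ev]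
  change ev vH w = ev vH w'
  rw [ev_vH, ev_vH]
  exact wd_eq h

/-- the generators -/
def gu (i : ℕ) : Spor.M11 := ev v11 (UL i)

/-- words in the generators -/
theorem ev_gu (w : List ℕ) : ev gu w = ev v11 (w.flatMap UL) := by
  induction w with
  | nil => rfl
  | cons i w ih => rw [ev_cons, ih, List.flatMap_cons, ev_append]; rfl

/-- words of the transversal -/
def cw (j : ℕ) : List ℕ := [
  [],
  [0, 0, 2],
  [0, 1, 0, 2],
  [2],
  [0, 1, 2],
  [1, 1, 2],
  [0, 1, 1, 2],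
  [0, 0, 0, 2],
  [1, 0, 2],
  [1, 2],
  [0, 2]].getD j []
/-- table of the first generator -/
def r5 (j : ℕ) : ℕ × List ℕ := [
  (8, [1, 1, 0, 1, 1, 0, 0, 1, 1, 0]),
  (4, [0, 0, 0, 0, 0, 1, 0, 1, 0, 0, 0]),
  (10, [1, 0, 1, 1, 0, 1, 1, 0, 0, 1]),
  (6, [0, 0, 1, 0, 1, 0, 0, 0]),
  (2, [0, 1, 0, 0, 0, 1, 1, 0, 0, 1]),
  (7, [1, 0, 0, 0, 0, 0, 1, 0, 0, 0]),
  (9, [1, 0, 1, 0, 1, 0, 0, 0, 1, 1, 0]),
  (1, [1, 0, 1, 0, 0, 0]),
  (3, [1, 1, 0, 0, 1, 0, 1, 0, 0, 1, 1]),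
  (5, [0, 1, 1, 0, 1]),
  (0, [1, 0, 1, 1, 0, 0, 1, 1, 0, 1])].getD j (0, [])
/-- table of the second generator -/
def r8 (j : ℕ) : ℕ × List ℕ := [
  (6, [0, 0, 0, 1, 0, 1, 0, 0, 0, 1, 0]),
  (1, [1, 1, 0, 0, 1, 0, 1, 0, 0, 1, 1, 0]),
  (7, [0, 1, 1, 0, 1, 1, 0, 0, 0]),
  (10, [1, 1, 0, 1, 1, 0, 0, 1, 1, 0]),
  (9, [1, 0, 1, 1, 0, 0, 0, 1, 0, 1, 0]),
  (5, [1, 1, 0, 1, 1, 0, 0, 0, 1]),
  (0, [1, 0, 1, 0, 1, 0, 0, 0, 1, 1, 0]),
  (2, [0, 1, 0, 1, 0, 0, 0, 0, 0, 1]),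
  (8, [0, 0, 0, 1, 1, 0]),
  (4, [0, 1, 0, 1, 0, 0, 0, 1, 1, 0, 1]),
  (3, [0, 1, 1, 0, 0, 1, 1, 0, 1])].getD j (0, [])

theorem cw_facts : cw 0 = [] ∧ ∀ j < 11, j ≠ 0 → (cw j).getLast? = some 2 ∧ (cw j).dropLast.all (fun i => decide (i < 2)) = true := by
  decide

private noncomputable def _root_.Cfsg.Agent.LsF.f98a44f_12 : {f // @Cfsg.Agent.H840.M11.r5 = f} := ⟨_, by first | (delta Cfsg.Agent.H840.M11.r5; rewrite [Cfsg.Agent.LsF.getD_eq]; exact rfl) | exact rfl⟩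
private noncomputable def _root_.Cfsg.Agent.LsF.f98a44f_13 : {f // @Cfsg.Agent.CoThreeStd.MTwelve.allB = f} := ⟨_, by first | (delta Cfsg.Agent.CoThreeStd.MTwelve.allB Nat.brecOn.go Nat.brecOn Cfsg.Agent.CoThreeStd.MTwelve.allB._f; rewrite [Cfsg.Agent.LsF.and_eq]; (try delta Cfsg.Agent.CoThreeStd.MTwelve.allB.match_1); (try delta Nat.casesOn); first | dsimp -zeta only | exact rfl) | exact rfl⟩
private noncomputable def _root_.Cfsg.Agent.LsF.f98a44f_14 : {f // @Cfsg.Agent.CoThreeStd.MTwelve.ptab = f} := ⟨_, by first | (delta Cfsg.Agent.CoThreeStd.MTwelve.ptab; (try delta Cfsg.Agent.CoThreeStd.MTwelve.gen.match_1); (try rewrite [Cfsg.Agent.LsF.instDecEq_eq, Cfsg.Agent.LsF.dite_eq]); exact rfl) | exact rfl⟩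
private noncomputable def _root_.Cfsg.Agent.LsF.f98a44f_15 : {f // @Cfsg.Agent.CoThreeStd.MTwelve.act = f} := ⟨_, by first | (delta Cfsg.Agent.CoThreeStd.MTwelve.act List.brecOn List.brecOn.go Cfsg.Agent.CoThreeStd.MTwelve.act._f; rewrite [Cfsg.Agent.LsF.f98a44f_14.2, Cfsg.Agent.LsF.nmul_pat, Cfsg.Agent.LsF.nmod_pat, Cfsg.Agent.LsF.nshr_pat]; (try delta Cfsg.Agent.CoThreeStd.MTwelve.act.match_1); (try delta List.casesOn); first | dsimp -zeta only | exact rfl) | exact rfl⟩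
private noncomputable def _root_.Cfsg.Agent.LsF.f98a44f_16 : {f // @Cfsg.Agent.CoThreeStd.MTwelve.eqW = f} := ⟨_, by first | (delta Cfsg.Agent.CoThreeStd.MTwelve.eqW; rewrite [Cfsg.Agent.LsF.f98a44f_13.2, Cfsg.Agent.LsF.f98a44f_15.2]; exact rfl) | exact rfl⟩
private noncomputable def _root_.Cfsg.Agent.LsF.f98a44f_17 : {f // @Cfsg.Agent.H6.M11.W = f} := ⟨_, by first | (delta Cfsg.Agent.H6.M11.W; (try delta Cfsg.Agent.H6.M11.W.match_1); (try rewrite [Cfsg.Agent.LsF.instDecEq_eq, Cfsg.Agent.LsF.dite_eq]); exact rfl) | exact rfl⟩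
private noncomputable def _root_.Cfsg.Agent.LsF.f98a44f_18 : {f // @Cfsg.Agent.H840.M11.UL = f} := ⟨_, by first | (delta Cfsg.Agent.H840.M11.UL; rewrite [Cfsg.Agent.LsF.getD_eq]; exact rfl) | exact rfl⟩
private noncomputable def _root_.Cfsg.Agent.LsF.f98a44f_19 : {f // @Cfsg.Agent.H840.M11.cw = f} := ⟨_, by first | (delta Cfsg.Agent.H840.M11.cw; rewrite [Cfsg.Agent.LsF.getD_eq]; exact rfl) | exact rfl⟩
theorem r5_facts : ∀ j < 11, (r5 j).1 < 11 ∧ (r5 j).2.all (fun i => decide (i < 2)) = true ∧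
    eqW ((5 :: (cw j).flatMap UL).flatMap W) (((cw (r5 j).1 ++ (r5 j).2).flatMap UL).flatMap W) = true := by
  (refine of_decide_eq_true ?_; (try (rewrite [Cfsg.Agent.LsF.f98a44f_12.2, Cfsg.Agent.LsF.f98a44f_16.2, Cfsg.Agent.LsF.f98a44f_17.2, Cfsg.Agent.LsF.f98a44f_18.2, Cfsg.Agent.LsF.f98a44f_19.2, Cfsg.Agent.LsF.lappend_pat, Cfsg.Agent.LsF.decLt_eq, Cfsg.Agent.LsF.all_eq, Cfsg.Agent.LsF.flatMap_eq, Cfsg.Agent.LsF.dAnd_eq, Cfsg.Agent.LsF.dBoolEq_eq, Cfsg.Agent.LsF.dBallLT_eq, Cfsg.Agent.LsF.decide_eq])); decide +kernel)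

private noncomputable def _root_.Cfsg.Agent.LsF.f98a44f_20 : {f // @Cfsg.Agent.H840.M11.r8 = f} := ⟨_, by first | (delta Cfsg.Agent.H840.M11.r8; rewrite [Cfsg.Agent.LsF.getD_eq]; exact rfl) | exact rfl⟩
theorem r8_facts : ∀ j < 11, (r8 j).1 < 11 ∧ (r8 j).2.all (fun i => decide (i < 2)) = true ∧
    eqW ((8 :: (cw j).flatMap UL).flatMap W) (((cw (r8 j).1 ++ (r8 j).2).flatMap UL).flatMap W) = true := by
  (refine of_decide_eq_true ?_; (try (rewrite [Cfsg.Agent.LsF.f98a44f_20.2, Cfsg.Agent.LsF.f98a44f_16.2, Cfsg.Agent.LsF.f98a44f_17.2, Cfsg.Agent.LsF.f98a44f_18.2, Cfsg.Agent.LsF.f98a44f_19.2, Cfsg.Agent.LsF.lappend_pat, Cfsg.Agent.LsF.decLt_eq, Cfsg.Agent.LsF.all_eq, Cfsg.Agent.LsF.flatMap_eq, Cfsg.Agent.LsF.dAnd_eq, Cfsg.Agent.LsF.dBoolEq_eq, Cfsg.Agent.LsF.dBallLT_eq, Cfsg.Agent.LsF.decide_eq])); decide +kernel)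

/-- the point stabiliser -/
def M0 : Subgroup Spor.M11 := Subgroup.closure {gu 0, gu 1}

theorem ev_mem_M0 {w : List ℕ} (h : w.all (fun i => decide (i < 2)) = true) : ev gu w ∈ M0 := by
  induction w with
  | nil => exact M0.one_mem
  | cons i w ih =>
    rw [List.all_cons, Bool.and_eq_true] at h
    rw [ev_cons]
    refine M0.mul_mem ?_ (ih h.2)
    have hi : i < 2 := of_decide_eq_true h.1
    interval_cases i
    · exact Subgroup.subset_closure (Or.inl rfl)
    · exact Subgroup.subset_closure (Or.inr rfl)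

/-- left cosets -/
theorem exists_cos (p : Spor.M11) : ∃ j < 11, ∃ r ∈ M0, p = ev gu (cw j) * r := by
  have hfin : Finite Spor.M11 := inferInstance
  -- multiplication by the generators
  have step5 : ∀ x : Spor.M11, (∃ j < 11, ∃ r ∈ M0, x = ev gu (cw j) * r) →
      ∃ j < 11, ∃ r ∈ M0, v11 5 * x = ev gu (cw j) * r := by
    rintro x ⟨j, hj, r, hr, rfl⟩
    obtain ⟨h1, h2, h3⟩ := r5_facts j hj
    refine ⟨_, h1, ev gu (r5 j).2 * r, M0.mul_mem (ev_mem_M0 h2) hr, ?_⟩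
    have h4 := ev_eq h3
    rw [ev_cons, ← ev_gu, ← ev_gu, ev_append] at h4
    rw [← mul_assoc, h4, mul_assoc]
  have step8 : ∀ x : Spor.M11, (∃ j < 11, ∃ r ∈ M0, x = ev gu (cw j) * r) →
      ∃ j < 11, ∃ r ∈ M0, v11 8 * x = ev gu (cw j) * r := by
    rintro x ⟨j, hj, r, hr, rfl⟩
    obtain ⟨h1, h2, h3⟩ := r8_facts j hj
    refine ⟨_, h1, ev gu (r8 j).2 * r, M0.mul_mem (ev_mem_M0 h2) hr, ?_⟩
    have h4 := ev_eq h3
    rw [ev_cons, ← ev_gu, ← ev_gu, ev_append] at h4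
    rw [← mul_assoc, h4, mul_assoc]
  have key : ∀ y : Spor.M11, ∀ x : Spor.M11, (∃ j < 11, ∃ r ∈ M0, x = ev gu (cw j) * r) →
      ∃ j < 11, ∃ r ∈ M0, y * x = ev gu (cw j) * r := by
    intro y
    have hy : y ∈ Subgroup.closure ({v11 5, v11 8} : Set Spor.M11) := by rw [closure_11]; trivial
    induction hy using Subgroup.closure_induction with
    | mem y hy =>
      rcases hy with rfl | hy
      · exact step5
      · rw [Set.mem_singleton_iff.1 hy]; exact step8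
    | one => intro x hx; rwa [one_mul]
    | mul a b _ _ ha hb => intro x hx; rw [mul_assoc]; exact ha _ (hb _ hx)
    | inv a _ ha =>
      have h1 : a⁻¹ = a ^ (orderOf a - 1) := by
        rw [inv_eq_iff_mul_eq_one, ← pow_succ', Nat.sub_add_cancel (orderOf_pos a), pow_orderOf_eq_one]
      rw [h1]
      generalize orderOf a - 1 = m
      induction m with
      | zero => intro x hx; rwa [pow_zero, one_mul]
      | succ m ih => intro x hx; rw [pow_succ, mul_assoc]; exact ih _ (ha _ hx)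
  have := key p 1 ⟨0, by norm_num, 1, M0.one_mem, by rw [cw_facts.1, ev_nil, one_mul]⟩
  rwa [mul_one] at this

/-- double cosets -/
theorem dec11 (p : Spor.M11) : p ∈ M0 ∨ ∃ b ∈ M0, ∃ c ∈ M0, p = b * gu 2 * c := by
  obtain ⟨j, hj, r, hr, rfl⟩ := exists_cos p
  by_cases h0 : j = 0
  · left
    rw [h0, cw_facts.1, ev_nil, one_mul]
    exact hr
  · right
    obtain ⟨h1, h2⟩ := cw_facts.2 j hj h0
    have h3 : cw j = (cw j).dropLast ++ [2] := by
      rw [List.dropLast_append_getLast?]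
      exact h1
    refine ⟨ev gu (cw j).dropLast, ev_mem_M0 h2, r, hr, ?_⟩
    conv_lhs => rw [h3]
    rw [ev_append, ev_cons, ev_nil, mul_one]

theorem gen_gu : Subgroup.closure ({gu 0, gu 1, gu 2} : Set Spor.M11) = ⊤ := by
  rw [eq_top_iff]
  intro p _
  have hle : M0 ≤ Subgroup.closure ({gu 0, gu 1, gu 2} : Set Spor.M11) := by
    unfold M0
    apply Subgroup.closure_mono
    rintro x (rfl | hx)
    · exact Or.inl rfl
    · exact Or.inr (Or.inl hx)
  have h2 : gu 2 ∈ Subgroup.closure ({gu 0, gu 1, gu 2} : Set Spor.M11) := Subgroup.subset_closure (Or.inr (Or.inr rfl))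
  rcases dec11 p with h | ⟨b, hb, c, hc, rfl⟩
  · exact hle h
  · exact Subgroup.mul_mem _ (Subgroup.mul_mem _ (hle hb) h2) (hle hc)

/-- every automorphism is inner -/
theorem inner (φ : MulAut Spor.M11) : ∃ p : Spor.M11, ∀ x, φ x = p * x * p⁻¹ := by
  have h := (Nat.card_eq_one_iff_unique.1 S2060.result).1
  have h1 : (QuotientGroup.mk φ : Out Spor.M11) = QuotientGroup.mk 1 := Subsingleton.elim _ _
  have h2 : φ ∈ Inn Spor.M11 := by
    have h3 := QuotientGroup.eq.1 h1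
    rw [mul_one] at h3
    exact (Subgroup.inv_mem_iff _).1 h3
  obtain ⟨p, hp⟩ := h2
  exact ⟨p, fun x => by rw [← hp]; rfl⟩

end Cfsg.Agent.H840.M11
end

private theorem dce_3adb4d26d1f1 : _root_.True := by
  try have : _root_.True := by simp only [_root_.Cfsg.Agent.H840.M11.zm.eq_1]
  try have : _root_.True := by simp only [_root_.Cfsg.Agent.H840.M11.zn.eq_1]
  try have : _root_.True := by simp only [_root_.Cfsg.Agent.H840.M11.app.eq_1]
  try have : _root_.True := by simp only [_root_.Cfsg.Agent.H840.M11.zc.eq_1]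
  try have : _root_.True := by simp only [_root_.Cfsg.Agent.H840.M11.dot.eq_def]
  try have : _root_.True := by simp only [_root_.Cfsg.Agent.H840.M11.zf.eq_1]
  try have : _root_.True := by simp only [_root_.Cfsg.Agent.H840.M11.za.eq_1]
  try have : _root_.True := by simp only [_root_.Cfsg.Agent.H840.M11.zr.eq_1]
  try have : _root_.True := by simp only [_root_.Cfsg.Agent.H840.M11.dot._sparseCasesOn_1.else_eq]
  try have : _root_.True := by simp only [_root_.Cfsg.Agent.H840.M11.dot.eq_1]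
  try have : _root_.True := by simp only [_root_.Cfsg.Agent.H840.M11.dot.eq_2]
  exact _root_.True.intro
end

-- part: H840/M11/Rho
section
set_option linter.all false
open scoped Cfsg.Agent.FastGrp

-- part: H840/M11/Hom
section
/-!
# Homomorphisms into matrix groups from generators
-/

set_option autoImplicit false

namespace Cfsg.Agent.H840.M11

open scoped Matrix

/-- A homomorphism from the action of generators on a spanning set. -/
theorem exists_hom {G : Type*} [Group G] [Finite G] {Ω : Type*} [MulAction G Ω] {n : ℕ} {F : Type*} [Field F]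
    (ω : Ω → Fin n → F) (S : Set Ω) (X : Set G) (hX : Subgroup.closure X = ⊤) (A : G → Matrix (Fin n) (Fin n) F)
    (h : ∀ x ∈ X, ∀ o ∈ S, x • o ∈ S ∧ A x *ᵥ ω o = ω (x • o)) (hs : Submodule.span F (ω '' S) = ⊤) :
    ∃ ρ : G →* Matrix (Fin n) (Fin n) F, (∀ g, ∀ o ∈ S, g • o ∈ S ∧ ρ g *ᵥ ω o = ω (g • o)) ∧ ∀ x ∈ X, ρ x = A x := by
  have uniq : ∀ (g : G) (B C : Matrix (Fin n) (Fin n) F), (∀ o ∈ S, B *ᵥ ω o = ω (g • o)) →
      (∀ o ∈ S, C *ᵥ ω o = ω (g • o)) → B = C := by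
    intro g B C hB hC
    have h1 : ∀ v : Fin n → F, B *ᵥ v = C *ᵥ v := by
      intro v
      have hv : v ∈ Submodule.span F (ω '' S) := by rw [hs]; trivial
      induction hv using Submodule.span_induction with
      | mem v hv => obtain ⟨o, ho, rfl⟩ := hv; rw [hB o ho, hC o ho]
      | zero => rw [Matrix.mulVec_zero, Matrix.mulVec_zero]
      | add x y _ _ hx hy => rw [Matrix.mulVec_add, Matrix.mulVec_add, hx, hy]
      | smul c x _ hx => rw [Matrix.mulVec_smul, Matrix.mulVec_smul, hx]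
    exact Matrix.ext_of_mulVec_single fun i => h1 _
  have ex : ∀ g : G, ∃ B : Matrix (Fin n) (Fin n) F, ∀ o ∈ S, g • o ∈ S ∧ B *ᵥ ω o = ω (g • o) := by
    have mul : ∀ a b : G, (∃ B : Matrix (Fin n) (Fin n) F, ∀ o ∈ S, a • o ∈ S ∧ B *ᵥ ω o = ω (a • o)) →
        (∃ B : Matrix (Fin n) (Fin n) F, ∀ o ∈ S, b • o ∈ S ∧ B *ᵥ ω o = ω (b • o)) →
        ∃ B : Matrix (Fin n) (Fin n) F, ∀ o ∈ S, (a * b) • o ∈ S ∧ B *ᵥ ω o = ω ((a * b) • o) := by
      rintro a b ⟨B, hB⟩ ⟨C, hC⟩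
      refine ⟨B * C, fun o ho => ?_⟩
      rw [mul_smul, ← Matrix.mulVec_mulVec, (hC o ho).2]
      exact hB _ (hC o ho).1
    have one : ∃ B : Matrix (Fin n) (Fin n) F, ∀ o ∈ S, (1 : G) • o ∈ S ∧ B *ᵥ ω o = ω ((1 : G) • o) :=
      ⟨1, fun o ho => by rw [one_smul, Matrix.one_mulVec]; exact ⟨ho, rfl⟩⟩
    intro g
    have hg : g ∈ Subgroup.closure X := by rw [hX]; trivial
    induction hg using Subgroup.closure_induction with
    | mem x hx => exact ⟨A x, h x hx⟩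
    | one => exact one
    | mul a b _ _ ha hb => exact mul a b ha hb
    | inv a _ ha =>
      have h1 : a⁻¹ = a ^ (orderOf a - 1) := by
        rw [inv_eq_iff_mul_eq_one, ← pow_succ', Nat.sub_add_cancel (orderOf_pos a), pow_orderOf_eq_one]
      rw [h1]
      generalize orderOf a - 1 = m
      induction m with
      | zero => rw [pow_zero]; exact one
      | succ m ih => rw [pow_succ]; exact mul _ _ ih ha
  choose R hR using ex
  refine ⟨⟨⟨R, ?_⟩, ?_⟩, hR, ?_⟩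
  · apply uniq 1 _ _ (fun o ho => (hR 1 o ho).2)
    intro o _
    rw [one_smul, Matrix.one_mulVec]
  · intro a b
    apply uniq (a * b) _ _ (fun o ho => (hR (a * b) o ho).2)
    intro o ho
    rw [mul_smul, ← Matrix.mulVec_mulVec, (hR b o ho).2]
    exact (hR a _ (hR b o ho).1).2
  · intro x hx
    exact uniq x _ _ (fun o ho => (hR x o ho).2) (fun o ho => (h x hx o ho).2)

/-- Homomorphisms with the same traces : the second one spans if the first one does. -/
theorem span_of_trace {G : Type*} [Group G] {ι : Type} [Fintype ι] [DecidableEq ι] {F : Type*} [Field F]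
    (ρ₁ ρ₂ : G →* Matrix ι ι F) (h₁ : Submodule.span F (Set.range ρ₁) = ⊤)
    (htr : ∀ g, (ρ₁ g).trace = (ρ₂ g).trace) : Submodule.span F (Set.range ρ₂) = ⊤ := by
  classical
  obtain ⟨b, hb, hsp, hli⟩ := exists_linearIndependent F (Set.range ρ₁)
  rw [h₁] at hsp
  choose f hf using fun x : b => hb x.2
  have hli2 : LinearIndependent F (fun x : b => ρ₂ (f x)) := by
    rw [linearIndependent_iff'] at hli ⊢
    intro t c hc
    apply hli t c
    -- traces against everything vanish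
    have key : ∀ g : G, ((∑ i ∈ t, c i • (i : Matrix ι ι F)) * ρ₁ g).trace = 0 := by
      intro g
      have h1 : ((∑ i ∈ t, c i • ρ₂ (f i)) * ρ₂ g).trace = 0 := by rw [hc, zero_mul, Matrix.trace_zero]
      rw [Finset.sum_mul, Matrix.trace_sum] at h1 ⊢
      rw [← h1]
      refine Finset.sum_congr rfl fun i _ => ?_
      rw [smul_mul_assoc, smul_mul_assoc, Matrix.trace_smul, Matrix.trace_smul, ← hf i, ← map_mul, ← map_mul, htr]
    have h2 : ∀ Y : Matrix ι ι F, ((∑ i ∈ t, c i • (i : Matrix ι ι F)) * Y).trace = 0 := by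
      intro Y
      have hY : Y ∈ Submodule.span F (Set.range ρ₁) := by rw [h₁]; trivial
      induction hY using Submodule.span_induction with
      | mem s hs => obtain ⟨g, rfl⟩ := hs; exact key g
      | zero => simp
      | add a b _ _ ha hb => rw [mul_add, Matrix.trace_add, ha, hb, add_zero]
      | smul c a _ ha => rw [mul_smul_comm, Matrix.trace_smul, ha, smul_zero]
    exact Matrix.ext_iff_trace_mul_right.2 (fun Y => by rw [h2 Y, zero_mul, Matrix.trace_zero])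
  have hfin : Finite b := hli.finite
  have := Fintype.ofFinite b
  have hbas : LinearIndependent F (fun x : b => (x : Matrix ι ι F)) := hli
  have hcard : Fintype.card b = Module.finrank F (Matrix ι ι F) := by
    have h3 := finrank_span_eq_card (R := F) hbas
    rw [Subtype.range_coe, hsp, finrank_top] at h3
    exact h3.symm
  have h4 := hli2.span_eq_top_of_card_eq_finrank' hcard
  rw [eq_top_iff, ← h4]
  apply Submodule.span_mono
  rintro _ ⟨x, rfl⟩
  exact ⟨f x, rfl⟩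

end Cfsg.Agent.H840.M11
end

-- part: H840/M11/Rho
section
/-!
# The ten-dimensional representation of `M11`
-/

set_option autoImplicit false
set_option linter.unusedSectionVars false
set_option linter.unusedVariables false
set_option maxRecDepth 100000

namespace Cfsg.Agent.H840.M11

open Cfsg Cfsg.Agent.CoThreeStd.MTwelve Cfsg.Agent.H6.M11 Cfsg.Agent.SporadicStructure.M11InvPerms
open scoped Matrix

/-! ### the action on points -/

theorem ix_facts : (∀ i < 11, ix (pc i) = i ∧ pc i < 24) ∧ ∀ c < 24, ix c < 11 → pc (ix c) = c := by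
  decide +kernel

theorem enc_smul (w : List ℕ) (p : GolayPt) : enc (ev v11 w • p) = act (w.flatMap W) (enc p) := by
  have h1 : ∀ w : List ℕ, ((ev v11 w : Spor.M11) : Equiv.Perm GolayPt) = ((wd (w.flatMap W) : Spor.M12) : Equiv.Perm GolayPt) := by
    intro w
    rw [← ev_vH]
    have h2 := map_ev v11 (Subgroup.inclusion M11_le) w
    have h3 := congrArg (fun x : Spor.M12 => (x : Equiv.Perm GolayPt)) h2
    exact h3
  change enc (((ev v11 w : Spor.M11) : Equiv.Perm GolayPt) p) = _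
  rw [h1]
  have h2 := (act_spec (w.flatMap W) (enc p) (enc_lt p)).1
  rwa [dec_enc] at h2

/-- index of a point -/
def ixp (p : GolayPt) : ℕ := ix (enc p)

theorem pp_spec (i : ℕ) (hi : i < 3) (p : GolayPt) (hp : ixp p < 11) :
    ixp (gu i • p) = (pp i).getD (ixp p) 0 ∧ (pp i).getD (ixp p) 0 < 11 := by
  have h1 : (pp i).getD (ixp p) 0 = ix (act ((UL i).flatMap W) (pc (ixp p))) := by
    rw [← pp_eq i hi, pi11, getD_map_range _ _ _ _ hp]
  have h2 : pc (ixp p) = enc p := ix_facts.2 _ (enc_lt p) hp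
  constructor
  · rw [h1, h2]
    unfold ixp
    rw [gu, enc_smul]
  · have h3 : ∀ i < 3, ∀ j < 11, (pp i).getD j 0 < 11 := by decide
    exact h3 i hi _ hp

/-! ### the vectors -/

private noncomputable def _root_.Cfsg.Agent.LsF.f96cc18_0 : {f // @Cfsg.Agent.H840.M11.zr = f} := ⟨_, by first | (delta Cfsg.Agent.H840.M11.zr; rewrite [Cfsg.Agent.LsF.imod_pat]; exact rfl) | exact rfl⟩
private noncomputable def _root_.Cfsg.Agent.LsF.f96cc18_1 : {f // @Cfsg.Agent.H840.M11.eqv = f} := ⟨_, by first | (delta Cfsg.Agent.H840.M11.eqv; rewrite [Cfsg.Agent.LsF.f96cc18_0.2, Cfsg.Agent.LsF.dProdEq_eq, Cfsg.Agent.LsF.all_eq, Cfsg.Agent.LsF.range_eq, Cfsg.Agent.LsF.getD_eq, Cfsg.Agent.LsF.instIDecEq_eq, Cfsg.Agent.LsF.decide_eq]; exact rfl) | exact rfl⟩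
private noncomputable def _root_.Cfsg.Agent.LsF.f96cc18_2 : {f // @Cfsg.Agent.H840.M11.tab = f} := ⟨_, by first | (delta Cfsg.Agent.H840.M11.tab; rewrite [Cfsg.Agent.LsF.nsub_pat, Cfsg.Agent.LsF.getD_eq]; exact rfl) | exact rfl⟩
private noncomputable def _root_.Cfsg.Agent.LsF.f96cc18_3 : {f // @Cfsg.Agent.H840.M11.zn = f} := ⟨_, by first | (delta Cfsg.Agent.H840.M11.zn; rewrite [Cfsg.Agent.LsF.ineg_pat]; exact rfl) | exact rfl⟩
private noncomputable def _root_.Cfsg.Agent.LsF.f96cc18_4 : {f // @Cfsg.Agent.H840.M11.om = f} := ⟨_, by first | (delta Cfsg.Agent.H840.M11.om; rewrite [Cfsg.Agent.LsF.f96cc18_2.2, Cfsg.Agent.LsF.f96cc18_3.2, Cfsg.Agent.LsF.instDecEq_eq, Cfsg.Agent.LsF.decLt_eq, Cfsg.Agent.LsF.map_eq, Cfsg.Agent.LsF.ite_eq]; exact rfl) | exact rfl⟩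
theorem om_alt : ∀ i < 11, ∀ j < 11, ∀ k < 11, eqv 0 10 (om j i k) ((om i j k).map zn) = true ∧
    eqv 0 10 (om i k j) ((om i j k).map zn) = true := by (refine of_decide_eq_true ?_; (try (rewrite [Cfsg.Agent.LsF.f96cc18_1.2, Cfsg.Agent.LsF.f96cc18_4.2, Cfsg.Agent.LsF.f96cc18_3.2, Cfsg.Agent.LsF.map_eq, Cfsg.Agent.LsF.dAnd_eq, Cfsg.Agent.LsF.dBoolEq_eq, Cfsg.Agent.LsF.dBallLT_eq, Cfsg.Agent.LsF.decide_eq])); decide +kernel)

theorem om_diag : ∀ i < 11, ∀ j < 11, om i i j = [] ∧ om i j j = [] ∧ om i j i = [] := by decide +kernel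

/-- indices of the ten triples -/
def bk (k : ℕ) : ℕ × ℕ × ℕ := bt.getD k (0, 0, 0)

/-- the matrix of the ten vectors -/
def OT : List (List Zs) := (List.range 10).map fun i => (List.range 10).map fun k =>
  (om (bk k).1 (bk k).2.1 (bk k).2.2).getD i (0, 0)

theorem OT_ok : okm 10 OT = true ∧ okm 10 U1 = true ∧ okm 10 U2 = true ∧ okm 10 Aa = true ∧ okm 10 Gg = true ∧
    okm 10 Ph = true ∧ okm 10 Ps = true := by decide +kernel

private noncomputable def _root_.Cfsg.Agent.LsF.f96cc18_5 : {f // @Cfsg.Agent.H840.M11.za = f} := ⟨_, by first | (delta Cfsg.Agent.H840.M11.za; rewrite [Cfsg.Agent.LsF.iadd_pat]; exact rfl) | exact rfl⟩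
private noncomputable def _root_.Cfsg.Agent.LsF.f96cc18_6 : {f // @Cfsg.Agent.H840.M11.zm = f} := ⟨_, by first | (delta Cfsg.Agent.H840.M11.zm; rewrite [Cfsg.Agent.LsF.iadd_pat, Cfsg.Agent.LsF.imul_pat, Cfsg.Agent.LsF.isub_pat]; exact rfl) | exact rfl⟩
private noncomputable def _root_.Cfsg.Agent.LsF.f96cc18_7 : {f // @Cfsg.Agent.H840.M11.dot = f} := ⟨_, by first | (delta Cfsg.Agent.H840.M11.dot List.brecOn List.brecOn.go Cfsg.Agent.H840.M11.dot._f; rewrite [Cfsg.Agent.LsF.f96cc18_5.2, Cfsg.Agent.LsF.f96cc18_6.2]; (try delta Cfsg.Agent.H840.M11.dot.match_1); (try delta Cfsg.Agent.H840.M11.dot._sparseCasesOn_1); first | dsimp -zeta only | exact rfl) | exact rfl⟩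
private noncomputable def _root_.Cfsg.Agent.LsF.f96cc18_8 : {f // @Cfsg.Agent.H840.M11.mv = f} := ⟨_, by first | (delta Cfsg.Agent.H840.M11.mv; rewrite [Cfsg.Agent.LsF.f96cc18_7.2, Cfsg.Agent.LsF.map_eq]; exact rfl) | exact rfl⟩
private noncomputable def _root_.Cfsg.Agent.LsF.f96cc18_9 : {f // @Cfsg.Agent.H840.M11.bk = f} := ⟨_, by first | (delta Cfsg.Agent.H840.M11.bk; rewrite [Cfsg.Agent.LsF.getD_eq]; exact rfl) | exact rfl⟩
private noncomputable def _root_.Cfsg.Agent.LsF.f96cc18_10 : {f // @Cfsg.Agent.H840.M11.OT = f} := ⟨_, by first | (delta Cfsg.Agent.H840.M11.OT; rewrite [Cfsg.Agent.LsF.f96cc18_4.2, Cfsg.Agent.LsF.f96cc18_9.2, Cfsg.Agent.LsF.map_eq, Cfsg.Agent.LsF.range_eq, Cfsg.Agent.LsF.getD_eq]; exact rfl) | exact rfl⟩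
private noncomputable def _root_.Cfsg.Agent.LsF.f96cc18_11 : {f // @Cfsg.Agent.H840.M11.bv = f} := ⟨_, by first | (delta Cfsg.Agent.H840.M11.bv; rewrite [Cfsg.Agent.LsF.instDecEq_eq, Cfsg.Agent.LsF.map_eq, Cfsg.Agent.LsF.range_eq, Cfsg.Agent.LsF.ite_eq]; exact rfl) | exact rfl⟩
theorem cb_spec : ∀ j < 10, eqv 0 10 (mv OT (cb.getD j [])) ((bv 10 j).map fun x => za x x) = true := by (refine of_decide_eq_true ?_; (try (rewrite [Cfsg.Agent.LsF.f96cc18_1.2, Cfsg.Agent.LsF.f96cc18_8.2, Cfsg.Agent.LsF.f96cc18_10.2, Cfsg.Agent.LsF.f96cc18_5.2, Cfsg.Agent.LsF.f96cc18_11.2, Cfsg.Agent.LsF.map_eq, Cfsg.Agent.LsF.getD_eq, Cfsg.Agent.LsF.dBoolEq_eq, Cfsg.Agent.LsF.dBallLT_eq, Cfsg.Agent.LsF.decide_eq])); decide +kernel)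

theorem bk_lt : ∀ k < 10, (bk k).1 < 11 ∧ (bk k).2.1 < 11 ∧ (bk k).2.2 < 11 := by decide

section F

variable {F : Type*} [Field F] {s : F}

theorem tv_map_zn (n : ℕ) (w : List Zs) : tv s n (w.map zn) = -tv s n w := by
  ext i
  change zf s ((w.map zn).getD i (0, 0)) = -zf s (w.getD i (0, 0))
  rw [← zf_neg]
  congr 1
  by_cases hi : (i : ℕ) < w.length
  · rw [List.getD_eq_getElem _ _ (by rw [List.length_map]; exact hi), List.getElem_map,
      List.getD_eq_getElem _ _ hi]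
  · rw [List.getD_eq_default _ _ (by rw [List.length_map]; omega), List.getD_eq_default _ _ (by omega)]
    rfl

theorem tv_nil (n : ℕ) : tv s n [] = 0 := by
  ext i
  exact zf_zero s

theorem z0 : ((0 : ℤ) : F) = 0 := Int.cast_zero

theorem okM (i : ℕ) (hi : i < 3) : okm 10 (Mt i) = true := by
  obtain ⟨-, h1, h2, h3, -⟩ := OT_ok
  interval_cases i
  · exact h1
  · exact h2
  · exact h3

/-- alternation -/
theorem tv_swap12 {i j k : ℕ} (hi : i < 11) (hj : j < 11) (hk : k < 11) :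
    tv s 10 (om j i k) = -tv s 10 (om i j k) := by
  rw [eqv_spec z0 (om_alt i hi j hj k hk).1, tv_map_zn]

theorem tv_swap23 {i j k : ℕ} (hi : i < 11) (hj : j < 11) (hk : k < 11) :
    tv s 10 (om i k j) = -tv s 10 (om i j k) := by
  rw [eqv_spec z0 (om_alt i hi j hj k hk).2, tv_map_zn]

/-- the action of the generators on the vectors -/
theorem act_om (hs : s * s = -2) (m : ℕ) (hm : m < 3) {i j k : ℕ} (hi : i < 11) (hj : j < 11) (hk : k < 11) :
    tm s 10 (Mt m) *ᵥ tv s 10 (om i j k) =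
      tv s 10 (om ((pp m).getD i 0) ((pp m).getD j 0) ((pp m).getD k 0)) := by
  have hlt : ∀ i < 11, (pp m).getD i 0 < 11 := by
    have h3 : ∀ m < 3, ∀ j < 11, (pp m).getD j 0 < 11 := by decide
    exact h3 m hm
  have key : ∀ i j k : ℕ, i < 11 → j < 11 → k < 11 → i < j → j < k → tm s 10 (Mt m) *ᵥ tv s 10 (om i j k) =
      tv s 10 (om ((pp m).getD i 0) ((pp m).getD j 0) ((pp m).getD k 0)) := by
    intro i j k hi hj hk hij hjk
    have h1 := chk_pp m hm
    have h2 := List.all_eq_true.1 (List.all_eq_true.1 (List.all_eq_true.1 h1 i (List.mem_range.2 hi)) j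
      (List.mem_range.2 hj)) k (List.mem_range.2 hk)
    rw [decide_eq_true hij, decide_eq_true hjk] at h2
    simp only [Bool.not_true, Bool.false_or] at h2
    rw [mv_spec hs (okM m hm)]
    exact eqv_spec z0 h2
  have diag : ∀ i j : ℕ, i < 11 → j < 11 → tv s 10 (om i i j) = 0 ∧ tv s 10 (om i j j) = 0 ∧ tv s 10 (om i j i) = 0 := by
    intro i j hi hj
    obtain ⟨h1, h2, h3⟩ := om_diag i hi j hj
    rw [h1, h2, h3, tv_nil]
    exact ⟨rfl, rfl, rfl⟩
  have n12 : ∀ {i j k : ℕ}, i < 11 → j < 11 → k < 11 → tm s 10 (Mt m) *ᵥ tv s 10 (om i j k) =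
      tv s 10 (om ((pp m).getD i 0) ((pp m).getD j 0) ((pp m).getD k 0)) →
      tm s 10 (Mt m) *ᵥ tv s 10 (om j i k) =
      tv s 10 (om ((pp m).getD j 0) ((pp m).getD i 0) ((pp m).getD k 0)) := by
    intro i j k hi hj hk h
    rw [tv_swap12 hi hj hk, Matrix.mulVec_neg, h, tv_swap12 (hlt i hi) (hlt j hj) (hlt k hk)]
  have n23 : ∀ {i j k : ℕ}, i < 11 → j < 11 → k < 11 → tm s 10 (Mt m) *ᵥ tv s 10 (om i j k) =
      tv s 10 (om ((pp m).getD i 0) ((pp m).getD j 0) ((pp m).getD k 0)) →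
      tm s 10 (Mt m) *ᵥ tv s 10 (om i k j) =
      tv s 10 (om ((pp m).getD i 0) ((pp m).getD k 0) ((pp m).getD j 0)) := by
    intro i j k hi hj hk h
    rw [tv_swap23 hi hj hk, Matrix.mulVec_neg, h, tv_swap23 (hlt i hi) (hlt j hj) (hlt k hk)]
  by_cases h1 : i = j
  · subst h1
    rw [(diag i k hi hk).1, (diag _ _ (hlt i hi) (hlt k hk)).1, Matrix.mulVec_zero]
  by_cases h2 : j = k
  · subst h2
    rw [(diag i j hi hj).2.1, (diag _ _ (hlt i hi) (hlt j hj)).2.1, Matrix.mulVec_zero]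
  by_cases h3 : i = k
  · subst h3
    rw [(diag i j hi hj).2.2, (diag _ _ (hlt i hi) (hlt j hj)).2.2, Matrix.mulVec_zero]
  rcases Nat.lt_or_gt_of_ne h1 with h4 | h4
  · rcases Nat.lt_or_gt_of_ne h2 with h5 | h5
    · exact key i j k hi hj hk h4 h5
    · rcases Nat.lt_or_gt_of_ne h3 with h6 | h6
      · exact n23 hi hk hj (key i k j hi hk hj h6 h5)
      · exact n23 hi hk hj (n12 hk hi hj (key k i j hk hi hj h6 h4))
  · rcases Nat.lt_or_gt_of_ne h3 with h5 | h5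
    · exact n12 hj hi hk (key j i k hj hi hk h4 h5)
    · rcases Nat.lt_or_gt_of_ne h2 with h6 | h6
      · exact n12 hj hi hk (n23 hj hk hi (key j k i hj hk hi h6 h5))
      · exact n12 hj hi hk (n23 hj hk hi (n12 hk hj hi (key k j i hk hj hi h6 h4)))

variable (s) in
/-- the vector of a triple of points -/
noncomputable def omv (o : GolayPt × GolayPt × GolayPt) : Fin 10 → F :=
  tv s 10 (om (ixp o.1) (ixp o.2.1) (ixp o.2.2))

/-- the triples -/
def St : Set (GolayPt × GolayPt × GolayPt) := {o | ixp o.1 < 11 ∧ ixp o.2.1 < 11 ∧ ixp o.2.2 < 11}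

theorem ixp_dec {i : ℕ} (hi : i < 11) : ixp (dec (pc i)) = i := by
  unfold ixp
  rw [enc_dec _ (ix_facts.1 i hi).2, (ix_facts.1 i hi).1]

theorem span_omv (hs : s * s = -2) (h2 : (2 : F) ≠ 0) : Submodule.span F (omv s '' St) = ⊤ := by
  have h1 : ∀ j : Fin 10, (Pi.single j (1 : F) : Fin 10 → F) ∈ Submodule.span F (omv s '' St) := by
    intro j
    have h3 := eqv_spec (s := s) z0 (cb_spec j j.2)
    rw [← mv_spec hs OT_ok.1, Matrix.mulVec_eq_sum] at h3
    have h4 : tv s 10 ((bv 10 j).map fun x => za x x) = (2 : F) • (Pi.single j 1 : Fin 10 → F) := by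
      rw [← bv_spec (s := s)]
      ext i
      change zf s (((bv 10 j).map fun x => za x x).getD i (0, 0)) = 2 * zf s ((bv 10 j).getD i (0, 0))
      have hl : (i : ℕ) < (bv 10 j).length := by rw [bv, List.length_map, List.length_range]; exact i.2
      rw [List.getD_eq_getElem _ _ (by rw [List.length_map]; exact hl), List.getElem_map,
        List.getD_eq_getElem _ _ hl, zf_add, two_mul]
    rw [h4] at h3
    have h5 : (Pi.single j (1 : F) : Fin 10 → F) = (2 : F)⁻¹ • ((2 : F) • (Pi.single j 1 : Fin 10 → F)) := by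
      rw [smul_smul, inv_mul_cancel₀ h2, one_smul]
    rw [h5, ← h3]
    refine Submodule.smul_mem _ _ (Submodule.sum_mem _ fun k _ => ?_)
    have h6 : (tm s 10 OT)ᵀ k = omv s (dec (pc (bk k).1), dec (pc (bk k).2.1), dec (pc (bk k).2.2)) := by
      obtain ⟨b1, b2, b3⟩ := bk_lt k k.2
      unfold omv
      rw [ixp_dec b1, ixp_dec b2, ixp_dec b3]
      ext i
      change zf s ((OT.getD i []).getD k (0, 0)) = zf s ((om (bk k).1 (bk k).2.1 (bk k).2.2).getD i (0, 0))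
      unfold OT
      rw [getD_map_range _ _ _ _ i.2, getD_map_range _ _ _ _ k.2]
    have h7 : omv s (dec (pc (bk k).1), dec (pc (bk k).2.1), dec (pc (bk k).2.2)) ∈ Submodule.span F (omv s '' St) := by
      obtain ⟨b1, b2, b3⟩ := bk_lt k k.2
      refine Submodule.subset_span ⟨_, ⟨?_, ?_, ?_⟩, rfl⟩
      · rw [ixp_dec b1]; exact b1
      · rw [ixp_dec b2]; exact b2
      · rw [ixp_dec b3]; exact b3
    rw [← h6] at h7
    rw [op_smul_eq_smul]
    exact Submodule.smul_mem _ _ h7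
  rw [eq_top_iff]
  intro v _
  rw [← Finset.univ_sum_single v]
  refine Submodule.sum_mem _ fun i _ => ?_
  have : (Pi.single i (v i) : Fin 10 → F) = v i • (Pi.single i 1 : Fin 10 → F) := by
    rw [← Pi.single_smul, smul_eq_mul, mul_one]
  rw [this]
  exact Submodule.smul_mem _ _ (h1 i)

/-- **The representation.** -/
theorem exists_rho (hs : s * s = -2) (h2 : (2 : F) ≠ 0) :
    ∃ ρ : Spor.M11 →* Matrix (Fin 10) (Fin 10) F, ∀ i < 3, ρ (gu i) = tm s 10 (Mt i) := by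
  classical
  let A : Spor.M11 → Matrix (Fin 10) (Fin 10) F := fun x =>
    if x = gu 0 then tm s 10 (Mt 0) else if x = gu 1 then tm s 10 (Mt 1) else tm s 10 (Mt 2)
  have hne : gu 0 ≠ gu 1 ∧ gu 0 ≠ gu 2 ∧ gu 1 ≠ gu 2 := by
    have h : ∀ i < 3, ∀ j < 3, i ≠ j → act ((UL i).flatMap W) 1 ≠ act ((UL j).flatMap W) 1 ∨
        act ((UL i).flatMap W) 2 ≠ act ((UL j).flatMap W) 2 ∨ act ((UL i).flatMap W) 3 ≠ act ((UL j).flatMap W) 3 := by
      decide +kernel
    have key : ∀ i < 3, ∀ j < 3, i ≠ j → gu i ≠ gu j := by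
      intro i hi j hj hij heq
      have h3 : ∀ c < 24, act ((UL i).flatMap W) c = act ((UL j).flatMap W) c := by
        intro c hc
        have := congrArg (fun x : Spor.M11 => enc (x • dec c)) heq
        simp only [gu, enc_smul, enc_dec c hc] at this
        exact this
      rcases h i hi j hj hij with h4 | h4 | h4
      · exact h4 (h3 1 (by norm_num))
      · exact h4 (h3 2 (by norm_num))
      · exact h4 (h3 3 (by norm_num))
    exact ⟨key 0 (by norm_num) 1 (by norm_num) (by norm_num), key 0 (by norm_num) 2 (by norm_num) (by norm_num),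
      key 1 (by norm_num) 2 (by norm_num) (by norm_num)⟩
  have hA : ∀ i < 3, A (gu i) = tm s 10 (Mt i) := by
    intro i hi
    interval_cases i
    · exact if_pos rfl
    · exact (if_neg hne.1.symm).trans (if_pos rfl)
    · exact (if_neg hne.2.1.symm).trans (if_neg hne.2.2.symm)
  obtain ⟨ρ, -, hρ⟩ := exists_hom (omv s) St ({gu 0, gu 1, gu 2} : Set Spor.M11) gen_gu A (by
    intro x hx o ho
    obtain ⟨i, hi, rfl⟩ : ∃ i < 3, x = gu i := by
      rcases hx with rfl | rfl | hx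
      · exact ⟨0, by norm_num, rfl⟩
      · exact ⟨1, by norm_num, rfl⟩
      · exact ⟨2, by norm_num, hx⟩
    obtain ⟨p, q, r⟩ := o
    obtain ⟨hp, hq, hr⟩ := ho
    obtain ⟨p1, p2⟩ := pp_spec i hi p hp
    obtain ⟨q1, q2⟩ := pp_spec i hi q hq
    obtain ⟨r1, r2⟩ := pp_spec i hi r hr
    refine ⟨⟨?_, ?_, ?_⟩, ?_⟩
    · change ixp (gu i • p) < 11
      rw [p1]; exact p2
    · change ixp (gu i • q) < 11
      rw [q1]; exact q2
    · change ixp (gu i • r) < 11
      rw [r1]; exact r2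
    · rw [hA i hi]
      change tm s 10 (Mt i) *ᵥ tv s 10 (om (ixp p) (ixp q) (ixp r)) =
        tv s 10 (om (ixp (gu i • p)) (ixp (gu i • q)) (ixp (gu i • r)))
      rw [act_om hs i hi hp hq hr, p1, q1, r1]) (span_omv hs h2)
  refine ⟨ρ, fun i hi => ?_⟩
  rw [← hA i hi]
  apply hρ
  interval_cases i
  · exact Or.inl rfl
  · exact Or.inr (Or.inl rfl)
  · exact Or.inr (Or.inr rfl)

end F

end Cfsg.Agent.H840.M11
end

private theorem dce_bcbf6a58e9c5 : _root_.True := by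
  try have : _root_.True := by simp only [_root_.Cfsg.Agent.H840.M11.pi11.eq_1]
  try have : _root_.True := by simp only [_root_.Cfsg.Agent.H840.M11.bv.eq_1]
  try have : _root_.True := by simp only [_root_.Cfsg.Agent.H840.M11.gu.eq_1]
  exact _root_.True.intro
end

-- part: H923/Ten/A7Sym
section
prune_inst 0x100422000000000000000000002000000200000000000000000000400200000000002000120000000000000000000000000000000000000400000000000080000020000000000006000000000000000000000000000000000000000000000000000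
set_option linter.all false
open scoped Cfsg.Agent.FastGrp

-- part: H923/Ten/A7Lin
section
/-!
# Linear algebra for the ten-dimensional modules of `A₇` (helper923)
-/

set_option autoImplicit false

namespace Cfsg.Agent.H923.Ten.A7

open Module

universe u v

section gen

variable {F : Type u} {V : Type v} [Field F] [AddCommGroup V] [Module F V]

/-- fixed space -/
def Fx (x : V →ₗ[F] V) : Submodule F V := LinearMap.ker (x - 1)
/-- negated space -/
def Ng (x : V →ₗ[F] V) : Submodule F V := LinearMap.ker (x + 1)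

theorem mem_Fx {x : V →ₗ[F] V} {v : V} : v ∈ Fx x ↔ x v = v := by
  rw [Fx, LinearMap.mem_ker, LinearMap.sub_apply, Module.End.one_apply, sub_eq_zero]

theorem mem_Ng {x : V →ₗ[F] V} {v : V} : v ∈ Ng x ↔ x v = -v := by
  rw [Ng, LinearMap.mem_ker, LinearMap.add_apply, Module.End.one_apply, add_eq_zero_iff_eq_neg]

variable [FiniteDimensional F V]

theorem rank_Fx (x : V →ₗ[F] V) :
    finrank F (LinearMap.range (x - 1)) + finrank F (Fx x) = finrank F V :=
  LinearMap.finrank_range_add_finrank_ker _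

/-- Scott's lemma for two generators -/
theorem scott (x y : V →ₗ[F] V) (h1 : ∀ v, x v = v → y v = v → v = 0)
    (h2 : LinearMap.range (x - 1) ⊔ LinearMap.range (y - 1) = ⊤) :
    finrank F (Fx x) + finrank F (Fx y) + finrank F (Fx (x * y)) ≤ finrank F V := by
  let f : Fx (x * y) →ₗ[F] V := (y - 1).comp (Fx (x * y)).subtype
  have hf : Function.Injective f := by
    rw [← LinearMap.ker_eq_bot, LinearMap.ker_eq_bot']
    rintro ⟨v, hv⟩ h
    have h3 : y v = v := sub_eq_zero.1 h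
    have h4 : x (y v) = v := mem_Fx.1 hv
    rw [h3] at h4
    exact Subtype.ext (h1 v h4 h3)
  have hr : LinearMap.range f ≤ LinearMap.range (x - 1) ⊓ LinearMap.range (y - 1) := by
    rintro _ ⟨⟨v, hv⟩, rfl⟩
    refine ⟨⟨-(y v), ?_⟩, ⟨v, rfl⟩⟩
    have h4 : x (y v) = v := mem_Fx.1 hv
    change x (-(y v)) - -(y v) = y v - v
    rw [map_neg, h4]
    abel
  have h5 := Submodule.finrank_mono hr
  rw [LinearMap.finrank_range_of_inj hf] at h5
  have h6 := Submodule.finrank_sup_add_finrank_inf_eq (LinearMap.range (x - 1)) (LinearMap.range (y - 1))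
  rw [h2, finrank_top] at h6
  have h7 := rank_Fx x
  have h8 := rank_Fx y
  omega

theorem three (x y z : V →ₗ[F] V) (h1 : ∀ v, x v = v → y v = v → z v = v → v = 0) :
    finrank F (Fx x) + finrank F (Fx y) + finrank F (Fx z) ≤ 2 * finrank F V := by
  have h2 := Submodule.finrank_sup_add_finrank_inf_eq (Fx x) (Fx y)
  have h3 := Submodule.finrank_sup_add_finrank_inf_eq (Fx x ⊓ Fx y) (Fx z)
  have h4 : Fx x ⊓ Fx y ⊓ Fx z = ⊥ := by
    rw [eq_bot_iff]
    rintro v ⟨⟨hx, hy⟩, hz⟩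
    exact h1 v (mem_Fx.1 hx) (mem_Fx.1 hy) (mem_Fx.1 hz)
  have h5 := Submodule.finrank_le (Fx x ⊔ Fx y)
  have h6 := Submodule.finrank_le (Fx x ⊓ Fx y ⊔ Fx z)
  rw [h4, finrank_bot] at h3
  omega

/-- an involution splits an invariant subspace -/
theorem split (h2 : (2 : F) ≠ 0) {x : V →ₗ[F] V} (U : Submodule F V) (hU : ∀ u ∈ U, x u ∈ U)
    (hx : ∀ u ∈ U, x (x u) = u) : finrank F ↥(U ⊓ Fx x) + finrank F ↥(U ⊓ Ng x) = finrank F U := by
  have h3 := Submodule.finrank_sup_add_finrank_inf_eq (U ⊓ Fx x) (U ⊓ Ng x)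
  have h4 : (U ⊓ Fx x) ⊓ (U ⊓ Ng x) = ⊥ := by
    rw [eq_bot_iff]
    rintro v ⟨⟨-, hx⟩, ⟨-, hy⟩⟩
    have h5 := (mem_Fx.1 hx).symm.trans (mem_Ng.1 hy)
    have h6 : (2 : F) • v = 0 := by
      rw [two_smul]
      nth_rewrite 1 [h5]
      exact neg_add_cancel v
    exact (smul_eq_zero.1 h6).resolve_left h2
  have h5 : (U ⊓ Fx x) ⊔ (U ⊓ Ng x) = U := by
    apply le_antisymm (sup_le inf_le_left inf_le_left)
    intro u hu
    have h6 : u = (2 : F)⁻¹ • (u + x u) + (2 : F)⁻¹ • (u - x u) := by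
      rw [← smul_add, add_add_sub_cancel, ← two_smul F u, smul_smul, inv_mul_cancel₀ h2, one_smul]
    rw [h6]
    refine Submodule.add_mem_sup ⟨U.smul_mem _ (U.add_mem hu (hU u hu)), ?_⟩
      ⟨U.smul_mem _ (U.sub_mem hu (hU u hu)), ?_⟩
    · refine mem_Fx.2 ?_
      rw [map_smul, map_add, hx u hu, add_comm]
    · refine mem_Ng.2 ?_
      rw [map_smul, map_sub, hx u hu, ← smul_neg, neg_sub]
  rw [h4, h5, finrank_bot] at h3
  omega

theorem finrank_eq_of_maps {U U' : Submodule F V} (x y : V →ₗ[F] V) (hxy : ∀ v, x (y v) = v)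
    (hyx : ∀ v, y (x v) = v)
    (h1 : ∀ u ∈ U, x u ∈ U') (h2 : ∀ u ∈ U', y u ∈ U) : finrank F U = finrank F U' := by
  refine LinearEquiv.finrank_eq (LinearEquiv.ofLinear (x.restrict h1) (y.restrict h2) ?_ ?_)
  · ext ⟨v, hv⟩
    exact hxy v
  · ext ⟨v, hv⟩
    exact hyx v

end gen

end Cfsg.Agent.H923.Ten.A7
end

-- part: H923/Ten/A7Mod
section
/-!
# Ten-dimensional modules of `A₇`: the four-group (helper923)
-/

set_option autoImplicit false
set_option linter.unusedSectionVars false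

namespace Cfsg.Agent.H923.Ten.A7

open Module Equiv

universe u v

variable {F : Type u} {V : Type v} [Field F] [AddCommGroup V] [Module F V] [FiniteDimensional F V]

/-- the situation -/
structure Irr (ρ : A →* (V →ₗ[F] V)) : Prop where
  two : (2 : F) ≠ 0
  dim : finrank F V = 10
  irr : ∀ U : Submodule F V, (∀ g, ∀ u ∈ U, ρ g u ∈ U) → U = ⊥ ∨ U = ⊤

variable {ρ : A →* (V →ₗ[F] V)}

theorem act (ρ : A →* (V →ₗ[F] V)) (g h : A) (v : V) : ρ g (ρ h v) = ρ (g * h) v := by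
  rw [map_mul]; rfl

theorem act1 (ρ : A →* (V →ₗ[F] V)) (v : V) : ρ 1 v = v := by
  rw [map_one]; rfl

theorem rel (ρ : A →* (V →ₗ[F] V)) {g h g' h' : A} (e : g * h = g' * h') (v : V) :
    ρ g (ρ h v) = ρ g' (ρ h' v) := by
  rw [act, act, e]

theorem inv_act (ρ : A →* (V →ₗ[F] V)) (g : A) (v : V) : ρ g⁻¹ (ρ g v) = v := by
  rw [act, inv_mul_cancel, act1]

theorem act_inv (ρ : A →* (V →ₗ[F] V)) (g : A) (v : V) : ρ g (ρ g⁻¹ v) = v := by
  rw [act, mul_inv_cancel, act1]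

/-- the stabiliser of a vector -/
def stab (ρ : A →* (V →ₗ[F] V)) (v : V) : Subgroup A where
  carrier := {g | ρ g v = v}
  one_mem' := act1 ρ v
  mul_mem' := by
    intro x y hx hy
    have hx : ρ x v = v := hx
    have hy : ρ y v = v := hy
    show ρ (x * y) v = v
    rw [← act, hy, hx]
  inv_mem' := by
    intro x hx
    have hx : ρ x v = v := hx
    show ρ x⁻¹ v = v
    nth_rewrite 1 [← hx]
    exact inv_act ρ x v

/-- dimension of the fixed space -/
noncomputable def f (ρ : A →* (V →ₗ[F] V)) (g : A) : ℕ := finrank F (Fx (ρ g))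

theorem f_conj (ρ : A →* (V →ₗ[F] V)) {g x y : A} (h : g * x * g⁻¹ = y) : f ρ y = f ρ x := by
  symm
  refine finrank_eq_of_maps (ρ g) (ρ g⁻¹) (act_inv ρ g) (inv_act ρ g) ?_ ?_
  · intro u hu
    rw [mem_Fx] at hu ⊢
    have e : y * g = g * x := by rw [← h]; group
    rw [rel ρ e, hu]
  · intro u hu
    rw [mem_Fx] at hu ⊢
    have e : x * g⁻¹ = g⁻¹ * y := by rw [← h]; group
    rw [rel ρ e, hu]

namespace Irr

variable (h : Irr ρ)

include h

theorem fix_zero {v : V} (hv : stab ρ v = ⊤) : v = 0 := by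
  by_contra hv0
  have h1 : ∀ g, ρ g v = v := fun g => by
    have : g ∈ stab ρ v := by rw [hv]; trivial
    exact this
  rcases h.irr (F ∙ v) (by
    intro g u hu
    obtain ⟨c, rfl⟩ := Submodule.mem_span_singleton.1 hu
    rw [map_smul, h1]
    exact Submodule.smul_mem _ _ (Submodule.mem_span_singleton_self v)) with h2 | h2
  · exact hv0 (Submodule.span_singleton_eq_bot.1 h2)
  · have h3 := finrank_span_le_card (R := F) ({v} : Set V)
    rw [h2, finrank_top, h.dim] at h3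
    simp at h3

theorem f_s1_le : 3 * f ρ s1 ≤ 20 := by
  have h1 := three (ρ tx) (ρ ty) (ρ tz) (fun v hx hy hz => h.fix_zero (top_of_t _ hx hy hz))
  have h2 := f_conj ρ conj_tx
  have h3 := f_conj ρ conj_ty
  have h4 := f_conj ρ conj_tz
  rw [h.dim] at h1
  unfold f at h2 h3 h4 ⊢
  omega

theorem f_b_le : 3 * f ρ b ≤ 20 := by
  have h1 := three (ρ c2) (ρ d3) (ρ b) (fun v hx hy hz => h.fix_zero (top_of_d _ hx hy hz))
  have h2 := f_conj ρ conj_c2
  have h3 := f_conj ρ conj_d3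
  rw [h.dim] at h1
  unfold f at h2 h3 ⊢
  omega

/-- no element `≠ 1` acts trivially (used for `b`) -/
theorem b_nontriv (hb : ∀ v, ρ b v = v) : False := by
  have h1 : finrank F (Fx (ρ b)) = 10 := by
    rw [show Fx (ρ b) = ⊤ from by
        rw [eq_top_iff]; intro v _; exact mem_Fx.2 (hb v), finrank_top, h.dim]
  have h2 := h.f_b_le
  unfold f at h2
  omega

theorem f_x4_le : 3 * f ρ x4 ≤ 10 := by
  have h1 := scott (ρ qx) (ρ qy) (fun v hx hy => h.fix_zero (top_of_q _ hx hy)) (by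
    set R := LinearMap.range (ρ qx - 1) ⊔ LinearMap.range (ρ qy - 1) with hR
    -- the group preserving `R`
    let K : Subgroup A :=
      { carrier := {g | (∀ u ∈ R, ρ g u ∈ R) ∧ (∀ u ∈ R, ρ g⁻¹ u ∈ R)}
        one_mem' := by
          refine ⟨fun u hu => by rwa [act1], fun u hu => by rwa [inv_one, act1]⟩
        mul_mem' := by
          rintro x y ⟨hx, hx'⟩ ⟨hy, hy'⟩
          refine ⟨fun u hu => ?_, fun u hu => ?_⟩
          · rw [← act]; exact hx _ (hy _ hu)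
          · rw [mul_inv_rev, ← act]; exact hy' _ (hx' _ hu)
        inv_mem' := by
          rintro x ⟨hx, hx'⟩
          exact ⟨hx', fun u hu => by rw [inv_inv]; exact hx u hu⟩ }
    have key : ∀ g : A, LinearMap.range (ρ g - 1) ≤ R → g ∈ K := by
      intro g hg
      refine ⟨fun u hu => ?_, fun u hu => ?_⟩
      · have h3 : ρ g u = u + (ρ g - 1) u := by
          rw [LinearMap.sub_apply, Module.End.one_apply]; abel
        rw [h3]
        exact R.add_mem hu (hg ⟨u, rfl⟩)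
      · have h3 : ρ g⁻¹ u = u - (ρ g - 1) (ρ g⁻¹ u) := by
          rw [LinearMap.sub_apply, Module.End.one_apply, act_inv]; abel
        rw [h3]
        exact R.sub_mem hu (hg ⟨_, rfl⟩)
    have hK := top_of_q K (key qx le_sup_left) (key qy le_sup_right)
    rcases h.irr R (fun g u hu => by
      have : g ∈ K := by rw [hK]; trivial
      exact this.1 u hu) with h3 | h3
    · exfalso
      rw [h3] at hR
      have hx : ∀ v, ρ qx v = v := fun v => by
        have h4 : (ρ qx - 1) v ∈ (⊥ : Submodule F V) := by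
          rw [hR]; exact Submodule.mem_sup_left ⟨v, rfl⟩
        rw [Submodule.mem_bot, LinearMap.sub_apply, Module.End.one_apply, sub_eq_zero] at h4
        exact h4
      have hy : ∀ v, ρ qy v = v := fun v => by
        have h4 : (ρ qy - 1) v ∈ (⊥ : Submodule F V) := by
          rw [hR]; exact Submodule.mem_sup_right ⟨v, rfl⟩
        rw [Submodule.mem_bot, LinearMap.sub_apply, Module.End.one_apply, sub_eq_zero] at h4
        exact h4
      apply h.b_nontriv
      intro v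
      have h5 := h.fix_zero (top_of_q _ (hx v) (hy v))
      rw [h5, map_zero]
    · exact h3)
  rw [← map_mul] at h1
  have h2 := f_conj ρ conj_qx
  have h3 := f_conj ρ conj_qy
  have h4 := f_conj ρ conj_qz
  rw [h.dim] at h1
  unfold f at h2 h3 h4 ⊢
  omega

end Irr

end Cfsg.Agent.H923.Ten.A7
end

-- part: H923/Ten/A7Wt
section
/-!
# Ten-dimensional modules of `A₇`: weight spaces of the four-group (helper923)
-/

set_option autoImplicit false
set_option linter.unusedSectionVars false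

namespace Cfsg.Agent.H923.Ten.A7

open Module Equiv

universe u v

variable {F : Type u} {V : Type v} [Field F] [AddCommGroup V] [Module F V] [FiniteDimensional F V]

/-- the weight spaces -/
def V0 (ρ : A →* (V →ₗ[F] V)) : Submodule F V := Fx (ρ s1) ⊓ Fx (ρ s2)
def W1 (ρ : A →* (V →ₗ[F] V)) : Submodule F V := Fx (ρ s1) ⊓ Ng (ρ s2)
def W2 (ρ : A →* (V →ₗ[F] V)) : Submodule F V := Ng (ρ s1) ⊓ Fx (ρ s2)
def W3 (ρ : A →* (V →ₗ[F] V)) : Submodule F V := Ng (ρ s1) ⊓ Ng (ρ s2)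

variable {ρ : A →* (V →ₗ[F] V)}

theorem mem_V0 {v : V} : v ∈ V0 ρ ↔ ρ s1 v = v ∧ ρ s2 v = v := by
  rw [V0, Submodule.mem_inf, mem_Fx, mem_Fx]
theorem mem_W1 {v : V} : v ∈ W1 ρ ↔ ρ s1 v = v ∧ ρ s2 v = -v := by
  rw [W1, Submodule.mem_inf, mem_Fx, mem_Ng]
theorem mem_W2 {v : V} : v ∈ W2 ρ ↔ ρ s1 v = -v ∧ ρ s2 v = v := by
  rw [W2, Submodule.mem_inf, mem_Ng, mem_Fx]
theorem mem_W3 {v : V} : v ∈ W3 ρ ↔ ρ s1 v = -v ∧ ρ s2 v = -v := by
  rw [W3, Submodule.mem_inf, mem_Ng, mem_Ng]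

theorem r_12 : s1 * s2 = s2 * s1 := by decide
theorem r_3 : s3 * 1 = s1 * s2 := by decide
theorem r_11 : s1 * s1 = 1 * 1 := by decide
theorem r_22 : s2 * s2 = 1 * 1 := by decide
theorem r_ww : w * w = 1 * 1 := by decide
theorem r_w1 : w * s1 = s1 * w := by decide
theorem r_w2 : w * s2 = s3 * w := by decide
theorem r_w3 : w * s3 = s2 * w := by decide
theorem r_a1 : a * s1 = s2 * a := by decide
theorem r_a3 : a * s3 = s1 * a := by decide
theorem r_b1 : b * s1 = s1 * b := by decide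
theorem r_b2 : b * s2 = s2 * b := by decide
theorem r_ab : a * b = b * a := by decide
theorem r_wb : w * b = b⁻¹ * w := by decide
theorem r_wa : w * a = (a⁻¹ * s3) * w := by decide
theorem b3 : b * b * b = 1 := by decide
theorem a3 : a * a * a = 1
  := by decide
theorem a2i : a⁻¹ = a * a := by decide

/-- the value of `s₃` -/
theorem s3_act (v : V) : ρ s3 v = ρ s1 (ρ s2 v) := by
  have := rel ρ r_3 v
  rwa [act1] at this

theorem invol (g : A) (hg : g * g = 1 * 1) (v : V) : ρ g (ρ g v) = v := by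
  rw [rel ρ hg, act1, act1]

theorem a_W1 {v : V} (hv : v ∈ W1 ρ) : ρ a v ∈ W2 ρ := by
  rw [mem_W1] at hv
  rw [mem_W2]
  constructor
  · rw [← rel ρ r_a3, s3_act, hv.2, map_neg, hv.1, map_neg]
  · rw [← rel ρ r_a1, hv.1]

theorem a_W2 {v : V} (hv : v ∈ W2 ρ) : ρ a v ∈ W3 ρ := by
  rw [mem_W2] at hv
  rw [mem_W3]
  constructor
  · rw [← rel ρ r_a3, s3_act, hv.2, hv.1, map_neg]
  · rw [← rel ρ r_a1, hv.1, map_neg]

theorem a_W3 {v : V} (hv : v ∈ W3 ρ) : ρ a v ∈ W1 ρ := by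
  rw [mem_W3] at hv
  rw [mem_W1]
  constructor
  · rw [← rel ρ r_a3, s3_act, hv.2, map_neg, hv.1, neg_neg]
  · rw [← rel ρ r_a1, hv.1, map_neg]

theorem a_V0 {v : V} (hv : v ∈ V0 ρ) : ρ a v ∈ V0 ρ := by
  rw [mem_V0] at hv
  rw [mem_V0]
  constructor
  · rw [← rel ρ r_a3, s3_act, hv.2, hv.1]
  · rw [← rel ρ r_a1, hv.1]

theorem ai (v : V) : ρ a⁻¹ v = ρ a (ρ a v) := by
  rw [act, a2i]

theorem aaa (v : V) : ρ a (ρ a (ρ a v)) = v := by
  rw [act, act, a3, act1]

theorem bbb (v : V) : ρ b (ρ b (ρ b v)) = v := by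
  rw [act, act, b3, act1]

theorem b_V0 {v : V} (hv : v ∈ V0 ρ) : ρ b v ∈ V0 ρ := by
  rw [mem_V0] at *
  exact ⟨by rw [← rel ρ r_b1, hv.1], by rw [← rel ρ r_b2, hv.2]⟩
theorem b_W1 {v : V} (hv : v ∈ W1 ρ) : ρ b v ∈ W1 ρ := by
  rw [mem_W1] at *
  exact ⟨by rw [← rel ρ r_b1, hv.1], by rw [← rel ρ r_b2, hv.2, map_neg]⟩

theorem eqW12 : finrank F (W1 ρ) = finrank F (W2 ρ) :=
  finrank_eq_of_maps (ρ a) (ρ a⁻¹) (act_inv ρ a) (inv_act ρ a) (fun _ hu => a_W1 hu)
    (fun u hu => by rw [ai]; exact a_W3 (a_W2 hu))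

theorem eqW23 : finrank F (W2 ρ) = finrank F (W3 ρ) :=
  finrank_eq_of_maps (ρ a) (ρ a⁻¹) (act_inv ρ a) (inv_act ρ a) (fun _ hu => a_W2 hu)
    (fun u hu => by rw [ai]; exact a_W1 (a_W3 hu))

namespace Irr

variable (h : Irr ρ)

include h

theorem dim_V0 : finrank F (V0 ρ) + finrank F (W1 ρ) = f ρ s1 :=
  split h.two (Fx (ρ s1)) (fun u hu => mem_Fx.2 (by rw [rel ρ r_12, mem_Fx.1 hu]))
    (fun u _ => invol _ r_22 u)

theorem dim_Ng : f ρ s1 + finrank F (Ng (ρ s1)) = 10 := by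
  have h1 := split h.two (x := ρ s1) ⊤ (fun _ _ => trivial) (fun u _ => invol _ r_11 u)
  rw [top_inf_eq, top_inf_eq, finrank_top, h.dim] at h1
  exact h1

theorem dim_W2 : finrank F (W2 ρ) + finrank F (W3 ρ) = finrank F (Ng (ρ s1)) :=
  split h.two (Ng (ρ s1)) (fun u hu => mem_Ng.2 (by rw [rel ρ r_12, mem_Ng.1 hu, map_neg]))
    (fun u _ => invol _ r_22 u)

theorem dim_w : f ρ w + finrank F (Ng (ρ w)) = 10 := by
  have h1 := split h.two (x := ρ w) ⊤ (fun _ _ => trivial) (fun u _ => invol _ r_ww u)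
  rw [top_inf_eq, top_inf_eq, finrank_top, h.dim] at h1
  exact h1

/-- the dimensions of the spaces for `⟨s₁, s₂, w⟩` -/
theorem dims : ∃ m n1 n2 n3 n4 : ℕ,
    finrank F (W1 ρ) = m ∧ finrank F (W2 ρ) = m ∧ finrank F (W3 ρ) = m ∧ finrank F (V0 ρ) + 3 * m = 10 ∧
    finrank F ↥(V0 ρ ⊓ Fx (ρ w)) = n1 ∧ finrank F ↥(V0 ρ ⊓ Ng (ρ w)) = n2 ∧
    finrank F ↥(W1 ρ ⊓ Fx (ρ w)) = n3 ∧ finrank F ↥(W1 ρ ⊓ Ng (ρ w)) = n4 ∧
    n1 + n2 = finrank F (V0 ρ) ∧ n3 + n4 = m ∧ n2 + n4 = m ∧ f ρ s1 = 10 - 2 * m ∧ f ρ x4 = n1 + n4 := by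
  have e1 := h.dim_V0
  have e2 := h.dim_Ng
  have e3 := h.dim_W2
  have e4 := eqW12 (ρ := ρ)
  have e5 := eqW23 (ρ := ρ)
  have e6 : finrank F ↥(V0 ρ ⊓ Fx (ρ w)) + finrank F ↥(V0 ρ ⊓ Ng (ρ w)) = finrank F (V0 ρ) :=
    split h.two (V0 ρ) (fun u hu => by
      rw [mem_V0] at hu ⊢
      constructor
      · rw [← rel ρ r_w1, hu.1]
      · rw [← rel ρ r_w3, s3_act, hu.2, hu.1]) (fun u _ => invol _ r_ww u)
  have e7 : finrank F ↥(W1 ρ ⊓ Fx (ρ w)) + finrank F ↥(W1 ρ ⊓ Ng (ρ w)) = finrank F (W1 ρ) :=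
    split h.two (W1 ρ) (fun u hu => by
      rw [mem_W1] at hu ⊢
      constructor
      · rw [← rel ρ r_w1, hu.1]
      · rw [← rel ρ r_w3, s3_act, hu.2, map_neg, hu.1, map_neg]) (fun u _ => invol _ r_ww u)
  have e8 := h.dim_w
  have e9 := f_conj ρ conj_w
  have e10 : finrank F ↥(Ng (ρ w) ⊓ Fx (ρ s1)) + finrank F ↥(Ng (ρ w) ⊓ Ng (ρ s1)) = finrank F (Ng (ρ w)) :=
    split h.two (Ng (ρ w)) (fun u hu => by
      rw [mem_Ng] at hu ⊢
      rw [rel ρ r_w1, hu, map_neg]) (fun u _ => invol _ r_11 u)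
  have e11 : finrank F ↥((Ng (ρ w) ⊓ Fx (ρ s1)) ⊓ Fx (ρ s2)) + finrank F ↥((Ng (ρ w) ⊓ Fx (ρ s1)) ⊓ Ng (ρ s2)) =
      finrank F ↥(Ng (ρ w) ⊓ Fx (ρ s1)) :=
    split h.two _ (fun u hu => by
      rw [Submodule.mem_inf, mem_Ng, mem_Fx] at hu ⊢
      constructor
      · rw [rel ρ r_w2, hu.1, map_neg, s3_act, rel ρ r_12, hu.2]
      · rw [rel ρ r_12, hu.2]) (fun u _ => invol _ r_22 u)
  have e12 : (Ng (ρ w) ⊓ Fx (ρ s1)) ⊓ Fx (ρ s2) = V0 ρ ⊓ Ng (ρ w) := by
    rw [V0, inf_assoc, inf_comm]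
  have e13 : (Ng (ρ w) ⊓ Fx (ρ s1)) ⊓ Ng (ρ s2) = W1 ρ ⊓ Ng (ρ w) := by
    rw [W1, inf_assoc, inf_comm]
  rw [e12, e13] at e11
  have e14 : finrank F ↥(Ng (ρ w) ⊓ Ng (ρ s1)) = finrank F ↥(Ng (ρ s1) ⊓ Fx (ρ w)) :=
    finrank_eq_of_maps (ρ s2) (ρ s2) (fun v => invol _ r_22 v) (fun v => invol _ r_22 v) (fun u hu => by
      rw [Submodule.mem_inf, mem_Ng, mem_Ng] at hu
      rw [Submodule.mem_inf, mem_Fx, mem_Ng]
      constructor
      · rw [rel ρ r_12, hu.2, map_neg]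
      · rw [rel ρ r_w2, hu.1, map_neg, s3_act, rel ρ r_12, hu.2, map_neg, neg_neg]) (fun u hu => by
      rw [Submodule.mem_inf, mem_Ng, mem_Fx] at hu
      rw [Submodule.mem_inf, mem_Ng, mem_Ng]
      constructor
      · rw [rel ρ r_w2, hu.2, s3_act, rel ρ r_12, hu.1, map_neg]
      · rw [rel ρ r_12, hu.1, map_neg])
  have e15 : finrank F ↥(Ng (ρ s1) ⊓ Fx (ρ w)) + finrank F ↥(Ng (ρ s1) ⊓ Ng (ρ w)) = finrank F (Ng (ρ s1)) :=
    split h.two _ (fun u hu => by
      rw [mem_Ng] at hu ⊢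
      rw [← rel ρ r_w1, hu, map_neg]) (fun u _ => invol _ r_ww u)
  have e16 : Ng (ρ s1) ⊓ Ng (ρ w) = Ng (ρ w) ⊓ Ng (ρ s1) := inf_comm _ _
  rw [e16] at e15
  -- the element of order four
  have hx1 : ∀ v, ρ x4 v = v → ρ s1 v = v := by
    intro v hv
    have h1 : ρ (x4 * x4) v = v := by rw [← act, hv, hv]
    rwa [show x4 * x4 = s1 by decide] at h1
  have hx2 : ∀ v, ρ x4 v = v → ρ s2 v = ρ w v := by
    intro v hv
    have h1 : ρ w (ρ x4 v) = ρ s2 v := by rw [act, show w * x4 = s2 by decide]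
    rw [← h1, hv]
  have hx3 : ∀ v, ρ x4 v = ρ w (ρ s2 v) := fun v => by rw [act]; rfl
  have e17 : finrank F ↥(Fx (ρ x4) ⊓ Fx (ρ s2)) + finrank F ↥(Fx (ρ x4) ⊓ Ng (ρ s2)) = finrank F (Fx (ρ x4)) :=
    split h.two _ (fun u hu => by
      rw [mem_Fx] at hu ⊢
      rw [hx3, invol _ r_22, hx2 u hu]) (fun u _ => invol _ r_22 u)
  have e18 : Fx (ρ x4) ⊓ Fx (ρ s2) = V0 ρ ⊓ Fx (ρ w) := by
    ext v
    rw [Submodule.mem_inf, Submodule.mem_inf, mem_V0, mem_Fx, mem_Fx, mem_Fx]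
    constructor
    · rintro ⟨h1, h2⟩
      exact ⟨⟨hx1 v h1, h2⟩, by rw [← hx2 v h1, h2]⟩
    · rintro ⟨⟨h1, h2⟩, h3⟩
      exact ⟨by rw [hx3, h2, h3], h2⟩
  have e19 : Fx (ρ x4) ⊓ Ng (ρ s2) = W1 ρ ⊓ Ng (ρ w) := by
    ext v
    rw [Submodule.mem_inf, Submodule.mem_inf, mem_W1, mem_Fx, mem_Ng, mem_Ng]
    constructor
    · rintro ⟨h1, h2⟩
      exact ⟨⟨hx1 v h1, h2⟩, by rw [← hx2 v h1, h2]⟩
    · rintro ⟨⟨h1, h2⟩, h3⟩
      exact ⟨by rw [hx3, h2, map_neg, h3, neg_neg], h2⟩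
  rw [e18, e19] at e17
  refine ⟨finrank F (W1 ρ), _, _, _, _, rfl, e4.symm, by omega, by omega, rfl, rfl, rfl, rfl, e6, e7, ?_, by omega, ?_⟩
  · unfold f at e9 e8 e1 e2; omega
  · unfold f; omega

end Irr

end Cfsg.Agent.H923.Ten.A7
end

-- part: H923/Ten/A7Fix
section
/-!
# Ten-dimensional modules of `A₇`: the fixed line of the four-group (helper923)
-/

set_option autoImplicit false
set_option linter.unusedSectionVars false

namespace Cfsg.Agent.H923.Ten.A7

open Module Equiv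

universe u v

variable {F : Type u} {V : Type v} [Field F] [AddCommGroup V] [Module F V] [FiniteDimensional F V]
variable {ρ : A →* (V →ₗ[F] V)}

theorem b_triv {c : F} (hc : c ≠ 0) {U : Submodule F V} (hU : ∀ u ∈ U, ρ b u ∈ U)
    (hw : ∀ u ∈ U, ρ w u = c • u) : ∀ u ∈ U, ρ b u = u := by
  intro u hu
  have h1 := rel ρ r_wb u
  rw [hw _ (hU u hu), hw u hu, map_smul] at h1
  have h2 := smul_right_injective V hc h1
  have h3 : ρ b (ρ b u) = u := by rw [h2, act_inv]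
  have h4 := bbb (ρ := ρ) u
  rw [h3] at h4
  exact h4

theorem a_triv {c : F} (hc : c ≠ 0) {U : Submodule F V} (hU : ∀ u ∈ U, ρ a u ∈ U)
    (hU0 : U ≤ V0 ρ) (hw : ∀ u ∈ U, ρ w u = c • u) : ∀ u ∈ U, ρ a u = u := by
  intro u hu
  have h1 := rel ρ r_wa u
  rw [hw _ (hU u hu), hw u hu, map_smul, ← act, s3_act, (mem_V0.1 (hU0 hu)).2, (mem_V0.1 (hU0 hu)).1] at h1
  have h2 := smul_right_injective V hc h1
  have h3 : ρ a (ρ a u) = u := by rw [h2, act_inv]
  have h4 := aaa (ρ := ρ) u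
  rw [h3] at h4
  exact h4

theorem b_W2 {v : V} (h1 : ∀ u ∈ W1 ρ, ρ b u = u) (hv : v ∈ W2 ρ) : ρ b v = v := by
  have h2 : ρ a⁻¹ v ∈ W1 ρ := by rw [ai]; exact a_W3 (a_W2 hv)
  have h3 : ρ a (ρ b (ρ a⁻¹ v)) = v := by rw [h1 _ h2, act_inv]
  rw [rel ρ r_ab, act_inv] at h3
  exact h3

theorem b_W3 {v : V} (h1 : ∀ u ∈ W1 ρ, ρ b u = u) (hv : v ∈ W3 ρ) : ρ b v = v := by
  have h2 : ρ a v ∈ W1 ρ := a_W3 hv
  have h3 : ρ b (ρ a v) = ρ a v := h1 _ h2
  rw [← rel ρ r_ab] at h3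
  have h4 := congrArg (ρ a⁻¹) h3
  rwa [inv_act, inv_act] at h4

theorem decomp (h2 : (2 : F) ≠ 0) (v : V) :
    ∃ v0 ∈ V0 ρ, ∃ v1 ∈ W1 ρ, ∃ v2 ∈ W2 ρ, ∃ v3 ∈ W3 ρ, v = v0 + v1 + v2 + v3 := by
  have i1 : ∀ u, ρ s1 (ρ s1 u) = u := invol _ r_11
  have i2 : ∀ u, ρ s2 (ρ s2 u) = u := invol _ r_22
  have i3 : ∀ u, ρ s1 (ρ s2 u) = ρ s2 (ρ s1 u) := fun u => rel ρ r_12 u
  have h4 : (4 : F) ≠ 0 := by
    have : (4 : F) = 2 * 2 := by norm_num
    rw [this]; exact mul_ne_zero h2 h2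
  refine ⟨(4 : F)⁻¹ • (v + ρ s1 v + ρ s2 v + ρ s2 (ρ s1 v)), Submodule.smul_mem _ _ ?_,
    (4 : F)⁻¹ • (v + ρ s1 v - ρ s2 v - ρ s2 (ρ s1 v)), Submodule.smul_mem _ _ ?_,
    (4 : F)⁻¹ • (v - ρ s1 v + ρ s2 v - ρ s2 (ρ s1 v)), Submodule.smul_mem _ _ ?_,
    (4 : F)⁻¹ • (v - ρ s1 v - ρ s2 v + ρ s2 (ρ s1 v)), Submodule.smul_mem _ _ ?_, ?_⟩
  · rw [mem_V0]
    constructor
    · rw [map_add, map_add, map_add, i1, i3, i3, i1]; abel
    · rw [map_add, map_add, map_add, i2, i2]; abel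
  · rw [mem_W1]
    constructor
    · rw [map_sub, map_sub, map_add, i1, i3, i3, i1]; abel
    · rw [map_sub, map_sub, map_add, i2, i2]; abel
  · rw [mem_W2]
    constructor
    · rw [map_sub, map_add, map_sub, i1, i3, i3, i1]; abel
    · rw [map_sub, map_add, map_sub, i2, i2]; abel
  · rw [mem_W3]
    constructor
    · rw [map_add, map_sub, map_sub, i1, i3, i3, i1]; abel
    · rw [map_add, map_sub, map_sub, i2, i2]; abel
  · rw [← smul_add, ← smul_add, ← smul_add]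
    have h5 : v + ρ s1 v + ρ s2 v + ρ s2 (ρ s1 v) + (v + ρ s1 v - ρ s2 v - ρ s2 (ρ s1 v)) +
        (v - ρ s1 v + ρ s2 v - ρ s2 (ρ s1 v)) + (v - ρ s1 v - ρ s2 v + ρ s2 (ρ s1 v)) = (4 : F) • v := by
      have : (4 : F) • v = v + v + v + v := by
        rw [show (4 : F) = 1 + 1 + 1 + 1 by norm_num, add_smul, add_smul, add_smul, one_smul]
      rw [this]; abel
    rw [h5, smul_smul, inv_mul_cancel₀ h4, one_smul]

theorem indep (h2 : (2 : F) ≠ 0) {v0 v1 v2 v3 : V} (h0 : v0 ∈ V0 ρ) (h1 : v1 ∈ W1 ρ) (h2' : v2 ∈ W2 ρ)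
    (h3 : v3 ∈ W3 ρ) (h : v0 + v1 + v2 + v3 = 0) : v0 = 0 ∧ v1 = 0 ∧ v2 = 0 ∧ v3 = 0 := by
  rw [mem_V0] at h0
  rw [mem_W1] at h1
  rw [mem_W2] at h2'
  rw [mem_W3] at h3
  have key : ∀ x : V, x + x = 0 → x = 0 := by
    intro x hx
    rw [← two_smul F] at hx
    exact (smul_eq_zero.1 hx).resolve_left h2
  have e1 := congrArg (ρ s1) h
  rw [map_add, map_add, map_add, h0.1, h1.1, h2'.1, h3.1, map_zero] at e1
  have e2 := congrArg (ρ s2) h
  rw [map_add, map_add, map_add, h0.2, h1.2, h2'.2, h3.2, map_zero] at e2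
  have e3 : v0 + v1 = 0 := key _ (by
    have : v0 + v1 + (v0 + v1) = (v0 + v1 + v2 + v3) + (v0 + v1 + -v2 + -v3) := by abel
    rw [this, h, e1, add_zero])
  have e4 : v0 + v2 = 0 := key _ (by
    have : v0 + v2 + (v0 + v2) = (v0 + v1 + v2 + v3) + (v0 + -v1 + v2 + -v3) := by abel
    rw [this, h, e2, add_zero])
  have e5 : v0 + v3 = 0 := by
    have e6 : v2 + v3 = 0 := by
      have : v2 + v3 = (v0 + v1 + v2 + v3) - (v0 + v1) := by abel
      rw [this, h, e3, sub_zero]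
    have e7 := congrArg (ρ s1) e4
    rw [map_add, h0.1, h2'.1, map_zero] at e7
    have e8 : v0 = 0 := key _ (by
      have : v0 + v0 = (v0 + v2) + (v0 + -v2) := by abel
      rw [this, e4, e7, add_zero])
    rw [e8, zero_add] at e4
    rw [e4, zero_add] at e6
    rw [e8, e6, add_zero]
  have e7 := congrArg (ρ s1) e4
  rw [map_add, h0.1, h2'.1, map_zero] at e7
  have e8 : v0 = 0 := key _ (by
    have : v0 + v0 = (v0 + v2) + (v0 + -v2) := by abel
    rw [this, e4, e7, add_zero])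
  rw [e8, zero_add] at e3 e4 e5
  exact ⟨e8, e3, e4, e5⟩

/-- the conclusion of the first step -/
def Good (ρ : A →* (V →ₗ[F] V)) (v : V) : Prop :=
  v ≠ 0 ∧ ρ s1 v = v ∧ ρ s2 v = v ∧ ρ a v = v ∧ ρ b v = v ∧ ρ w v = -v ∧
    ∀ u, ρ s1 u = u → ρ s2 u = u → ∃ c : F, u = c • v

namespace Irr

variable (h : Irr ρ)

include h

theorem case3 (n1 n2 n3 n4 : ℕ) (hm : finrank F (W1 ρ) = 3) (h0 : finrank F (V0 ρ) = 1)
    (e1 : finrank F ↥(V0 ρ ⊓ Fx (ρ w)) = n1) (e2 : finrank F ↥(V0 ρ ⊓ Ng (ρ w)) = n2)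
    (e3 : finrank F ↥(W1 ρ ⊓ Fx (ρ w)) = n3) (e4 : finrank F ↥(W1 ρ ⊓ Ng (ρ w)) = n4)
    (e5 : n1 + n2 = 1) (e6 : n3 + n4 = 3) (e7 : n2 + n4 = 3) : ∃ v, Good ρ v := by
  have key : n2 = 1 := by
    by_contra hn2
    have hn4 : n4 = 3 := by omega
    have hn1 : n1 = 1 := by omega
    have h1 : W1 ρ ⊓ Ng (ρ w) = W1 ρ := Submodule.eq_of_le_of_finrank_eq inf_le_left (by rw [e4, hm, hn4])
    have h2 : V0 ρ ⊓ Fx (ρ w) = V0 ρ := Submodule.eq_of_le_of_finrank_eq inf_le_left (by rw [e1, h0, hn1])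
    have h3 : ∀ u ∈ W1 ρ, ρ b u = u := b_triv (c := -1) (neg_ne_zero.2 one_ne_zero) (fun u hu => b_W1 hu)
      (fun u hu => by
        rw [neg_smul, one_smul]
        rw [← h1] at hu
        exact mem_Ng.1 hu.2)
    have h4 : ∀ u ∈ V0 ρ, ρ b u = u := b_triv (c := 1) one_ne_zero (fun u hu => b_V0 hu)
      (fun u hu => by
        rw [one_smul]
        rw [← h2] at hu
        exact mem_Fx.1 hu.2)
    apply h.b_nontriv
    intro v
    obtain ⟨v0, hv0, v1, hv1, v2, hv2, v3, hv3, rfl⟩ := decomp (ρ := ρ) h.two v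
    rw [map_add, map_add, map_add, h4 _ hv0, h3 _ hv1, b_W2 h3 hv2, b_W3 h3 hv3]
  have h2 : V0 ρ ⊓ Ng (ρ w) = V0 ρ := Submodule.eq_of_le_of_finrank_eq inf_le_left (by rw [e2, h0, key])
  have hw : ∀ u ∈ V0 ρ, ρ w u = (-1 : F) • u := fun u hu => by
    rw [neg_smul, one_smul]
    rw [← h2] at hu
    exact mem_Ng.1 hu.2
  obtain ⟨v, hv0, hv⟩ := finrank_eq_one_iff'.1 h0
  refine ⟨v, fun h5 => hv0 (Subtype.ext h5), (mem_V0.1 v.2).1, (mem_V0.1 v.2).2,
    a_triv (neg_ne_zero.2 one_ne_zero) (fun u hu => a_V0 hu) le_rfl hw v v.2,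
    b_triv (neg_ne_zero.2 one_ne_zero) (fun u hu => b_V0 hu) hw v v.2, ?_, fun u hu1 hu2 => ?_⟩
  · rw [hw v v.2, neg_smul, one_smul]
  · obtain ⟨c, hc⟩ := hv ⟨u, mem_V0.2 ⟨hu1, hu2⟩⟩
    exact ⟨c, (congrArg Subtype.val hc).symm⟩

end Irr

end Cfsg.Agent.H923.Ten.A7
end

-- part: H923/Ten/A7Two
section
/-!
# Ten-dimensional modules of `A₇`: the excluded case (helper923)
-/

set_option autoImplicit false
set_option linter.unusedSectionVars false

namespace Cfsg.Agent.H923.Ten.A7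

open Module Equiv

universe u v

variable {F : Type u} {V : Type v} [Field F] [AddCommGroup V] [Module F V] [FiniteDimensional F V]
variable {ρ : A →* (V →ₗ[F] V)}

/-- the sum of the nontrivial weight spaces -/
def WW (ρ : A →* (V →ₗ[F] V)) : Submodule F V := W1 ρ ⊔ W2 ρ ⊔ W3 ρ

theorem mem_WW {v : V} : v ∈ WW ρ ↔ ∃ v1 ∈ W1 ρ, ∃ v2 ∈ W2 ρ, ∃ v3 ∈ W3 ρ, v = v1 + v2 + v3 := by
  rw [WW, Submodule.mem_sup]
  constructor
  · rintro ⟨y, hy, v3, h3, rfl⟩
    obtain ⟨v1, h1, v2, h2, rfl⟩ := Submodule.mem_sup.1 hy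
    exact ⟨v1, h1, v2, h2, v3, h3, rfl⟩
  · rintro ⟨v1, h1, v2, h2, v3, h3, rfl⟩
    exact ⟨v1 + v2, Submodule.add_mem_sup h1 h2, v3, h3, rfl⟩

theorem V0_inf_WW (h2 : (2 : F) ≠ 0) {v : V} (h0 : v ∈ V0 ρ) (hW : v ∈ WW ρ) : v = 0 := by
  obtain ⟨v1, h1, v2, h2', v3, h3, rfl⟩ := mem_WW.1 hW
  exact (indep h2 h0 (neg_mem h1) (neg_mem h2') (neg_mem h3) (by abel)).1

theorem V0_sup_WW (h2 : (2 : F) ≠ 0) : V0 ρ ⊔ WW ρ = ⊤ := by
  rw [eq_top_iff]
  intro v _
  obtain ⟨v0, hv0, v1, hv1, v2, hv2, v3, hv3, rfl⟩ := decomp (ρ := ρ) h2 v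
  rw [add_assoc, add_assoc, ← add_assoc v1]
  exact Submodule.add_mem_sup hv0 (mem_WW.2 ⟨v1, hv1, v2, hv2, v3, hv3, rfl⟩)

theorem a_WW {v : V} (hv : v ∈ WW ρ) : ρ a v ∈ WW ρ := by
  obtain ⟨v1, h1, v2, h2', v3, h3, rfl⟩ := mem_WW.1 hv
  rw [map_add, map_add]
  exact mem_WW.2 ⟨_, a_W3 h3, _, a_W1 h1, _, a_W2 h2', by abel⟩

theorem s2_WW {v : V} (hv : v ∈ WW ρ) : ρ s2 v ∈ WW ρ := by
  obtain ⟨v1, h1, v2, h2', v3, h3, rfl⟩ := mem_WW.1 hv
  rw [map_add, map_add, (mem_W1.1 h1).2, (mem_W2.1 h2').2, (mem_W3.1 h3).2]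
  exact mem_WW.2 ⟨_, neg_mem h1, _, h2', _, neg_mem h3, rfl⟩

theorem r_c2 : c2 * 1 = (a⁻¹ * s2) * 1 := by decide

theorem c2_act (v : V) : ρ c2 v = ρ a (ρ a (ρ s2 v)) := by
  have h1 := rel ρ r_c2 v
  rw [act1, ← act, ai] at h1
  exact h1

def ga : A := e2 1 4 2 6 * e2 6 3 3 5
def gc : A := e2 0 3 3 6 * e2 1 4 2 5

theorem k_a : ga * b * ga⁻¹ = a := by decide
theorem k_c : gc * b * gc⁻¹ = c2 := by decide
theorem k_1 : ga * s1 * ga⁻¹ = e2 0 4 5 6 := by decide
theorem k_2 : ga * s2 * ga⁻¹ = e2 0 6 4 5 := by decide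
theorem k_3 : gc * s1 * gc⁻¹ = e2 3 4 5 6 := by decide
theorem k_4 : gc * s2 * gc⁻¹ = e2 3 5 4 6 := by decide
theorem k_5 : gc * a * gc⁻¹ = b := by decide

theorem stab_conj {g k g' : A} {v : V} (e : g * k * g⁻¹ = g') (hk : ρ k (ρ g⁻¹ v) = ρ g⁻¹ v) : ρ g' v = v := by
  rw [← e, ← act, ← act, hk, act_inv]

/-- sifting: the pointwise stabiliser of `1` and `2` -/
theorem sift (K : Subgroup A) (h1 : e2 0 4 5 6 ∈ K) (h2 : e2 0 6 4 5 ∈ K) (h3 : e2 3 4 5 6 ∈ K)
    (h4 : e2 3 5 4 6 ∈ K) (h5 : b ∈ K) (g : A) (g1 : g.1 1 = 1) (g2 : g.1 2 = 2) : g ∈ K := by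
  have inj := g.1.injective
  -- first point
  obtain ⟨k, hk, k1, k2, k0⟩ : ∃ k ∈ K, k.1 1 = 1 ∧ k.1 2 = 2 ∧ k.1 0 = g.1 0 := by
    have h6 : g.1 0 ≠ 1 := fun h => absurd (inj (h.trans g1.symm)) (by decide)
    have h7 : g.1 0 ≠ 2 := fun h => absurd (inj (h.trans g2.symm)) (by decide)
    generalize g.1 0 = t at h6 h7
    fin_cases t
    · exact ⟨1, one_mem _, by decide⟩
    · exact absurd rfl h6
    · exact absurd rfl h7
    · exact ⟨_, mul_mem h3 h1, by decide⟩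
    · exact ⟨_, h1, by decide⟩
    · exact ⟨_, mul_mem h1 h2, by decide⟩
    · exact ⟨_, h2, by decide⟩
  suffices hs : k⁻¹ * g ∈ K by
    have := mul_mem hk hs
    rwa [mul_inv_cancel_left] at this
  have ap : ∀ (x y : A) (i j l : Fin 7), y.1 i = j → x.1 l = j → (x⁻¹ * y).1 i = l := by
    intro x y i j l h h'
    change x.1⁻¹ (y.1 i) = l
    rw [h, ← h']
    exact Equiv.symm_apply_apply x.1 l
  have f0 : (k⁻¹ * g).1 0 = 0 := ap k g 0 _ 0 rfl k0
  have f1 : (k⁻¹ * g).1 1 = 1 := ap k g 1 _ 1 g1 k1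
  have f2 : (k⁻¹ * g).1 2 = 2 := ap k g 2 _ 2 g2 k2
  generalize k⁻¹ * g = x at f0 f1 f2
  clear g1 g2 inj ap k0 k1 k2 hk k g
  have inj := x.1.injective
  obtain ⟨k, hk, k0, k1, k2, k3⟩ : ∃ k ∈ K, k.1 0 = 0 ∧ k.1 1 = 1 ∧ k.1 2 = 2 ∧ k.1 3 = x.1 3 := by
    have h6 : x.1 3 ≠ 0 := fun h => absurd (inj (h.trans f0.symm)) (by decide)
    have h7 : x.1 3 ≠ 1 := fun h => absurd (inj (h.trans f1.symm)) (by decide)
    have h8 : x.1 3 ≠ 2 := fun h => absurd (inj (h.trans f2.symm)) (by decide)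
    generalize x.1 3 = t at h6 h7 h8
    fin_cases t
    · exact absurd rfl h6
    · exact absurd rfl h7
    · exact absurd rfl h8
    · exact ⟨1, one_mem _, by decide⟩
    · exact ⟨_, h3, by decide⟩
    · exact ⟨_, h4, by decide⟩
    · exact ⟨_, mul_mem h3 h4, by decide⟩
  suffices hs : k⁻¹ * x ∈ K by
    have := mul_mem hk hs
    rwa [mul_inv_cancel_left] at this
  have ap : ∀ (x y : A) (i j l : Fin 7), y.1 i = j → x.1 l = j → (x⁻¹ * y).1 i = l := by
    intro x y i j l h h'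
    change x.1⁻¹ (y.1 i) = l
    rw [h, ← h']
    exact Equiv.symm_apply_apply x.1 l
  have f0' : (k⁻¹ * x).1 0 = 0 := ap k x 0 _ 0 f0 k0
  have f1' : (k⁻¹ * x).1 1 = 1 := ap k x 1 _ 1 f1 k1
  have f2' : (k⁻¹ * x).1 2 = 2 := ap k x 2 _ 2 f2 k2
  have f3' : (k⁻¹ * x).1 3 = 3 := ap k x 3 _ 3 rfl k3
  generalize k⁻¹ * x = y at f0' f1' f2' f3'
  clear f0 f1 f2 inj ap k0 k1 k2 k3 hk k x
  have inj := y.1.injective
  obtain ⟨k, hk, k0, k1, k2, k3, k4⟩ : ∃ k ∈ K, k.1 0 = 0 ∧ k.1 1 = 1 ∧ k.1 2 = 2 ∧ k.1 3 = 3 ∧ k.1 4 = y.1 4 := by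
    have h6 : y.1 4 ≠ 0 := fun h => absurd (inj (h.trans f0'.symm)) (by decide)
    have h7 : y.1 4 ≠ 1 := fun h => absurd (inj (h.trans f1'.symm)) (by decide)
    have h8 : y.1 4 ≠ 2 := fun h => absurd (inj (h.trans f2'.symm)) (by decide)
    have h9 : y.1 4 ≠ 3 := fun h => absurd (inj (h.trans f3'.symm)) (by decide)
    generalize y.1 4 = t at h6 h7 h8 h9
    fin_cases t
    · exact absurd rfl h6
    · exact absurd rfl h7
    · exact absurd rfl h8
    · exact absurd rfl h9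
    · exact ⟨1, one_mem _, by decide⟩
    · exact ⟨_, h5, by decide⟩
    · exact ⟨_, mul_mem h5 h5, by decide⟩
  suffices hs : k⁻¹ * y ∈ K by
    have := mul_mem hk hs
    rwa [mul_inv_cancel_left] at this
  have ap : ∀ (x y : A) (i j l : Fin 7), y.1 i = j → x.1 l = j → (x⁻¹ * y).1 i = l := by
    intro x y i j l h h'
    change x.1⁻¹ (y.1 i) = l
    rw [h, ← h']
    exact Equiv.symm_apply_apply x.1 l
  have g0 : (k⁻¹ * y).1 0 = 0 := ap k y 0 _ 0 f0' k0
  have g1 : (k⁻¹ * y).1 1 = 1 := ap k y 1 _ 1 f1' k1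
  have g2 : (k⁻¹ * y).1 2 = 2 := ap k y 2 _ 2 f2' k2
  have g3 : (k⁻¹ * y).1 3 = 3 := ap k y 3 _ 3 f3' k3
  have g4 : (k⁻¹ * y).1 4 = 4 := ap k y 4 _ 4 rfl k4
  generalize k⁻¹ * y = z at g0 g1 g2 g3 g4
  have inj := z.1.injective
  have h6 : z.1 5 ≠ 0 := fun h => absurd (inj (h.trans g0.symm)) (by decide)
  have h7 : z.1 5 ≠ 1 := fun h => absurd (inj (h.trans g1.symm)) (by decide)
  have h8 : z.1 5 ≠ 2 := fun h => absurd (inj (h.trans g2.symm)) (by decide)
  have h9 : z.1 5 ≠ 3 := fun h => absurd (inj (h.trans g3.symm)) (by decide)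
  have h10 : z.1 5 ≠ 4 := fun h => absurd (inj (h.trans g4.symm)) (by decide)
  have l6 : z.1 6 ≠ 0 := fun h => absurd (inj (h.trans g0.symm)) (by decide)
  have l7 : z.1 6 ≠ 1 := fun h => absurd (inj (h.trans g1.symm)) (by decide)
  have l8 : z.1 6 ≠ 2 := fun h => absurd (inj (h.trans g2.symm)) (by decide)
  have l9 : z.1 6 ≠ 3 := fun h => absurd (inj (h.trans g3.symm)) (by decide)
  have l10 : z.1 6 ≠ 4 := fun h => absurd (inj (h.trans g4.symm)) (by decide)
  have l11 : z.1 6 ≠ z.1 5 := fun h => absurd (inj h) (by decide)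
  have h11 : z.1 5 = 5 ∨ z.1 5 = 6 := by
    generalize z.1 5 = t at h6 h7 h8 h9 h10
    revert t; decide
  have h12 : z.1 6 = 5 ∨ z.1 6 = 6 := by
    generalize z.1 6 = t at l6 l7 l8 l9 l10
    revert t; decide
  rcases h11 with h13 | h13
  · have h14 : z.1 6 = 6 := h12.resolve_left (fun h => l11 (h.trans h13.symm))
    have : z = 1 := by
      apply Subtype.ext
      apply Equiv.ext
      intro i
      fin_cases i
      · exact g0
      · exact g1
      · exact g2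
      · exact g3
      · exact g4
      · exact h13
      · exact h14
    rw [this]; exact one_mem _
  · exfalso
    have h14 : z.1 6 = 5 := h12.resolve_right (fun h => l11 (h.trans h13.symm))
    have h15 : z.1 = swap 5 6 := by
      apply Equiv.ext
      intro i
      fin_cases i
      · exact g0
      · exact g1
      · exact g2
      · exact g3
      · exact g4
      · exact h13
      · exact h14
    have h16 := z.2
    rw [Perm.mem_alternatingGroup, h15, Perm.sign_swap (by decide)] at h16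
    exact absurd h16 (by decide)

end Cfsg.Agent.H923.Ten.A7
end

-- part: H923/Ten/A7TwoB
section
/-!
# Ten-dimensional modules of `A₇`: the excluded case, conclusion (helper923)
-/

set_option autoImplicit false
set_option linter.unusedSectionVars false

namespace Cfsg.Agent.H923.Ten.A7

open Module Equiv

universe u v

variable {F : Type u} {V : Type v} [Field F] [AddCommGroup V] [Module F V] [FiniteDimensional F V]
variable {ρ : A →* (V →ₗ[F] V)}

theorem mem_range_conj {g k g' : A} {v : V} (e : g * k * g⁻¹ = g') (hv : v ∈ LinearMap.range (ρ g' - 1)) :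
    ρ g⁻¹ v ∈ LinearMap.range (ρ k - 1) := by
  obtain ⟨u, rfl⟩ := hv
  refine ⟨ρ g⁻¹ u, ?_⟩
  rw [LinearMap.sub_apply, Module.End.one_apply, LinearMap.sub_apply, Module.End.one_apply, map_sub]
  have e1 : k * g⁻¹ = g⁻¹ * g' := by rw [← e]; group
  rw [rel ρ e1]

namespace Irr

variable (h : Irr ρ)

include h

theorem case2_exists (hm : finrank F (W1 ρ) = 2) (h0 : finrank F (V0 ρ) = 4) (hw : ∀ u ∈ W1 ρ, ρ w u = u) :
    ∃ v : V, v ≠ 0 ∧ (∀ g : A, g.1 1 = 1 → g.1 2 = 2 → ρ g v = v) ∧ v + ρ a v + ρ a (ρ a v) = 0 := by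
  have hb1 : ∀ u ∈ W1 ρ, ρ b u = u := b_triv (c := 1) one_ne_zero (fun u hu => b_W1 hu)
    (fun u hu => by rw [one_smul]; exact hw u hu)
  have hbW : ∀ u ∈ WW ρ, ρ b u = u := by
    intro u hu
    obtain ⟨v1, h1, v2, h2', v3, h3, rfl⟩ := mem_WW.1 hu
    rw [map_add, map_add, hb1 _ h1, b_W2 hb1 h2', b_W3 hb1 h3]
  -- dimension of `WW`
  have dW : finrank F (WW ρ) = 6 := by
    have h1 := Submodule.finrank_sup_add_finrank_inf_eq (V0 ρ) (WW ρ)
    have h2 : V0 ρ ⊓ WW ρ = ⊥ := by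
      rw [eq_bot_iff]; rintro v ⟨hv0, hv1⟩; exact V0_inf_WW h.two hv0 hv1
    rw [h2, V0_sup_WW h.two, finrank_top, finrank_bot, h.dim, h0] at h1
    omega
  have hfb : f ρ b = 6 := by
    have h1 := h.f_b_le
    have h2 : finrank F (WW ρ) ≤ finrank F (Fx (ρ b)) :=
      Submodule.finrank_mono fun u hu => mem_Fx.2 (hbW u hu)
    unfold f at h1 ⊢
    omega
  have hFb : WW ρ = Fx (ρ b) :=
    Submodule.eq_of_le_of_finrank_eq (fun u hu => mem_Fx.2 (hbW u hu)) (dW.trans hfb.symm)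
  have hb0 : ∀ u ∈ V0 ρ, u + ρ b u + ρ b (ρ b u) = 0 := by
    intro u hu
    apply V0_inf_WW h.two (add_mem (add_mem hu (b_V0 hu)) (b_V0 (b_V0 hu)))
    rw [hFb, mem_Fx, map_add, map_add, bbb]
    abel
  have hbr : LinearMap.range (ρ b - 1) = V0 ρ := by
    apply Submodule.eq_of_le_of_finrank_eq
    · rintro _ ⟨u, rfl⟩
      have h1 : u ∈ V0 ρ ⊔ WW ρ := by rw [V0_sup_WW h.two]; trivial
      obtain ⟨v0, hv0, v1, hv1, rfl⟩ := Submodule.mem_sup.1 h1
      rw [LinearMap.sub_apply, Module.End.one_apply, map_add, hbW v1 hv1, add_sub_add_right_eq_sub]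
      exact sub_mem (b_V0 hv0) hv0
    · have h1 := rank_Fx (ρ b)
      have h2 := hfb
      unfold f at h2
      rw [h.dim, h2] at h1
      omega
  have hfa : f ρ a = 6 := (f_conj ρ conj_a).trans hfb
  have hra : finrank F (LinearMap.range (ρ a - 1)) = 4 := by
    have h1 := rank_Fx (ρ a)
    have h2 := hfa
    unfold f at h2
    rw [h.dim, h2] at h1
    omega
  -- `a` is trivial on `V0`
  have ha0 : ∀ u ∈ V0 ρ, ρ a u = u := by
    have d12 : finrank F ↥(W1 ρ ⊔ W2 ρ) = 4 := by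
      have h1 := Submodule.finrank_sup_add_finrank_inf_eq (W1 ρ) (W2 ρ)
      have h2 : W1 ρ ⊓ W2 ρ = ⊥ := by
        rw [eq_bot_iff]
        rintro v ⟨hv0, hv1⟩
        exact (indep h.two (zero_mem (V0 ρ)) hv0 (neg_mem hv1) (zero_mem (W3 ρ)) (by abel)).2.1
      rw [h2, finrank_bot, hm, ← eqW12, hm] at h1
      omega
    have h3 : finrank F ((W1 ρ ⊔ W2 ρ).map (ρ a - 1)) = 4 := by
      rw [← d12, ← LinearMap.range_domRestrict]
      apply LinearMap.finrank_range_of_inj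
      rw [← LinearMap.ker_eq_bot, LinearMap.ker_eq_bot']
      rintro ⟨x, hx⟩ hx0
      obtain ⟨v1, h1, v2, h2', rfl⟩ := Submodule.mem_sup.1 hx
      have h7 : ρ a (v1 + v2) - (v1 + v2) = 0 := hx0
      rw [map_add] at h7
      obtain ⟨-, h8, h9, -⟩ := indep h.two (zero_mem (V0 ρ)) h1 (sub_mem h2' (a_W1 h1)) (neg_mem (a_W2 h2')) (by
        have h10 : 0 + v1 + (v2 - ρ a v1) + -ρ a v2 = -(ρ a v1 + ρ a v2 - (v1 + v2)) := by abel
        rw [h10, h7, neg_zero])
      apply Subtype.ext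
      change v1 + v2 = 0
      rw [h8, map_zero, sub_zero] at h9
      rw [h8, h9, add_zero]
    have h4 : (W1 ρ ⊔ W2 ρ).map (ρ a - 1) = LinearMap.range (ρ a - 1) := by
      apply Submodule.eq_of_le_of_finrank_eq
      · rintro _ ⟨u, -, rfl⟩; exact ⟨u, rfl⟩
      · rw [h3, hra]
    intro u hu
    have h5 : (ρ a - 1) u ∈ (W1 ρ ⊔ W2 ρ).map (ρ a - 1) := by rw [h4]; exact ⟨u, rfl⟩
    obtain ⟨x, hx, hxu⟩ := h5
    have h6 : (ρ a - 1) u = 0 := by
      apply V0_inf_WW h.two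
      · rw [LinearMap.sub_apply, Module.End.one_apply]
        exact sub_mem (a_V0 hu) hu
      · rw [← hxu, LinearMap.sub_apply, Module.End.one_apply]
        have hx' : x ∈ WW ρ := (le_sup_left : W1 ρ ⊔ W2 ρ ≤ WW ρ) hx
        exact sub_mem (a_WW hx') hx'
    rw [LinearMap.sub_apply, Module.End.one_apply, sub_eq_zero] at h6
    exact h6
  have split' : ∀ u : V, ∃ v0 ∈ V0 ρ, ∃ v1 ∈ WW ρ, u = v0 + v1 := by
    intro u
    have h1 : u ∈ V0 ρ ⊔ WW ρ := by rw [V0_sup_WW h.two]; trivial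
    obtain ⟨v0, hv0, v1, hv1, rfl⟩ := Submodule.mem_sup.1 h1
    exact ⟨v0, hv0, v1, hv1, rfl⟩
  have hRa : LinearMap.range (ρ a - 1) ≤ WW ρ := by
    rintro _ ⟨u, rfl⟩
    obtain ⟨v0, hv0, v1, hv1, rfl⟩ := split' u
    rw [LinearMap.sub_apply, Module.End.one_apply, map_add, ha0 v0 hv0, add_sub_add_left_eq_sub]
    exact sub_mem (a_WW hv1) hv1
  have hRc : LinearMap.range (ρ c2 - 1) ≤ WW ρ := by
    rintro _ ⟨u, rfl⟩
    obtain ⟨v0, hv0, v1, hv1, rfl⟩ := split' u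
    rw [LinearMap.sub_apply, Module.End.one_apply, map_add, c2_act, c2_act, (mem_V0.1 hv0).2, ha0 v0 hv0,
      ha0 v0 hv0, add_sub_add_left_eq_sub]
    exact sub_mem (a_WW (a_WW (s2_WW hv1))) hv1
  have hrc : finrank F (LinearMap.range (ρ c2 - 1)) = 4 := by
    have h1 := rank_Fx (ρ c2)
    have h2 := (f_conj ρ conj_c2).trans hfb
    unfold f at h2
    rw [h.dim, h2] at h1
    omega
  have hinf : LinearMap.range (ρ a - 1) ⊓ LinearMap.range (ρ c2 - 1) ≠ ⊥ := by
    intro hbot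
    have h1 := Submodule.finrank_sup_add_finrank_inf_eq (LinearMap.range (ρ a - 1)) (LinearMap.range (ρ c2 - 1))
    have h2 := Submodule.finrank_mono (sup_le hRa hRc)
    rw [hbot, finrank_bot, hra, hrc] at h1
    omega
  obtain ⟨v, ⟨hva, hvc⟩, hv0⟩ := Submodule.exists_mem_ne_zero_of_ne_bot hinf
  have hva' := mem_range_conj k_a hva
  have hvc' := mem_range_conj k_c hvc
  rw [hbr] at hva' hvc'
  refine ⟨v, hv0, fun g g1 g2 => ?_, ?_⟩
  · exact sift (stab ρ v) (stab_conj k_1 (mem_V0.1 hva').1) (stab_conj k_2 (mem_V0.1 hva').2)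
      (stab_conj k_3 (mem_V0.1 hvc').1) (stab_conj k_4 (mem_V0.1 hvc').2) (stab_conj k_5 (ha0 _ hvc')) g g1 g2
  · have h1 := hb0 _ hva'
    have h2 := congrArg (ρ ga) h1
    have e1 : ga * b = a * ga := by rw [← k_a]; group
    rw [map_add, map_add, act_inv, rel ρ e1, act_inv, rel ρ e1, rel ρ e1, act_inv, map_zero] at h2
    exact h2

theorem case2_false' (v : V) (hv : v ≠ 0) (hs : ∀ g : A, g.1 1 = 1 → g.1 2 = 2 → ρ g v = v)
    (hr : v + ρ a v + ρ a (ρ a v) = 0) {μ : F} (hμ : μ = 1 ∨ μ = -1) (hw : ρ (e2 1 2 4 5) v = μ • v) : False := by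
  classical
  -- the vectors
  let u : Fin 7 → Fin 7 → V := fun k l => if hkl : ∃ g : A, g.1 1 = k ∧ g.1 2 = l then ρ hkl.choose v else 0
  have hu : ∀ g : A, ρ g v = u (g.1 1) (g.1 2) := by
    intro g
    have hex : ∃ g' : A, g'.1 1 = g.1 1 ∧ g'.1 2 = g.1 2 := ⟨g, rfl, rfl⟩
    change _ = if hkl : ∃ g' : A, g'.1 1 = g.1 1 ∧ g'.1 2 = g.1 2 then ρ hkl.choose v else 0
    rw [dif_pos hex]
    obtain ⟨e1, e2⟩ := hex.choose_spec
    generalize hex.choose = x at e1 e2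
    have h1 : ρ (x⁻¹ * g) v = v := by
      apply hs
      · change x.1⁻¹ (g.1 1) = 1
        rw [← e1]; exact Equiv.symm_apply_apply x.1 1
      · change x.1⁻¹ (g.1 2) = 2
        rw [← e2]; exact Equiv.symm_apply_apply x.1 2
    rw [← act] at h1
    rw [← h1, act_inv, h1]
  have ex3 : ∀ k l m : Fin 7, k ≠ l → l ≠ m → k ≠ m → ∃ g : A, g.1 1 = k ∧ g.1 2 = l ∧ g.1 3 = m := by
    intro k l m hkl hlm hkm
    obtain ⟨σ, s1, s2, s3⟩ : ∃ σ : Perm (Fin 7), σ 1 = k ∧ σ 2 = l ∧ σ 3 = m := by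
      set σ1 : Perm (Fin 7) := swap 1 k with hσ1
      set σ2 : Perm (Fin 7) := swap (σ1 2) l * σ1 with hσ2
      have a1 : σ1 1 = k := swap_apply_left 1 k
      have b1 : σ2 1 = k := by
        rw [hσ2, Perm.mul_apply, a1]
        exact swap_apply_of_ne_of_ne (fun h => absurd (σ1.injective (a1.trans h)) (by decide)) hkl
      have b2 : σ2 2 = l := by rw [hσ2, Perm.mul_apply, swap_apply_left]
      refine ⟨swap (σ2 3) m * σ2, ?_, ?_, ?_⟩
      · rw [Perm.mul_apply, b1]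
        exact swap_apply_of_ne_of_ne (fun h => absurd (σ2.injective (b1.trans h)) (by decide)) hkm
      · rw [Perm.mul_apply, b2]
        exact swap_apply_of_ne_of_ne (fun h => absurd (σ2.injective (b2.trans h)) (by decide)) hlm
      · rw [Perm.mul_apply, swap_apply_left]
    rcases Int.units_eq_one_or (Perm.sign σ) with h1 | h1
    · exact ⟨⟨σ, h1⟩, s1, s2, s3⟩
    · refine ⟨⟨σ * swap 5 6, ?_⟩, ?_, ?_, ?_⟩
      · rw [Perm.mem_alternatingGroup, map_mul, h1, Perm.sign_swap (by decide)]; decide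
      · change σ (swap 5 6 1) = k
        rw [show swap (5 : Fin 7) 6 1 = 1 by decide, s1]
      · change σ (swap 5 6 2) = l
        rw [show swap (5 : Fin 7) 6 2 = 2 by decide, s2]
      · change σ (swap 5 6 3) = m
        rw [show swap (5 : Fin 7) 6 3 = 3 by decide, s3]
  have ex2 : ∀ k l : Fin 7, k ≠ l → ∃ g : A, g.1 1 = k ∧ g.1 2 = l := by
    intro k l hkl
    obtain ⟨m, hm1, hm2⟩ : ∃ m : Fin 7, l ≠ m ∧ k ≠ m := by revert k l; decide
    obtain ⟨g, g1, g2, -⟩ := ex3 k l m hkl hm1 hm2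
    exact ⟨g, g1, g2⟩
  have P1 : ∀ (g : A) (k l : Fin 7), k ≠ l → ρ g (u k l) = u (g.1 k) (g.1 l) := by
    intro g k l hkl
    obtain ⟨x, rfl, rfl⟩ := ex2 k l hkl
    rw [← hu, act, hu]
    rfl
  have P2 : ∀ k l : Fin 7, k ≠ l → u l k = μ • u k l := by
    intro k l hkl
    obtain ⟨x, rfl, rfl⟩ := ex2 k l hkl
    rw [← hu, ← map_smul, ← hw, act, hu]
    congr 1
  have P3 : ∀ k l m : Fin 7, k ≠ l → l ≠ m → k ≠ m → u k l + u l m + u m k = 0 := by
    intro k l m hkl hlm hkm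
    obtain ⟨g, rfl, rfl, rfl⟩ := ex3 k l m hkl hlm hkm
    have h1 := congrArg (ρ g) hr
    rw [map_add, map_add, map_zero, hu, act, act, act, hu, hu] at h1
    exact h1
  have hv' : u 1 2 = v := by
    have := hu 1
    rw [act1] at this
    exact this.symm
  rcases hμ with rfl | rfl
  · -- all equal
    have P2' : ∀ k l : Fin 7, k ≠ l → u l k = u k l := fun k l hkl => by rw [P2 k l hkl, one_smul]
    have P4 : ∀ k l m n : Fin 7, k ≠ l → l ≠ m → k ≠ m → k ≠ n → l ≠ n → m ≠ n → u k l = u m n := by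
      intro k l m n h1 h2 h3 h4 h5 h6
      have e1 := P3 k l m h1 h2 h3
      have e2 := P3 k l n h1 h5 h4
      have e3 := P3 k m n h3 h6 h4
      have e4 := P3 l m n h2 h6 h5
      rw [P2' k m h3] at e1
      rw [P2' k n h4] at e2 e3
      rw [P2' l n h5] at e4
      have e5 : (2 : F) • (u k l - u m n) = 0 := by
        have : (2 : F) • (u k l - u m n) = (u k l + u l m + u k m) + (u k l + u l n + u k n) -
            (u k m + u m n + u k n) - (u l m + u m n + u l n) := by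
          rw [two_smul]; abel
        rw [this, e1, e2, e3, e4]; simp
      exact sub_eq_zero.1 ((smul_eq_zero.1 e5).resolve_left h.two)
    apply hv
    apply h.fix_zero
    apply top_of_g
    · change ρ c2 v = v
      rw [hu]
      change u 2 0 = v
      rw [← hv', P4 2 0 3 4, P4 1 2 3 4] <;> decide
    · change ρ g7 v = v
      rw [hu]
      change u 2 3 = v
      rw [← hv', P4 2 3 4 5, P4 1 2 4 5] <;> decide
  · -- few vectors
    have hS : ∀ k l : Fin 7, k ≠ l → u k l ∈ Submodule.span F (Set.range (u 0)) := by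
      intro k l hkl
      by_cases hk : k = 0
      · rw [hk]; exact Submodule.subset_span ⟨l, rfl⟩
      by_cases hl : l = 0
      · rw [hl, P2 0 k (Ne.symm hk)]
        exact Submodule.smul_mem _ _ (Submodule.subset_span ⟨k, rfl⟩)
      · have e1 := P3 0 k l (Ne.symm hk) hkl (Ne.symm hl)
        rw [P2 0 l (Ne.symm hl)] at e1
        have e2 : u k l = u 0 l - u 0 k := by
          have : u k l = (u 0 k + u k l + (-1 : F) • u 0 l) + (u 0 l - u 0 k) := by
            rw [neg_smul, one_smul]; abel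
          rw [this, e1, zero_add]
        rw [e2]
        exact sub_mem (Submodule.subset_span ⟨l, rfl⟩) (Submodule.subset_span ⟨k, rfl⟩)
    have hinv : ∀ g : A, ∀ x ∈ Submodule.span F (Set.range fun p : {p : Fin 7 // p ≠ 0} => u 0 p.1),
        ρ g x ∈ Submodule.span F (Set.range (u 0)) := by
      intro g x hx
      induction hx using Submodule.span_induction with
      | mem x hx =>
        obtain ⟨⟨p, hp⟩, rfl⟩ := hx
        rw [P1 g 0 p (Ne.symm hp)]
        exact hS _ _ fun h1 => hp (g.1.injective h1).symm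
      | zero => rw [map_zero]; exact zero_mem _
      | add x y _ _ hx hy => rw [map_add]; exact add_mem hx hy
      | smul c x _ hx => rw [map_smul]; exact Submodule.smul_mem _ _ hx
    have hu00 : u 0 0 = 0 := by
      have : ¬ ∃ g : A, g.1 1 = 0 ∧ g.1 2 = 0 := by
        rintro ⟨g, g1, g2⟩
        exact absurd (g.1.injective (g1.trans g2.symm)) (by decide)
      exact dif_neg this
    have hSS : Submodule.span F (Set.range (u 0)) ≤
        Submodule.span F (Set.range fun p : {p : Fin 7 // p ≠ 0} => u 0 p.1) := by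
      rw [Submodule.span_le]
      rintro _ ⟨p, rfl⟩
      by_cases hp : p = 0
      · rw [hp, hu00]; exact zero_mem _
      · exact Submodule.subset_span ⟨⟨p, hp⟩, rfl⟩
    rcases h.irr (Submodule.span F (Set.range (u 0))) (fun g x hx => hinv g x (hSS hx)) with h1 | h1
    · have h2 := hS 1 2 (by decide)
      rw [h1, Submodule.mem_bot, hv'] at h2
      exact hv h2
    · have h2 := finrank_range_le_card (R := F) (u 0)
      rw [Set.finrank, h1, finrank_top, h.dim] at h2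
      simp at h2

theorem case2_false (hm : finrank F (W1 ρ) = 2) (h0 : finrank F (V0 ρ) = 4) (hw : ∀ u ∈ W1 ρ, ρ w u = u) :
    False := by
  obtain ⟨v, hv, hs, hr⟩ := h.case2_exists hm h0 hw
  have r1 : e2 1 2 4 5 * a = a⁻¹ * e2 1 2 4 5 := by decide
  have r2 : e2 1 2 4 5 * e2 1 2 4 5 = 1 * 1 := by decide
  set w' : A := e2 1 2 4 5 with hw'
  have hs' : ∀ g : A, g.1 1 = 1 → g.1 2 = 2 → ρ g (ρ w' v) = ρ w' v := by
    intro g g1 g2
    have h1 : ρ (w' * g * w') v = v := by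
      apply hs
      · change w'.1 (g.1 (w'.1 1)) = 1
        rw [show w'.1 1 = 2 by rw [hw']; decide, g2, hw']; decide
      · change w'.1 (g.1 (w'.1 2)) = 2
        rw [show w'.1 2 = 1 by rw [hw']; decide, g1, hw']; decide
    rw [← act, ← act] at h1
    have h2 := congrArg (ρ w') h1
    rwa [invol w' r2] at h2
  have hr' : ρ w' v + ρ a (ρ w' v) + ρ a (ρ a (ρ w' v)) = 0 := by
    have h1 := congrArg (ρ w') hr
    rw [map_add, map_add, map_zero, rel ρ r1, rel ρ r1, rel ρ r1, ai, ai, aaa] at h1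
    rw [← h1]; abel
  by_cases hz : v + ρ w' v = 0
  · have h3 : ρ w' v = (-1 : F) • v := by
      rw [neg_smul, one_smul]
      exact (neg_eq_of_add_eq_zero_right hz).symm
    exact h.case2_false' v hv hs hr (Or.inr rfl) h3
  · refine h.case2_false' (v + ρ w' v) hz (fun g g1 g2 => by rw [map_add, hs g g1 g2, hs' g g1 g2]) ?_
      (Or.inl rfl) ?_
    · have : v + ρ w' v + ρ a (v + ρ w' v) + (ρ a (ρ a (v + ρ w' v))) =
          (v + ρ a v + ρ a (ρ a v)) + (ρ w' v + ρ a (ρ w' v) + ρ a (ρ a (ρ w' v))) := by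
        rw [map_add, map_add]; abel
      rw [this, hr, hr', add_zero]
    · rw [map_add, invol w' r2, one_smul, add_comm]

/-- **First step.** -/
theorem exists_good : ∃ v, Good ρ v := by
  obtain ⟨m, n1, n2, n3, n4, d1, d2, d3, d4, d5, d6, d7, d8, d9, d10, d11, d12, d13⟩ := h.dims
  have h1 := h.f_s1_le
  have h2 := h.f_x4_le
  rw [d12] at h1
  rw [d13] at h2
  obtain rfl | rfl : m = 2 ∨ m = 3 := by omega
  · exfalso
    have hn3 : n3 = 2 := by omega
    have hW : W1 ρ ⊓ Fx (ρ w) = W1 ρ := Submodule.eq_of_le_of_finrank_eq inf_le_left (by rw [d7, d1, hn3])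
    refine h.case2_false d1 (by omega) fun u hu => ?_
    rw [← hW] at hu
    exact mem_Fx.1 hu.2
  · exact h.case3 n1 n2 n3 n4 d1 (by omega) d5 d6 d7 d8 (by omega) d10 d11

end Irr

end Cfsg.Agent.H923.Ten.A7
end

-- part: H923/Ten/A7Sph
section
/-!
# Ten-dimensional modules of `A₇`: the spherical function (helper923)
-/

set_option autoImplicit false
set_option linter.unusedSectionVars false
set_option maxRecDepth 10000

namespace Cfsg.Agent.H923.Ten.A7

open Module Equiv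

universe u v

variable {F : Type u} {V : Type v} [Field F] [AddCommGroup V] [Module F V] [FiniteDimensional F V]
variable {ρ : A →* (V →ₗ[F] V)}

/-- the dual representation -/
def dl (ρ : A →* (V →ₗ[F] V)) : A →* (Dual F V →ₗ[F] Dual F V) where
  toFun g := (ρ g⁻¹).dualMap
  map_one' := by
    ext ξ v
    change ξ (ρ (1 : A)⁻¹ v) = ξ v
    rw [inv_one, act1]
  map_mul' x y := by
    ext ξ v
    change ξ (ρ (x * y)⁻¹ v) = ξ (ρ y⁻¹ (ρ x⁻¹ v))
    rw [act, mul_inv_rev]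

theorem dl_apply (g : A) (ξ : Dual F V) (v : V) : dl ρ g ξ v = ξ (ρ g⁻¹ v) := rfl

theorem Irr.dual (h : Irr ρ) : Irr (dl ρ) where
  two := h.two
  dim := by rw [Subspace.dual_finrank_eq, h.dim]
  irr := by
    intro U hU
    have h1 := h.irr U.dualCoannihilator (by
      intro g u hu
      rw [Submodule.mem_dualCoannihilator] at hu ⊢
      intro ξ hξ
      have h2 := hu _ (hU g⁻¹ ξ hξ)
      rwa [dl_apply, inv_inv] at h2)
    have h2 : U.dualCoannihilator.dualAnnihilator = U := Subspace.dualCoannihilator_dualAnnihilator_eq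
    rcases h1 with h1 | h1
    · right; rw [← h2, h1, Submodule.dualAnnihilator_bot]
    · left; rw [← h2, h1, Submodule.dualAnnihilator_top]

/-- normal form of the elements of the stabiliser of `{4, 5, 6}` -/
def nf (i : Fin 4) (j k : Fin 3) (l : Fin 2) : A :=
  (![1, s1, s2, s3] i) * a ^ (j : ℕ) * b ^ (k : ℕ) * w ^ (l : ℕ)

theorem Good.nf_act {v : V} (hv : Good ρ v) (i : Fin 4) (j k : Fin 3) (l : Fin 2) :
    ρ (nf i j k l) v = (-1 : F) ^ (l : ℕ) • v := by
  obtain ⟨-, h1, h2, ha, hb, hw, -⟩ := hv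
  have hw' : ρ (w ^ (l : ℕ)) v = (-1 : F) ^ (l : ℕ) • v := by
    fin_cases l
    · change ρ (w ^ 0) v = (-1 : F) ^ 0 • v
      rw [pow_zero, pow_zero, act1, one_smul]
    · change ρ (w ^ 1) v = (-1 : F) ^ 1 • v
      rw [pow_one, pow_one, hw, neg_smul, one_smul]
  have hb' : b ^ (k : ℕ) ∈ stab ρ v := (stab ρ v).pow_mem (show b ∈ stab ρ v from hb) _
  have ha' : a ^ (j : ℕ) ∈ stab ρ v := (stab ρ v).pow_mem (show a ∈ stab ρ v from ha) _
  have hs' : (![1, s1, s2, s3] i : A) ∈ stab ρ v := by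
    fin_cases i
    · exact one_mem _
    · exact h1
    · exact h2
    · change ρ s3 v = v
      rw [s3_act, h2, h1]
  rw [nf, ← act, hw', map_smul]
  congr 1
  exact mul_mem (mul_mem hs' ha') hb'

theorem Good.rel0 {v : V} (hv : Good ρ v) {g g' : A} (i : Fin 4) (j k : Fin 3) (e : g = g' * nf i j k 0) :
    ρ g v = ρ g' v := by
  have h1 := hv.nf_act i j k 0
  rw [show (-1 : F) ^ ((0 : Fin 2) : ℕ) = 1 from pow_zero _, one_smul] at h1
  rw [e, ← act, h1]

theorem Good.rel1 {v : V} (hv : Good ρ v) {g g' : A} (i : Fin 4) (j k : Fin 3) (e : g = g' * nf i j k 1) :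
    ρ g v = -ρ g' v := by
  have h1 := hv.nf_act i j k 1
  rw [show (-1 : F) ^ ((1 : Fin 2) : ℕ) = -1 from pow_one _, neg_smul, one_smul] at h1
  rw [e, ← act, h1, map_neg]

/-- the sum over the four-group -/
def es (ρ : A →* (V →ₗ[F] V)) (v : V) : V := v + ρ s1 v + ρ s2 v + ρ s3 v

theorem Good.es_eq {v : V} (hv : Good ρ v) (u : V) : ∃ κ : F, es ρ u = κ • v := by
  obtain ⟨-, h1, h2, ha, hb, hw, h6⟩ := hv
  have i1 : ∀ u, ρ s1 (ρ s1 u) = u := invol _ r_11
  have i2 : ∀ u, ρ s2 (ρ s2 u) = u := invol _ r_22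
  have i3 : ∀ u, ρ s1 (ρ s2 u) = ρ s2 (ρ s1 u) := fun u => rel ρ r_12 u
  apply h6
  · rw [es, map_add, map_add, map_add, i1, s3_act, i1]; abel
  · rw [es, map_add, map_add, map_add, i2, s3_act, i3, i2]; abel

/-- the situation after the second step -/
structure Sph (ρ : A →* (V →ₗ[F] V)) (v : V) (ξ : V →ₗ[F] F) (lam : F) : Prop where
  irr : Irr ρ
  good : Good ρ v
  nfv : ∀ i j k l, ρ (nf i j k l) v = (-1 : F) ^ (l : ℕ) • v
  nfx : ∀ i j k l u, ξ (ρ (nf i j k l) u) = (-1 : F) ^ (l : ℕ) * ξ u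
  one : ξ v = 1
  x : ξ (ρ c6 v) = -(4 : F)⁻¹
  hlam : es ρ (ρ (e2 0 5 5 1 * e2 1 4 2 6) v) = lam • v
  sq : lam ^ 2 = -7

theorem nf_inv_exists (i : Fin 4) (j k : Fin 3) (l : Fin 2) :
    ∃ i' j' k', (nf i j k l)⁻¹ = nf i' j' k' l := by
  revert i j k l; (set_option synthInstance.maxSize 9000 in open scoped Cfsg.Agent.Lib.FastPerm in decide +kernel)

theorem Irr.exists_sph (h : Irr ρ) : ∃ v ξ lam, Sph ρ v ξ lam := by
  obtain ⟨v, hv⟩ := h.exists_good
  obtain ⟨ξ0, hξ⟩ := h.dual.exists_good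
  have h4 : (4 : F) ≠ 0 := by
    have : (4 : F) = 2 * 2 := by norm_num
    rw [this]; exact mul_ne_zero h.two h.two
  -- action on the functional
  have nx : ∀ i j k l u, ξ0 (ρ (nf i j k l) u) = (-1 : F) ^ (l : ℕ) * ξ0 u := by
    intro i j k l u
    obtain ⟨i', j', k', e⟩ := nf_inv_exists i j k l
    have h1 := hξ.nf_act i' j' k' l
    rw [← e] at h1
    have h2 := LinearMap.congr_fun h1 u
    rw [dl_apply, inv_inv] at h2
    rw [h2]; rfl
  have n1 : ∀ u, ξ0 (ρ s1 u) = ξ0 u := fun u => by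
    have := nx 1 0 0 0 u
    rwa [show nf 1 0 0 0 = s1 by decide, show (-1 : F) ^ ((0 : Fin 2) : ℕ) = 1 from pow_zero _, one_mul] at this
  have n2 : ∀ u, ξ0 (ρ s2 u) = ξ0 u := fun u => by
    have := nx 2 0 0 0 u
    rwa [show nf 2 0 0 0 = s2 by decide, show (-1 : F) ^ ((0 : Fin 2) : ℕ) = 1 from pow_zero _, one_mul] at this
  have n3 : ∀ u, ξ0 (ρ s3 u) = ξ0 u := fun u => by
    have := nx 3 0 0 0 u
    rwa [show nf 3 0 0 0 = s3 by decide, show (-1 : F) ^ ((0 : Fin 2) : ℕ) = 1 from pow_zero _, one_mul] at this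
  have nes : ∀ u, ξ0 (es ρ u) = 4 * ξ0 u := fun u => by
    rw [es, map_add, map_add, map_add, n1, n2, n3]; ring
  -- nonvanishing
  have hne : ξ0 v ≠ 0 := by
    intro h0
    have h1 : ∀ g, ξ0 (ρ g v) = 0 := by
      intro g
      obtain ⟨κ, hκ⟩ := hv.es_eq (ρ g v)
      have h2 := nes (ρ g v)
      rw [hκ, map_smul, h0, smul_zero] at h2
      exact (mul_eq_zero.1 h2.symm).resolve_left h4
    rcases h.irr (Submodule.span F (Set.range fun g => ρ g v)) (by
      intro g u hu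
      induction hu using Submodule.span_induction with
      | mem x hx =>
        obtain ⟨y, rfl⟩ := hx
        rw [act]
        exact Submodule.subset_span ⟨_, rfl⟩
      | zero => rw [map_zero]; exact zero_mem _
      | add x y _ _ hx hy => rw [map_add]; exact add_mem hx hy
      | smul c x _ hx => rw [map_smul]; exact Submodule.smul_mem _ _ hx) with h2 | h2
    · apply hv.1
      rw [← Submodule.mem_bot F, ← h2]
      exact Submodule.subset_span ⟨1, act1 ρ v⟩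
    · apply hξ.1
      apply LinearMap.ext
      intro u
      have hu : u ∈ Submodule.span F (Set.range fun g => ρ g v) := by rw [h2]; trivial
      induction hu using Submodule.span_induction with
      | mem x hx => obtain ⟨y, rfl⟩ := hx; exact h1 y
      | zero => rw [map_zero, map_zero]
      | add x y _ _ hx hy => rw [map_add, hx, hy, LinearMap.zero_apply, LinearMap.zero_apply, LinearMap.zero_apply, add_zero]
      | smul c x _ hx => rw [map_smul, hx, LinearMap.zero_apply, LinearMap.zero_apply, smul_zero]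
  set ξ : V →ₗ[F] F := (ξ0 v)⁻¹ • ξ0 with hξdef
  have ξap : ∀ u, ξ u = (ξ0 v)⁻¹ * ξ0 u := fun u => rfl
  have h1 : ξ v = 1 := by rw [ξap, inv_mul_cancel₀ hne]
  have nx' : ∀ i j k l u, ξ (ρ (nf i j k l) u) = (-1 : F) ^ (l : ℕ) * ξ u := by
    intro i j k l u
    rw [ξap, ξap, nx]; ring
  have nes' : ∀ u, ξ (es ρ u) = 4 * ξ u := fun u => by
    rw [ξap, ξap, nes]; ring
  -- the value at `c6`
  have hx : ξ (ρ c6 v) = -(4 : F)⁻¹ := by
    obtain ⟨κ, hκ⟩ := hv.es_eq (ρ c6 v)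
    have hκ1 : κ = -1 := by
      by_contra hne1
      have hne2 : 1 + κ ≠ 0 := fun h0 => hne1 (by linear_combination h0)
      have e0 : v + es ρ (ρ c6 v) = (1 + κ) • v := by rw [hκ, add_smul, one_smul]
      have e1 : ρ c6 (ρ c6 v) = ρ s1 (ρ c6 v) := by
        rw [act, act]; exact hv.rel0 1 0 0 (by decide)
      have e2' : ρ c6 (ρ s1 (ρ c6 v)) = v := by
        rw [act, act]
        exact (hv.rel0 (g' := 1) 1 0 0 (by decide)).trans (act1 ρ v)
      have e3 : ρ c6 (ρ s2 (ρ c6 v)) = ρ s2 (ρ c6 v) := by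
        rw [act, act, act]; exact hv.rel0 0 1 0 (by decide)
      have e4 : ρ c6 (ρ s3 (ρ c6 v)) = ρ s3 (ρ c6 v) := by
        rw [act, act, act]; exact hv.rel0 0 2 0 (by decide)
      have e5 := congrArg (ρ c6) e0
      rw [map_smul, es, map_add, map_add, map_add, map_add, e1, e2', e3, e4] at e5
      have e6 : (1 + κ) • v = (1 + κ) • ρ c6 v := by
        rw [← e5, ← e0, es]; abel
      have e7 : ρ c6 v = v := (smul_right_injective V hne2 e6).symm
      apply hv.1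
      apply h.fix_zero
      have hb : b ∈ stab ρ v := hv.2.2.2.2.1
      have h6 : c6 ∈ stab ρ v := e7
      have h4' : c4 ∈ stab ρ v := by
        rw [show c4 = b * c6 * b⁻¹ by decide]
        exact mul_mem (mul_mem hb h6) (inv_mem hb)
      refine top_of_c _ ?_ ?_ h4' ?_ h6
      · exact (hv.rel0 (g' := 1) 1 2 0 (by decide)).trans (act1 ρ v)
      · exact (hv.rel0 (g' := 1) 1 1 0 (by decide)).trans (act1 ρ v)
      · rw [show c5 = b * c4 * b⁻¹ by decide]
        exact mul_mem (mul_mem hb h4') (inv_mem hb)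
    have e8 := nes' (ρ c6 v)
    rw [hκ, hκ1, map_smul, h1, smul_eq_mul, mul_one] at e8
    rw [eq_neg_iff_add_eq_zero]
    have e9 : (4 : F) * (ξ (ρ c6 v) + 4⁻¹) = 0 := by
      rw [mul_add, ← e8, mul_inv_cancel₀ h4]; ring
    exact (mul_eq_zero.1 e9).resolve_left h4
  obtain ⟨lam, hlam⟩ := hv.es_eq (ρ (e2 0 5 5 1 * e2 1 4 2 6) v)
  refine ⟨v, ξ, lam, h, hv, hv.nf_act, nx', h1, hx, hlam, ?_⟩
  -- the square
  set g0 : A := e2 0 5 5 1 * e2 1 4 2 6 with hg0
  have y1 : 4 * ξ (ρ g0 v) = lam := by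
    rw [← nes', hlam, map_smul, h1, smul_eq_mul, mul_one]
  have y2 : ρ g0⁻¹ v = -ρ g0 v := hv.rel1 0 0 0 (by rw [hg0]; decide)
  have y3 : ξ (ρ g0⁻¹ (es ρ (ρ g0 v))) = lam * ξ (ρ g0⁻¹ v) := by
    rw [hlam, map_smul, map_smul, smul_eq_mul]
  have z : ∀ (k : A) (i : Fin 4) (j m : Fin 3) (l : Fin 2) (i' : Fin 4) (j' m' : Fin 3) (l' : Fin 2),
      g0⁻¹ * k * g0 = nf i j m l * (c6 * nf i' j' m' l') →
      ξ (ρ g0⁻¹ (ρ k (ρ g0 v))) = (-1) ^ (l : ℕ) * ((-1) ^ (l' : ℕ) * -(4 : F)⁻¹) := by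
    intro k i j m l i' j' m' l' e
    rw [act, act, e, ← act, ← act, nx', hv.nf_act, map_smul, map_smul, hx, smul_eq_mul]
  have z1 := z s1 0 2 0 1 0 1 0 0 (by rw [hg0]; decide)
  have z2 := z s2 0 2 2 1 0 1 1 0 (by rw [hg0]; decide)
  have z3 := z s3 0 2 1 1 0 1 2 0 (by rw [hg0]; decide)
  rw [es, map_add, map_add, map_add, map_add, map_add, map_add, z1, z2, z3, inv_act, h1, y2, map_neg] at y3
  have y4 : (1 : F) + 4⁻¹ + 4⁻¹ + 4⁻¹ = -(lam * ξ (ρ g0 v)) := by
    have hl0 : (-1 : F) ^ ((0 : Fin 2) : ℕ) = 1 := pow_zero _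
    have hl1 : (-1 : F) ^ ((1 : Fin 2) : ℕ) = -1 := pow_one _
    rw [hl0, hl1] at y3
    linear_combination y3
  have y5 : (4 : F) * (1 + 4⁻¹ + 4⁻¹ + 4⁻¹) = 7 := by
    have : (4 : F) * (1 + 4⁻¹ + 4⁻¹ + 4⁻¹) = 4 + 3 * (4 * 4⁻¹) := by ring
    rw [this, mul_inv_cancel₀ h4]; norm_num
  rw [y4] at y5
  linear_combination (-1 : F) * y5 - lam * y1

end Cfsg.Agent.H923.Ten.A7
end

-- part: H923/Ten/A7Tab
section
/-!
# Tables for the ten-dimensional module of `A₇` (helper923)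
-/

set_option autoImplicit false
set_option maxRecDepth 20000

namespace Cfsg.Agent.H923.Ten.A7

/-- representatives -/
def gT : Fin 35 → A := ![
  e2 0 3 3 4 * e2 1 5 2 6,
  e2 0 2 2 4 * e2 1 5 3 6,
  e2 0 2 2 6 * e2 6 4 1 5,
  e2 0 2 2 4 * e2 1 6 6 5,
  e2 0 4 1 5,
  e2 0 1 1 4 * e2 2 5 3 6,
  e2 0 1 1 6 * e2 6 4 2 5,
  e2 0 1 1 4 * e2 2 6 6 5,
  e2 0 4 2 5,
  e2 0 1 1 6 * e2 6 4 3 5,
  e2 0 1 1 4 * e2 3 6 6 5,
  e2 0 4 3 5,
  e2 0 1 1 6 * e2 6 5 5 4,
  e2 0 5 5 4,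
  e2 0 1 1 4,
  e2 1 4 2 6 * e2 6 3 3 5,
  e2 1 3 3 6 * e2 6 4 2 5,
  e2 1 3 3 4 * e2 2 6 6 5,
  e2 1 4 2 5,
  e2 1 2 2 6 * e2 6 4 3 5,
  e2 1 2 2 4 * e2 3 6 6 5,
  e2 1 4 3 5,
  e2 1 2 2 6 * e2 6 5 5 4,
  e2 1 5 5 4,
  e2 1 2 2 4,
  e2 2 5 5 3 * e2 3 6 6 4,
  e2 2 6 6 5 * e2 5 3 3 4,
  e2 2 4 3 5,
  e2 2 3 3 6 * e2 6 5 5 4,
  e2 2 5 5 4,
  e2 2 3 3 4,
  e2 2 6 6 5 * e2 5 4 4 3,
  e2 3 5 5 4,
  e2 2 4 4 3,
  1]

def pi_c2 : Fin 35 → Fin 35 := ![0, 15, 16, 17, 18, 1, 2, 3, 4, 19, 20, 21, 22, 23, 24, 5, 6, 7, 8, 25, 26, 27, 28, 29, 30, 9, 10, 11, 12, 13, 14, 31, 32, 33, 34]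

def nl_c2 : Fin 35 → Fin 4 × Fin 3 × Fin 3 × Fin 2 := ![(0, 0, 1, 0), (0, 2, 0, 0), (0, 1, 0, 0), (0, 1, 0, 0), (1, 2, 0, 0), (2, 1, 0, 1), (2, 1, 0, 1), (2, 1, 0, 1), (2, 1, 0, 1), (1, 2, 0, 0), (1, 2, 0, 0), (1, 2, 0, 0), (1, 2, 0, 0), (1, 2, 0, 0), (1, 2, 0, 0), (1, 0, 0, 1), (3, 2, 0, 1), (3, 2, 0, 1), (0, 0, 0, 1), (1, 0, 0, 0), (1, 0, 0, 0), (1, 2, 0, 0), (1, 0, 0, 0), (1, 2, 0, 0), (1, 0, 0, 0), (0, 1, 0, 0), (0, 1, 0, 0), (1, 2, 0, 0), (0, 1, 0, 0), (1, 2, 0, 0), (0, 1, 0, 0), (1, 1, 0, 0), (1, 2, 0, 0), (1, 1, 0, 0), (1, 2, 0, 0)]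

def pi_g7 : Fin 35 → Fin 35 := ![15, 16, 17, 18, 0, 19, 20, 21, 1, 22, 23, 2, 24, 3, 4, 25, 26, 27, 5, 28, 29, 6, 30, 7, 8, 31, 32, 9, 33, 10, 11, 34, 12, 13, 14]

def nl_g7 : Fin 35 → Fin 4 × Fin 3 × Fin 3 × Fin 2 := ![(1, 2, 0, 0), (1, 1, 0, 0), (1, 2, 0, 0), (3, 2, 0, 0), (1, 2, 1, 0), (1, 1, 0, 0), (1, 0, 0, 0), (2, 0, 0, 0), (1, 0, 1, 0), (1, 0, 0, 0), (2, 2, 0, 0), (1, 0, 1, 0), (1, 0, 0, 0), (1, 0, 1, 0), (2, 2, 1, 0), (1, 2, 0, 0), (1, 1, 0, 0), (1, 2, 0, 0), (0, 1, 1, 0), (1, 2, 0, 0), (1, 1, 0, 0), (0, 1, 1, 0), (1, 2, 0, 0), (0, 1, 1, 0), (1, 1, 1, 0), (1, 1, 0, 0), (1, 2, 0, 0), (0, 1, 1, 0), (1, 1, 0, 0), (0, 1, 1, 0), (1, 2, 1, 0), (1, 2, 0, 0), (0, 1, 1, 0), (1, 2, 1, 0), (0, 1, 1, 0)]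

/-- classes: 0 trivial, 1 = `c6`, 2 = `r1`, 3 = `g0` -/
def r1 : A := e2 0 4 4 6 * e2 6 2 1 5

def cls : Fin 35 → Fin 4 := ![3, 3, 2, 2, 2, 3, 2, 2, 2, 2, 2, 2, 1, 1, 1, 3, 2, 2, 2, 2, 2, 2, 1, 1, 1, 2, 2, 2, 1, 1, 1, 1, 1, 1, 0]

def rep : Fin 4 → A := ![1, c6, r1, e2 0 5 5 1 * e2 1 4 2 6]

def cl1 : Fin 35 → Fin 4 × Fin 3 × Fin 3 × Fin 2 := ![(1, 1, 0, 0), (1, 1, 0, 0), (0, 0, 0, 0), (0, 0, 0, 0), (0, 2, 0, 1), (1, 1, 0, 0), (0, 0, 0, 0), (0, 0, 0, 0), (0, 0, 0, 1), (0, 2, 0, 0), (0, 2, 0, 0), (0, 1, 0, 1), (0, 0, 1, 1), (0, 0, 1, 0), (0, 0, 1, 1), (1, 1, 0, 0), (0, 1, 0, 0), (0, 1, 0, 0), (0, 0, 0, 0), (0, 1, 0, 0), (0, 1, 0, 0), (0, 2, 0, 0), (0, 1, 1, 1), (0, 0, 1, 1), (0, 1, 1, 1), (0, 1, 0, 0), (0, 1, 0, 0), (0, 1, 0, 0), (0, 2, 1, 1), (0, 1, 1, 1), (0, 2, 1, 1), (0, 1, 1, 1), (0, 2, 1, 1), (0, 1, 1, 1), (0, 0, 0, 0)]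

def cl2 : Fin 35 → Fin 4 × Fin 3 × Fin 3 × Fin 2 := ![(0, 0, 0, 1), (1, 0, 2, 0), (0, 0, 0, 0), (0, 0, 2, 0), (1, 0, 1, 0), (3, 1, 2, 1), (2, 1, 2, 1), (2, 1, 0, 1), (1, 2, 1, 0), (0, 1, 0, 0), (0, 1, 2, 0), (1, 1, 1, 0), (0, 0, 0, 1), (0, 0, 2, 1), (0, 0, 1, 1), (3, 1, 0, 0), (2, 1, 0, 0), (2, 1, 2, 0), (2, 1, 1, 0), (0, 1, 2, 1), (0, 1, 0, 1), (0, 1, 1, 1), (1, 0, 0, 1), (0, 0, 1, 0), (1, 0, 1, 1), (2, 0, 0, 0), (2, 0, 2, 0), (2, 0, 1, 0), (2, 1, 0, 1), (0, 2, 1, 0), (2, 1, 1, 1), (3, 2, 0, 1), (0, 1, 1, 0), (3, 2, 1, 1), (0, 0, 0, 0)]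

/-- entries `p + q √-7` -/
def Sl : List (List (List (ℤ × ℤ))) := (let yq1 : List (List (List (ℤ × ℤ))) := (let yq2 : List (List (List (ℤ × ℤ))) := (let yq3 : List (List (List (ℤ × ℤ))) := %[[[(4, 0), (4, 0), (1, 1), (3, 1)], [(4, 0), (-4, 0), (3, -1), (-1, 1)], [(1, 1), (3, -1), (-2, -2), (0, 0)], [(3, 1), (-1, 1), (0, 0), (2, -2)]],
  [[(-4, 0), (-1, -1), (0, 2), (2, 0)], [(-1, -1), (4, 0), (2, 0), (0, -2)], [(0, 2), (2, 0), (-4, 0), (1, -1)], [(2, 0), (0, -2), (1, -1), (4, 0)]],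
  [[(2, 2), (-1, -1), (3, -1), (0, 0)], [(-1, -1), (-4, 0), (4, 0), (3, 1)], [(3, -1), (4, 0), (4, 0), (1, -1)], [(0, 0), (3, 1), (1, -1), (-2, 2)]],
  [[(-4, 0), (1, 1), (3, 1), (-4, 0)], [(1, 1), (2, 2), (0, 0), (3, -1)], [(3, 1), (0, 0), (-2, 2), (-1, 1)], [(-4, 0), (3, -1), (-1, 1), (4, 0)]],
  [[(4, 0), (-6, 0), (0, 0), (-2, 0)], [(-6, 0), (-4, 0), (-2, 0), (0, 0)], [(0, 0), (-2, 0), (4, 0), (6, 0)], [(-2, 0), (0, 0), (6, 0), (-4, 0)]] | []];
  %[[[(2, -2), (1, -1), (-1, 1), (1, -1)], [(1, -1), (4, 0), (3, -1), (-3, 1)], [(-1, 1), (3, -1), (4, 0), (3, -1)], [(1, -1), (-3, 1), (3, -1), (4, 0)]],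
  [[(-4, 0), (-3, -1), (4, 0), (1, 1)], [(-3, -1), (-2, 2), (-1, 1), (0, 0)], [(4, 0), (-1, 1), (4, 0), (-3, 1)], [(1, 1), (0, 0), (-3, 1), (2, 2)]],
  [[(2, 2), (4, 0), (0, 0), (-1, -1)], [(4, 0), (-2, 2), (-1, 1), (0, 0)], [(0, 0), (-1, 1), (2, -2), (-4, 0)], [(-1, -1), (0, 0), (-4, 0), (-2, -2)]],
  [[(2, -2), (0, 0), (1, -1), (-3, -1)], [(0, 0), (-2, -2), (-3, 1), (-1, -1)], [(1, -1), (-3, 1), (-4, 0), (4, 0)], [(-3, -1), (-1, -1), (4, 0), (4, 0)]] | yq3]);
  (let yq4 : type_of% yq2 := %[[[(-2, 2), (3, 1), (0, 0), (1, -1)], [(3, 1), (-4, 0), (-1, -1), (4, 0)], [(0, 0), (-1, -1), (2, 2), (3, -1)], [(1, -1), (4, 0), (3, -1), (4, 0)]],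
  [[(2, -2), (4, 0), (0, 0), (-1, 1)], [(4, 0), (-2, -2), (-1, -1), (0, 0)], [(0, 0), (-1, -1), (2, 2), (-4, 0)], [(-1, 1), (0, 0), (-4, 0), (-2, 2)]],
  [[(-4, 0), (-4, 0), (-1, 1), (-3, 1)], [(-4, 0), (4, 0), (-3, -1), (1, 1)], [(-1, 1), (-3, -1), (2, -2), (0, 0)], [(-3, 1), (1, 1), (0, 0), (-2, -2)]],
  [[(-2, -2), (0, 0), (-1, -1), (3, -1)], [(0, 0), (2, -2), (3, 1), (1, -1)], [(-1, -1), (3, 1), (4, 0), (-4, 0)], [(3, -1), (1, -1), (-4, 0), (-4, 0)]],
  [[(-4, 0), (3, 1), (-1, -1), (-3, -1)], [(3, 1), (-4, 0), (-1, -1), (-3, -1)], [(-1, -1), (-1, -1), (-2, -2), (1, 1)], [(-3, -1), (-3, -1), (1, 1), (-4, 0)]] | yq2];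
  %[[[(-4, 0), (2, 0), (1, 1), (0, -2)], [(2, 0), (4, 0), (0, 2), (-1, 1)], [(1, 1), (0, 2), (4, 0), (2, 0)], [(0, -2), (-1, 1), (2, 0), (-4, 0)]],
  [[(4, 0), (-2, 0), (6, 0), (0, 0)], [(-2, 0), (-4, 0), (0, 0), (-6, 0)], [(6, 0), (0, 0), (-4, 0), (-2, 0)], [(0, 0), (-6, 0), (-2, 0), (4, 0)]],
  [[(4, 0), (-1, 1), (-3, 1), (-3, 1)], [(-1, 1), (2, -2), (-1, 1), (-1, 1)], [(-3, 1), (-1, 1), (4, 0), (-3, 1)], [(-3, 1), (-1, 1), (-3, 1), (4, 0)]],
  [[(-4, 0), (-3, -1), (-3, -1), (1, 1)], [(-3, -1), (-4, 0), (3, 1), (-1, -1)], [(-3, -1), (3, 1), (-4, 0), (-1, -1)], [(1, 1), (-1, -1), (-1, -1), (-2, -2)]] | yq4]));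
  (let yq5 : type_of% yq1 := (let yq6 : type_of% yq1 := %[[[(-4, 0), (-1, 1), (0, -2), (2, 0)], [(-1, 1), (4, 0), (2, 0), (0, 2)], [(0, -2), (2, 0), (-4, 0), (1, 1)], [(2, 0), (0, 2), (1, 1), (4, 0)]],
  [[(4, 0), (-1, 1), (-3, 1), (4, 0)], [(-1, 1), (-2, 2), (0, 0), (-3, -1)], [(-3, 1), (0, 0), (2, 2), (1, 1)], [(4, 0), (-3, -1), (1, 1), (-4, 0)]],
  [[(-2, 2), (1, -1), (-3, -1), (0, 0)], [(1, -1), (4, 0), (-4, 0), (-3, 1)], [(-3, -1), (-4, 0), (-4, 0), (-1, -1)], [(0, 0), (-3, 1), (-1, -1), (2, 2)]],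
  [[(2, 2), (-1, -1), (-4, 0), (0, 0)], [(-1, -1), (-2, -2), (0, 0), (4, 0)], [(-4, 0), (0, 0), (-2, 2), (-1, 1)], [(0, 0), (4, 0), (-1, 1), (2, -2)]],
  [[(-4, 0), (2, 0), (1, -1), (0, 2)], [(2, 0), (4, 0), (0, -2), (-1, -1)], [(1, -1), (0, -2), (4, 0), (2, 0)], [(0, 2), (-1, -1), (2, 0), (-4, 0)]] | yq1];
  %[[[(-2, -2), (3, -1), (0, 0), (1, 1)], [(3, -1), (-4, 0), (-1, 1), (4, 0)], [(0, 0), (-1, 1), (2, -2), (3, 1)], [(1, 1), (4, 0), (3, 1), (4, 0)]],
  [[(2, -2), (0, 0), (1, -1), (4, 0)], [(0, 0), (2, 2), (-4, 0), (1, 1)], [(1, -1), (-4, 0), (-2, 2), (0, 0)], [(4, 0), (1, 1), (0, 0), (-2, -2)]],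
  [[(2, 2), (0, 0), (1, 1), (4, 0)], [(0, 0), (2, -2), (-4, 0), (1, -1)], [(1, 1), (-4, 0), (-2, -2), (0, 0)], [(4, 0), (1, -1), (0, 0), (-2, 2)]],
  [[(4, 0), (0, 0), (2, 0), (-6, 0)], [(0, 0), (4, 0), (6, 0), (2, 0)], [(2, 0), (6, 0), (-4, 0), (0, 0)], [(-6, 0), (2, 0), (0, 0), (-4, 0)]] | yq6]);
  (let yq7 : type_of% yq5 := %[[[(-4, 0), (-3, 1), (4, 0), (1, -1)], [(-3, 1), (-2, -2), (-1, -1), (0, 0)], [(4, 0), (-1, -1), (4, 0), (-3, -1)], [(1, -1), (0, 0), (-3, -1), (2, -2)]],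
  [[(4, 0), (0, 2), (2, 0), (1, 1)], [(0, 2), (4, 0), (-1, 1), (2, 0)], [(2, 0), (-1, 1), (-4, 0), (0, -2)], [(1, 1), (2, 0), (0, -2), (-4, 0)]],
  [[(-4, 0), (-3, 1), (-3, 1), (1, -1)], [(-3, 1), (-4, 0), (3, -1), (-1, 1)], [(-3, 1), (3, -1), (-4, 0), (-1, 1)], [(1, -1), (-1, 1), (-1, 1), (-2, 2)]],
  [[(4, 0), (-1, -1), (-3, -1), (-3, -1)], [(-1, -1), (2, 2), (-1, -1), (-1, -1)], [(-3, -1), (-1, -1), (4, 0), (-3, -1)], [(-3, -1), (-1, -1), (-3, -1), (4, 0)]] | yq5];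
  %[[[(2, -2), (-1, 1), (-4, 0), (0, 0)], [(-1, 1), (-2, 2), (0, 0), (4, 0)], [(-4, 0), (0, 0), (-2, -2), (-1, -1)], [(0, 0), (4, 0), (-1, -1), (2, 2)]],
  [[(4, 0), (0, -2), (2, 0), (1, -1)], [(0, -2), (4, 0), (-1, -1), (2, 0)], [(2, 0), (-1, -1), (-4, 0), (0, 2)], [(1, -1), (2, 0), (0, 2), (-4, 0)]],
  [[(2, 2), (1, 1), (-1, -1), (1, 1)], [(1, 1), (4, 0), (3, 1), (-3, -1)], [(-1, -1), (3, 1), (4, 0), (3, 1)], [(1, 1), (-3, -1), (3, 1), (4, 0)]],
  [[(-4, 0), (3, -1), (-1, 1), (-3, 1)], [(3, -1), (-4, 0), (-1, 1), (-3, 1)], [(-1, 1), (-1, 1), (-2, 2), (1, -1)], [(-3, 1), (-3, 1), (1, -1), (-4, 0)]] | yq7])))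

def Ml_c2 : List (List (ℤ × ℤ)) := [[(3, -1), (2, 0), (1, -1), (0, 0)], [(2, 0), (-3, -1), (0, 0), (-1, 1)], [(1, 1), (0, 0), (-3, -1), (2, 0)], [(0, 0), (-1, -1), (2, 0), (3, -1)]]

def Ml_g7 : List (List (ℤ × ℤ)) := [[(3, -1), (0, 0), (-2, 0), (-1, 1)], [(-1, -1), (0, 0), (3, -1), (-2, 0)], [(0, 0), (0, -2), (0, 0), (0, 0)], [(2, 0), (0, 0), (1, -1), (4, 0)]]

end Cfsg.Agent.H923.Ten.A7
end

-- part: H923/Ten/A7Chk
section
/-!
# Checks on the tables (helper923)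
-/

set_option autoImplicit false
set_option maxRecDepth 20000

namespace Cfsg.Agent.H923.Ten.A7

/-- normal form from a quadruple -/
def nfq (q : Fin 4 × Fin 3 × Fin 3 × Fin 2) : A := nf q.1 q.2.1 q.2.2.1 q.2.2.2

theorem chk_c2 : ∀ t : Fin 35, (gT (pi_c2 t))⁻¹ * c2 = nfq (nl_c2 t) * (gT t)⁻¹ := by decide +kernel
theorem chk_g7 : ∀ t : Fin 35, (gT (pi_g7 t))⁻¹ * g7 = nfq (nl_g7 t) * (gT t)⁻¹ := by decide +kernel
private noncomputable def _root_.Cfsg.Agent.KOf7f05c1.k10 : type_of% @Nat.decEq := @(letI c0 := @Nat.beq; @(fun x0 x1 => @Bool.rec.{1} @(fun x2 => (@Eq.{1} _ (@c0 @x0 @x1) @x2) → @Decidable (@Eq.{1} _ @x0 @x1)) @(fun x2 => @Decidable.isFalse _ (@Nat.ne_of_beq_eq_false _ _ @x2)) @(fun x2 => @Decidable.isTrue _ (@Nat.eq_of_beq_eq_true _ _ @x2)) (@c0 @x0 @x1) (@Eq.refl.{1} _ (@c0 @x0 @x1))))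
private noncomputable def _root_.Cfsg.Agent.KOf7f05c1.k11 : type_of% @instDecidableEqFin := @(letI c0 := @Fin.val; @(fun x0 x1 x2 => @Decidable.rec.{1} _ @(fun x3 => @Decidable (@Eq.{1} _ @x1 @x2)) @(fun x3 => @Decidable.isFalse _ (@instDecidableEqFin._proof_1 @x0 @x1 @x2 @x3)) @(fun x3 => @Decidable.isTrue _ (@Fin.eq_of_val_eq _ _ _ @x3)) (@Cfsg.Agent.KOf7f05c1.k10 (@c0 _ @x1) (@c0 _ @x2))))
private theorem _root_.Cfsg.Agent.KOf7f05c1.e11 : @instDecidableEqFin = @_root_.Cfsg.Agent.KOf7f05c1.k11 := by delta _root_.Cfsg.Agent.KOf7f05c1.k11; exact Subsingleton.elim _ _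
private noncomputable def _root_.Cfsg.Agent.KOf7f05c1.k12 : type_of% @Decidable.decide := @(fun x0 x1 => @Decidable.rec.{1} _ @(fun x2 => @Bool) @(fun x2 => @Bool.false) @(fun x2 => @Bool.true) @x1)
private theorem _root_.Cfsg.Agent.KOf7f05c1.e12 : @Decidable.decide = @_root_.Cfsg.Agent.KOf7f05c1.k12 := by delta _root_.Cfsg.Agent.KOf7f05c1.k12; rfl'
private noncomputable def _root_.Cfsg.Agent.KOf7f05c1.k15.{ku} {α : Type ku} {n : Nat} (h : α) (t : Fin n → α) (i : Fin n.succ) : α := @Nat.rec (fun m => m < n.succ → α) (fun _ => h) (fun j _ g => t ⟨j, Nat.lt_of_succ_lt_succ g⟩) i.1 i.2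
private theorem _root_.Cfsg.Agent.KOf7f05c1.e15.{ku} : @Matrix.vecCons.{ku} = @_root_.Cfsg.Agent.KOf7f05c1.k15.{ku} := funext fun α => funext fun n => funext fun h => funext fun t => funext fun i => by cases i with | mk m g => cases m <;> rfl
private noncomputable def _root_.Cfsg.Agent.KOf7f05c1.k33l (n : Nat) (P : ∀ k, k < n → Prop) (H : ∀ k h, Decidable (P k h)) (m : Nat) : m ≤ n → Bool := @Nat.rec (fun m => m ≤ n → Bool) (fun _ => true) (fun k ih h => @Decidable.rec (P k h) (fun _ => Bool) (fun _ => false) (fun _ => ih (Nat.le_of_succ_le h)) (H k h)) m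
private theorem _root_.Cfsg.Agent.KOf7f05c1.k33ls (n : Nat) (P : ∀ k, k < n → Prop) (H : ∀ k h, Decidable (P k h)) (m : Nat) : ∀ h : m ≤ n, _root_.Cfsg.Agent.KOf7f05c1.k33l n P H m h = true ↔ ∀ k (g : k < m), P k (Nat.lt_of_lt_of_le g h) := by induction m with | zero => exact fun _ => ⟨fun _ _ g => absurd g (Nat.not_lt_zero _), fun _ => rfl⟩ | succ m ih => intro h; show @Decidable.rec (P m h) (fun _ => Bool) (fun _ => false) (fun _ => _root_.Cfsg.Agent.KOf7f05c1.k33l n P H m (Nat.le_of_succ_le h)) (H m h) = true ↔ _; cases H m h with | isFalse q => exact ⟨fun g => absurd g Bool.false_ne_true, fun g => absurd (g m (Nat.lt_succ_self m)) q⟩ | isTrue q => exact ⟨fun g k hk => (Nat.lt_succ_iff_lt_or_eq.1 hk).elim ((ih _).1 g k) fun e => by subst e; exact q, fun g => (ih _).2 fun k hk => g k (Nat.lt_succ_of_lt hk)⟩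
private noncomputable def _root_.Cfsg.Agent.KOf7f05c1.k33 (n : Nat) (P : ∀ k, k < n → Prop) (H : ∀ k h, Decidable (P k h)) : Decidable (∀ k h, P k h) := @Bool.rec (fun b => _root_.Cfsg.Agent.KOf7f05c1.k33l n P H n (Nat.le_refl n) = b → Decidable (∀ k h, P k h)) (fun g => isFalse fun q => Bool.false_ne_true (g.symm.trans ((_root_.Cfsg.Agent.KOf7f05c1.k33ls n P H n _).2 fun k h => q k h))) (fun g => isTrue fun k h => (_root_.Cfsg.Agent.KOf7f05c1.k33ls n P H n _).1 g k h) (_root_.Cfsg.Agent.KOf7f05c1.k33l n P H n (Nat.le_refl n)) rfl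
private noncomputable def _root_.Cfsg.Agent.KOf7f05c1.k34 : type_of% @Nat.decidableForallFin := @(fun x0 x1 x2 => @Decidable.rec.{1} _ @(fun x3 => @Decidable ((x4 : @Fin @x0) → @x1 @x4)) @(fun x3 => @Decidable.isFalse _ (@decidable_of_decidable_of_iff._proof_1 _ _ (@Nat.decidableForallFin._proof_1 _ @x1) @x3)) @(fun x3 => @Decidable.isTrue _ (@Iff.mp _ _ (@Nat.decidableForallFin._proof_1 _ @x1) @x3)) (@Cfsg.Agent.KOf7f05c1.k33 @x0 @(fun x3 x4 => @x1 (@Fin.mk _ @x3 @x4)) @(fun x3 x4 => @x2 (@Fin.mk _ @x3 @x4))))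
private theorem _root_.Cfsg.Agent.KOf7f05c1.e34 : @Nat.decidableForallFin = @_root_.Cfsg.Agent.KOf7f05c1.k34 := by delta _root_.Cfsg.Agent.KOf7f05c1.k34; exact Subsingleton.elim _ _
private noncomputable def _root_.Cfsg.Agent.KOf7f05c1.k37s : (by first | exact Subtype (fun g => @Cfsg.Agent.H923.Ten.A7.pi_c2 = @g) | exact Unit : Sort _) := by first | exact ⟨_, by delta Cfsg.Agent.H923.Ten.A7.pi_c2; rewrite [Cfsg.Agent.KOf7f05c1.e15.{0}]; exact rfl⟩ | exact ⟨_, rfl⟩ | exact ()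
private noncomputable def _root_.Cfsg.Agent.KOf7f05c1.k37 : (by first | exact type_of% (@Subtype.val _ _ _root_.Cfsg.Agent.KOf7f05c1.k37s) | exact Unit : Sort _) := by first | exact @Subtype.val _ _ _root_.Cfsg.Agent.KOf7f05c1.k37s | exact ()
private theorem _root_.Cfsg.Agent.KOf7f05c1.e37 : (by first | exact type_of% (show _ = @_root_.Cfsg.Agent.KOf7f05c1.k37 from @Subtype.property _ _ _root_.Cfsg.Agent.KOf7f05c1.k37s) | exact True : Prop) := by first | exact @Subtype.property _ _ _root_.Cfsg.Agent.KOf7f05c1.k37s | trivial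
private noncomputable def _root_.Cfsg.Agent.KOf7f05c1.k42 : type_of% @forall_prop_decidable := @(fun x0 x1 x2 x3 => @Decidable.rec.{1} _ @(fun x4 => @Decidable ((x5 : @x0) → @x1 @x5)) @(fun x4 => @Decidable.isTrue _ (@forall_prop_decidable._proof_2 _ @x1 @x4)) @(fun x4 => @Decidable.rec.{1} _ @(fun x5 => @Decidable ((x6 : @x0) → @x1 @x6)) @(fun x5 => @Decidable.isFalse _ (@decidable_of_decidable_of_iff._proof_1 _ _ (@forall_prop_decidable._proof_1 _ @x1 @x4) @x5)) @(fun x5 => @Decidable.isTrue _ (@Iff.mp _ _ (@forall_prop_decidable._proof_1 _ @x1 @x4) @x5)) (@x3 @x4)) @x2)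
private theorem _root_.Cfsg.Agent.KOf7f05c1.e42 : @forall_prop_decidable = @_root_.Cfsg.Agent.KOf7f05c1.k42 := by delta _root_.Cfsg.Agent.KOf7f05c1.k42; exact Subsingleton.elim _ _

theorem inj_c2 : Function.Injective pi_c2 := by unfold Function.Injective; (first | (refine of_decide_eq_true ?_; rewrite [Cfsg.Agent.KOf7f05c1.e12, Cfsg.Agent.KOf7f05c1.e34, Cfsg.Agent.KOf7f05c1.e42, Cfsg.Agent.KOf7f05c1.e11, Cfsg.Agent.KOf7f05c1.e37]; decide +kernel) | decide +kernel)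
private noncomputable def _root_.Cfsg.Agent.KOf7f05c1.k40s : (by first | exact Subtype (fun g => @Cfsg.Agent.H923.Ten.A7.pi_g7 = @g) | exact Unit : Sort _) := by first | exact ⟨_, by delta Cfsg.Agent.H923.Ten.A7.pi_g7; rewrite [Cfsg.Agent.KOf7f05c1.e15.{0}]; exact rfl⟩ | exact ⟨_, rfl⟩ | exact ()
private noncomputable def _root_.Cfsg.Agent.KOf7f05c1.k40 : (by first | exact type_of% (@Subtype.val _ _ _root_.Cfsg.Agent.KOf7f05c1.k40s) | exact Unit : Sort _) := by first | exact @Subtype.val _ _ _root_.Cfsg.Agent.KOf7f05c1.k40s | exact ()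
private theorem _root_.Cfsg.Agent.KOf7f05c1.e40 : (by first | exact type_of% (show _ = @_root_.Cfsg.Agent.KOf7f05c1.k40 from @Subtype.property _ _ _root_.Cfsg.Agent.KOf7f05c1.k40s) | exact True : Prop) := by first | exact @Subtype.property _ _ _root_.Cfsg.Agent.KOf7f05c1.k40s | trivial

theorem inj_g7 : Function.Injective pi_g7 := by unfold Function.Injective; (first | (refine of_decide_eq_true ?_; rewrite [Cfsg.Agent.KOf7f05c1.e12, Cfsg.Agent.KOf7f05c1.e34, Cfsg.Agent.KOf7f05c1.e42, Cfsg.Agent.KOf7f05c1.e11, Cfsg.Agent.KOf7f05c1.e40]; decide +kernel) | decide +kernel)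
theorem chk_cl : ∀ t : Fin 35, (gT t)⁻¹ = nfq (cl1 t) * (rep (cls t) * nfq (cl2 t)) := by decide +kernel
theorem chk_r1 : r1 = nf 1 1 0 1 * (r1 * nf 1 0 0 0) := by decide

/-- the symmetric matrices -/
def Sm (t : Fin 35) (i j : Fin 4) : ℤ√(-7) :=
  let p := ((Sl.getD t []).getD i []).getD j (0, 0)
  ⟨p.1, p.2⟩

def Mz (l : List (List (ℤ × ℤ))) (i j : Fin 4) : ℤ√(-7) :=
  let p := (l.getD i []).getD j (0, 0)
  ⟨p.1, p.2⟩

/-- product of matrices -/
def mul4 (a b : Fin 4 → Fin 4 → ℤ√(-7)) (i j : Fin 4) : ℤ√(-7) :=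
  a i 0 * b 0 j + a i 1 * b 1 j + a i 2 * b 2 j + a i 3 * b 3 j

/-- sign -/
def sg (l : Fin 2) : ℤ := if l = 0 then 1 else -1

def sz (l : Fin 2) : ℤ√(-7) := ⟨sg l, 0⟩

private theorem _root_.Cfsg.Agent.KOf7f05c1.e6.{ku, kv} {α : Type kv} {M : List α → Sort ku} (φ : ∀ l, M l) {z : M List.nil} {s : ∀ a l, M l → M (List.cons a l)} (h0 : φ List.nil = z) (hs : ∀ a l, φ (List.cons a l) = s a l (φ l)) (l : List α) : φ l = @List.rec α M z s l := List.rec h0 (fun a l ih => (hs a l).trans (congrArg (s a l) ih)) l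
private noncomputable def _root_.Cfsg.Agent.KOf7f05c1.k39s : (by first | exact Subtype (fun g => @Cfsg.Agent.H923.Ten.A7.nl_c2 = @g) | exact Unit : Sort _) := by first | exact ⟨_, by delta Cfsg.Agent.H923.Ten.A7.nl_c2; rewrite [Cfsg.Agent.KOf7f05c1.e15.{0}]; exact rfl⟩ | exact ⟨_, rfl⟩ | exact ()
private noncomputable def _root_.Cfsg.Agent.KOf7f05c1.k39 : (by first | exact type_of% (@Subtype.val _ _ _root_.Cfsg.Agent.KOf7f05c1.k39s) | exact Unit : Sort _) := by first | exact @Subtype.val _ _ _root_.Cfsg.Agent.KOf7f05c1.k39s | exact ()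
private theorem _root_.Cfsg.Agent.KOf7f05c1.e39 : (by first | exact type_of% (show _ = @_root_.Cfsg.Agent.KOf7f05c1.k39 from @Subtype.property _ _ _root_.Cfsg.Agent.KOf7f05c1.k39s) | exact True : Prop) := by first | exact @Subtype.property _ _ _root_.Cfsg.Agent.KOf7f05c1.k39s | trivial
private noncomputable def _root_.Cfsg.Agent.KOf7f05c1.k49 : type_of% @Int.add := @(letI c0 := @Int.rec.{1}; letI c1 := @Int.ofNat; letI c2 := @Nat.add; letI c3 := @Nat.rec.{1}; letI c4 := @Nat.sub; letI c5 := @Nat.succ; letI c6 := @Int.negSucc; @(fun x0 x1 => @c0 @(fun x2 => ℤ) @(fun x2 => @c0 @(fun x3 => ℤ) @(fun x3 => @c1 (@c2 @x2 @x3)) @(fun x3 => @c3 @(fun x4 => ℤ) (@c1 (@c4 @x2 (@c5 @x3))) @(fun x4 x5 => @c6 @x4) (@c4 (@c5 @x3) @x2)) @x1) @(fun x2 => @c0 @(fun x3 => ℤ) @(fun x3 => @c3 @(fun x4 => ℤ) (@c1 (@c4 @x3 (@c5 @x2))) @(fun x4 x5 => @c6 @x4) (@c4 (@c5 @x2) @x3)) @(fun x3 => @c6 (@c5 (@c2 @x2 @x3))) @x1) @x0))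
private theorem _root_.Cfsg.Agent.KOf7f05c1.e49 : @Int.add = @_root_.Cfsg.Agent.KOf7f05c1.k49 := by delta _root_.Cfsg.Agent.KOf7f05c1.k49; rfl'
private noncomputable def _root_.Cfsg.Agent.KOf7f05c1.k50 : type_of% @Int.mul := @(letI c0 := @Int.rec.{1}; letI c1 := @Int.ofNat; letI c2 := @Nat.mul; letI c3 := @Nat.rec.{1}; letI c4 := @Int.negSucc; letI c5 := @Nat.succ; @(fun x0 x1 => @c0 @(fun x2 => ℤ) @(fun x2 => @c0 @(fun x3 => ℤ) @(fun x3 => @c1 (@c2 @x2 @x3)) @(fun x3 => @c3 @(fun x4 => ℤ) (@c1 (nat_lit 0)) @(fun x4 x5 => @c4 @x4) (@c2 @x2 (@c5 @x3))) @x1) @(fun x2 => @c0 @(fun x3 => ℤ) @(fun x3 => @c3 @(fun x4 => ℤ) (@c1 (nat_lit 0)) @(fun x4 x5 => @c4 @x4) (@c2 (@c5 @x2) @x3)) @(fun x3 => @c1 (@c2 (@c5 @x2) (@c5 @x3))) @x1) @x0))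
private theorem _root_.Cfsg.Agent.KOf7f05c1.e50 : @Int.mul = @_root_.Cfsg.Agent.KOf7f05c1.k50 := by delta _root_.Cfsg.Agent.KOf7f05c1.k50; rfl'
private noncomputable def _root_.Cfsg.Agent.KOf7f05c1.k51s : (by first | exact Subtype (fun g => @Mul.mul.{0} (@Zsqrtd (@Neg.neg.{0} _ _ (@OfNat.ofNat.{0} _ (nat_lit 7) _))) _ = @g) | exact Unit : Sort _) := by first | (refine @Subtype.mk _ _ (@(letI c0 := @Cfsg.Agent.KOf7f05c1.k50; letI c1 := @Zsqrtd.re; letI c2 := @Zsqrtd.im; @(fun x0 x1 => @Zsqrtd.mk _ (@Cfsg.Agent.KOf7f05c1.k49 (@c0 (@c1 _ @x0) (@c1 _ @x1)) (@c0 (@c0 (@Int.negSucc (nat_lit 6)) (@c2 _ @x0)) (@c2 _ @x1))) (@Cfsg.Agent.KOf7f05c1.k49 (@c0 (@c1 _ @x0) (@c2 _ @x1)) (@c0 (@c2 _ @x0) (@c1 _ @x1)))))) ?_; rewrite [← Cfsg.Agent.KOf7f05c1.e50, ← Cfsg.Agent.KOf7f05c1.e49]; rfl') | exact ⟨_, rfl⟩ | exact ()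
private noncomputable def _root_.Cfsg.Agent.KOf7f05c1.k51 : (by first | exact type_of% (@Subtype.val _ _ _root_.Cfsg.Agent.KOf7f05c1.k51s) | exact Unit : Sort _) := by first | exact @Subtype.val _ _ _root_.Cfsg.Agent.KOf7f05c1.k51s | exact ()
private theorem _root_.Cfsg.Agent.KOf7f05c1.e51 : (by first | exact type_of% (show _ = @_root_.Cfsg.Agent.KOf7f05c1.k51 from @Subtype.property _ _ _root_.Cfsg.Agent.KOf7f05c1.k51s) | exact True : Prop) := by first | exact @Subtype.property _ _ _root_.Cfsg.Agent.KOf7f05c1.k51s | trivial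
private noncomputable def _root_.Cfsg.Agent.KOf7f05c1.k52s : (by first | exact Subtype (fun g => @HMul.hMul.{0, 0, 0} (@Zsqrtd (@Neg.neg.{0} _ _ (@OfNat.ofNat.{0} _ (nat_lit 7) _))) (@Zsqrtd (@Neg.neg.{0} _ _ (@OfNat.ofNat.{0} _ (nat_lit 7) _))) (@Zsqrtd (@Neg.neg.{0} _ _ (@OfNat.ofNat.{0} _ (nat_lit 7) _))) _ = @g) | exact Unit : Sort _) := by first | (refine @Subtype.mk _ _ (@(fun x0 x1 => @Cfsg.Agent.KOf7f05c1.k51 @x0 @x1)) ?_; rewrite [← Cfsg.Agent.KOf7f05c1.e51]; rfl') | exact ⟨_, rfl⟩ | exact ()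
private noncomputable def _root_.Cfsg.Agent.KOf7f05c1.k52 : (by first | exact type_of% (@Subtype.val _ _ _root_.Cfsg.Agent.KOf7f05c1.k52s) | exact Unit : Sort _) := by first | exact @Subtype.val _ _ _root_.Cfsg.Agent.KOf7f05c1.k52s | exact ()
private theorem _root_.Cfsg.Agent.KOf7f05c1.e52 : (by first | exact type_of% (show _ = @_root_.Cfsg.Agent.KOf7f05c1.k52 from @Subtype.property _ _ _root_.Cfsg.Agent.KOf7f05c1.k52s) | exact True : Prop) := by first | exact @Subtype.property _ _ _root_.Cfsg.Agent.KOf7f05c1.k52s | trivial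
private noncomputable def _root_.Cfsg.Agent.KOf7f05c1.k53 : type_of% @Int.decEq := @(letI c0 := @Int.rec.{1}; letI c1 := @Int.ofNat; letI c2 := @Decidable.rec.{1}; letI c3 := @Decidable.isFalse; letI c4 := @Decidable.isTrue; letI c5 := @Int.negSucc; @(fun x0 x1 => @c0 @(fun x2 => @Decidable (@Eq.{1} _ @x2 @x1)) @(fun x2 => @c0 @(fun x3 => @Decidable (@Eq.{1} _ (@c1 @x2) @x3)) @(fun x3 => @c2 _ @(fun x4 => @Decidable (@Eq.{1} _ (@c1 @x2) (@c1 @x3))) @(fun x4 => @c3 _ (@Int.decEq._proof_2 @x2 @x3 @x4)) @(fun x4 => @c4 _ (@Int.decEq._proof_1 @x2 @x3 @x4)) (@Cfsg.Agent.KOf7f05c1.k10 @x2 @x3)) @(fun x3 => @c3 _ (@Int.decEq._proof_3 @x2 @x3)) @x1) @(fun x2 => @c0 @(fun x3 => @Decidable (@Eq.{1} _ (@c5 @x2) @x3)) @(fun x3 => @c3 _ (@Int.decEq._proof_4 @x2 @x3)) @(fun x3 => @c2 _ @(fun x4 => @Decidable (@Eq.{1} _ (@c5 @x2) (@c5 @x3))) @(fun x4 => @c3 _ (@Int.decEq._proof_6 @x2 @x3 @x4)) @(fun x4 => @c4 _ (@Int.decEq._proof_5 @x2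 @x3 @x4)) (@Cfsg.Agent.KOf7f05c1.k10 @x2 @x3)) @x1) @x0))
private noncomputable def _root_.Cfsg.Agent.KOf7f05c1.k54 : type_of% @instDecidableEqZsqrtd.decEq := @(fun x0 x1 x2 => @Zsqrtd.rec.{1} @x0 @(fun x3 => @Decidable (@Eq.{1} _ @x3 @x2)) @(fun x3 x4 => @Zsqrtd.rec.{1} @x0 @(fun x5 => @Decidable (@Eq.{1} _ (@Zsqrtd.mk _ @x3 @x4) @x5)) @(fun x5 x6 => @Decidable.rec.{1} _ @(fun x7 => @Decidable (@Eq.{1} _ (@Zsqrtd.mk _ @x3 @x4) (@Zsqrtd.mk _ @x5 @x6))) @(fun x7 => @Decidable.isFalse _ (@instDecidableEqZsqrtd.decEq._proof_4 _ @x3 @x4 @x5 @x6 @x7)) @(fun x7 => @Eq.rec.{1, 1} ℤ @x3 @(fun x8 x9 => @Decidable (@Eq.{1} _ (@Zsqrtd.mk _ @x3 @x4) (@Zsqrtd.mk _ @x8 @x6))) (@Decidable.rec.{1} _ @(fun x8 => @Decidable (@Eq.{1} _ (@Zsqrtd.mk _ @x3 @x4) (@Zsqrtd.mk _ @x3 @x6))) @(fun x8 => @Decidable.isFalse _ (@instDecidableEqZsqrtd.decEq._proof_3 _ @x3 @x4 @x6 @x8)) @(fun x8 => @Eq.rec.{1, 1} ℤ @x4 @(fun x9 x10 => @Decidable (@Eq.{1}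 _ (@Zsqrtd.mk _ @x3 @x4) (@Zsqrtd.mk _ @x3 @x9))) (@Decidable.isTrue _ (@instDecidableEqZsqrtd.decEq._proof_1 _ @x3 @x4)) @x6 @x8) (@Cfsg.Agent.KOf7f05c1.k53 @x4 @x6)) @x5 @x7) (@Cfsg.Agent.KOf7f05c1.k53 @x3 @x5)) @x2) @x1)
private noncomputable def _root_.Cfsg.Agent.KOf7f05c1.k55 : type_of% @instDecidableEqZsqrtd := @(fun x0 => @Cfsg.Agent.KOf7f05c1.k54 _)
private theorem _root_.Cfsg.Agent.KOf7f05c1.e55 : @instDecidableEqZsqrtd = @_root_.Cfsg.Agent.KOf7f05c1.k55 := by delta _root_.Cfsg.Agent.KOf7f05c1.k55; exact Subsingleton.elim _ _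
private noncomputable def _root_.Cfsg.Agent.KOf7f05c1.k56 : (by first | exact type_of% @Cfsg.Agent.H923.Ten.A7.mul4 | exact Unit : Sort _) := by first | (refine @Subtype.val _ (fun g => @Cfsg.Agent.H923.Ten.A7.mul4 = @g) (@Subtype.mk _ _ (@(letI c0 := @Cfsg.Agent.KOf7f05c1.k49; letI c1 := @Zsqrtd.re; letI c2 := @Cfsg.Agent.KOf7f05c1.k51; letI c3 := @Fin.mk; letI c4 := @Fin.ofNat._proof_1; letI c5 := @Zsqrtd.im; @(fun x0 x1 x2 x3 => @Zsqrtd.mk _ (@c0 (@c0 (@c0 (@c1 _ (@c2 (@x0 @x2 (@c3 (nat_lit 4) (nat_lit 0) (@c4 ((4 : ℕ)) _ (nat_lit 0)))) (@x1 (@c3 (nat_lit 4) (nat_lit 0) (@c4 ((4 : ℕ)) _ (nat_lit 0))) @x3))) (@c1 _ (@c2 (@x0 @x2 (@c3 (nat_lit 4) (nat_lit 1) (@c4 ((4 : ℕ)) _ (nat_lit 1)))) (@x1 (@c3 (nat_lit 4) (nat_lit 1) (@c4 ((4 : ℕ)) _ (nat_lit 1))) @x3)))) (@c1 _ (@c2 (@x0 @x2 (@c3 (nat_lit 4) (nat_lit 2) (@c4 ((4 : ℕ)) _ (nat_lit 2)))) (@x1 (@c3 (nat_lit 4) (nat_lit 2) (@c4 ((4 : ℕ)) _ (nat_lit 2))) @x3)))) (@c1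 _ (@c2 (@x0 @x2 (@c3 (nat_lit 4) (nat_lit 3) (@c4 ((4 : ℕ)) _ (nat_lit 3)))) (@x1 (@c3 (nat_lit 4) (nat_lit 3) (@c4 ((4 : ℕ)) _ (nat_lit 3))) @x3)))) (@c0 (@c0 (@c0 (@c5 _ (@c2 (@x0 @x2 (@c3 (nat_lit 4) (nat_lit 0) (@c4 ((4 : ℕ)) _ (nat_lit 0)))) (@x1 (@c3 (nat_lit 4) (nat_lit 0) (@c4 ((4 : ℕ)) _ (nat_lit 0))) @x3))) (@c5 _ (@c2 (@x0 @x2 (@c3 (nat_lit 4) (nat_lit 1) (@c4 ((4 : ℕ)) _ (nat_lit 1)))) (@x1 (@c3 (nat_lit 4) (nat_lit 1) (@c4 ((4 : ℕ)) _ (nat_lit 1))) @x3)))) (@c5 _ (@c2 (@x0 @x2 (@c3 (nat_lit 4) (nat_lit 2) (@c4 ((4 : ℕ)) _ (nat_lit 2)))) (@x1 (@c3 (nat_lit 4) (nat_lit 2) (@c4 ((4 : ℕ)) _ (nat_lit 2))) @x3)))) (@c5 _ (@c2 (@x0 @x2 (@c3 (nat_lit 4) (nat_lit 3) (@c4 ((4 : ℕ)) _ (nat_lit 3)))) (@x1 (@c3 (nat_lit 4) (nat_lit 3) (@c4 ((4 : ℕ)) _ (nat_lit 3))) @x3))))))) ?_); rewrite [← Cfsg.Agent.KOf7f05c1.e49, ← Cfsg.Agent.KOf7f05c1.e51]; rfl') | exact @Cfsg.Agent.H923.Ten.A7.mul4 | exact ()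
private theorem _root_.Cfsg.Agent.KOf7f05c1.e56 : (by first | exact @Cfsg.Agent.H923.Ten.A7.mul4 = @_root_.Cfsg.Agent.KOf7f05c1.k56 | exact True : Prop) := by first | (delta _root_.Cfsg.Agent.KOf7f05c1.k56; exact @Subtype.property _ (fun g => @Cfsg.Agent.H923.Ten.A7.mul4 = @g) _) | rfl | trivial
private noncomputable def _root_.Cfsg.Agent.KOf7f05c1.k58.{ku0} : type_of% @List.get?Internal.{ku0} := @(fun x0 x1 x2 => @List.rec.{(ku0+1), ku0} @x0 @(fun x3 => ℕ → @Option.{ku0} @x0) @(fun x3 => @Option.none.{ku0} _) @(fun x3 x4 x5 x6 => @Nat.rec.{(ku0+1)} @(fun x7 => @Option.{ku0} @x0) (@Option.some.{ku0} _ @x3) @(fun x7 x8 => @x5 @x7) @x6) @x1 @x2)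
private theorem _root_.Cfsg.Agent.KOf7f05c1.e58.{ku0} : @List.get?Internal.{ku0} = @_root_.Cfsg.Agent.KOf7f05c1.k58.{ku0} := by delta _root_.Cfsg.Agent.KOf7f05c1.k58; funext a0 a1 a2; refine (congrFun (_root_.Cfsg.Agent.KOf7f05c1.e6 (fun a1 a2 => @List.get?Internal.{ku0} a0 a1 a2) ?_ (fun c0 c1 => ?_) a1) a2 :) <;> [(funext b0; (rfl')); (funext b0; (cases b0 with | @zero  => (rfl') | @succ b0_0 => (rfl')))]
private noncomputable def _root_.Cfsg.Agent.KOf7f05c1.k59 : (by first | exact type_of% @Cfsg.Agent.H923.Ten.A7.Mz | exact Unit : Sort _) := by first | (refine @Subtype.val _ (fun g => @Cfsg.Agent.H923.Ten.A7.Mz = @g) (@Subtype.mk _ _ (@(letI c0 := @Option.rec.{1, 0}; letI c1 := @Int.ofNat; letI c2 := @Fin.val; @(fun x0 x1 x2 => (let x3 : ℤ × ℤ := @c0 (ℤ × ℤ) @(fun x3 => ℤ × ℤ) ((@c1 (nat_lit 0), @c1 (nat_lit 0))) @(fun x3 => @x3) (@Cfsg.Agent.KOf7f05c1.k58.{0} _ (@c0 (@List.{0} (ℤ × ℤ)) @(fun x3 => @List.{0} (ℤ × ℤ))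 [] @(fun x3 => @x3) (@Cfsg.Agent.KOf7f05c1.k58.{0} _ @x0 (@c2 (nat_lit 4) @x1))) (@c2 (nat_lit 4) @x2)); @Zsqrtd.mk _ (@Prod.fst.{0, 0} _ _ @x3) (@Prod.snd.{0, 0} _ _ @x3))))) ?_); rewrite [← Cfsg.Agent.KOf7f05c1.e58.{0}]; rfl') | exact @Cfsg.Agent.H923.Ten.A7.Mz | exact ()
private theorem _root_.Cfsg.Agent.KOf7f05c1.e59 : (by first | exact @Cfsg.Agent.H923.Ten.A7.Mz = @_root_.Cfsg.Agent.KOf7f05c1.k59 | exact True : Prop) := by first | (delta _root_.Cfsg.Agent.KOf7f05c1.k59; exact @Subtype.property _ (fun g => @Cfsg.Agent.H923.Ten.A7.Mz = @g) _) | rfl | trivial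
private noncomputable def _root_.Cfsg.Agent.KOf7f05c1.k60 : (by first | exact type_of% @Cfsg.Agent.H923.Ten.A7.Sm | exact Unit : Sort _) := by first | (refine @Subtype.val _ (fun g => @Cfsg.Agent.H923.Ten.A7.Sm = @g) (@Subtype.mk _ _ (@(letI c0 := @Option.rec.{1, 0}; letI c1 := @Int.ofNat; letI c2 := @Cfsg.Agent.KOf7f05c1.k58.{0}; letI c3 := @Fin.val; @(fun x0 x1 x2 => (let x3 : ℤ × ℤ := @c0 (ℤ × ℤ) @(fun x3 => ℤ × ℤ) ((@c1 (nat_lit 0), @c1 (nat_lit 0))) @(fun x3 => @x3) (@c2 _ (@c0 (@List.{0} (ℤ × ℤ)) @(fun x3 => @List.{0} (ℤ × ℤ)) [] @(fun x3 => @x3) (@c2 _ (@c0 (@List.{0} (@List.{0} (ℤ × ℤ))) @(fun x3 => @List.{0} (@List.{0} (ℤ × ℤ))) [] @(fun x3 => @x3) (@c2 _ @Cfsg.Agent.H923.Ten.A7.Sl (@c3 (nat_lit 35) @x0))) (@c3 (nat_lit 4) @x1))) (@c3 (nat_lit 4) @x2)); @Zsqrtd.mk _ (@Prod.fst.{0, 0} _ _ @x3) (@Prod.snd.{0, 0} _ _ @x3))))) ?_); rewrite [← Cfsg.Agent.KOf7f05c1.e58.{0}]; (try delta Cfsg.Agent.H923.Ten.A7.Sm); (try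 generalize @Cfsg.Agent.H923.Ten.A7.Sl = g0); rfl') | exact @Cfsg.Agent.H923.Ten.A7.Sm | exact ()
private theorem _root_.Cfsg.Agent.KOf7f05c1.e60 : (by first | exact @Cfsg.Agent.H923.Ten.A7.Sm = @_root_.Cfsg.Agent.KOf7f05c1.k60 | exact True : Prop) := by first | (delta _root_.Cfsg.Agent.KOf7f05c1.k60; exact @Subtype.property _ (fun g => @Cfsg.Agent.H923.Ten.A7.Sm = @g) _) | rfl | trivial
private noncomputable def _root_.Cfsg.Agent.KOf7f05c1.k61 : (by first | exact type_of% @Cfsg.Agent.H923.Ten.A7.sg | exact Unit : Sort _) := by first | (refine @Subtype.val _ (fun g => @Cfsg.Agent.H923.Ten.A7.sg = @g) (@Subtype.mk _ _ (@(fun x0 => @Decidable.rec.{1} _ @(fun x1 => ℤ) @(fun x1 => @Int.negSucc (nat_lit 0)) @(fun x1 => @Int.ofNat (nat_lit 1)) (@Cfsg.Agent.KOf7f05c1.k11 (nat_lit 2) @x0 (@Fin.mk (nat_lit 2) (nat_lit 0) (@Fin.ofNat._proof_1 ((2 : ℕ)) _ (nat_lit 0)))))) ?_); rewrite [← Cfsg.Agent.KOf7f05c1.e11]; rfl') | exact @Cfsg.Agent.H923.Ten.A7.sg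 | exact ()
private theorem _root_.Cfsg.Agent.KOf7f05c1.e61 : (by first | exact @Cfsg.Agent.H923.Ten.A7.sg = @_root_.Cfsg.Agent.KOf7f05c1.k61 | exact True : Prop) := by first | (delta _root_.Cfsg.Agent.KOf7f05c1.k61; exact @Subtype.property _ (fun g => @Cfsg.Agent.H923.Ten.A7.sg = @g) _) | rfl | trivial
private noncomputable def _root_.Cfsg.Agent.KOf7f05c1.k62 : (by first | exact type_of% @Cfsg.Agent.H923.Ten.A7.sz | exact Unit : Sort _) := by first | (refine @Subtype.val _ (fun g => @Cfsg.Agent.H923.Ten.A7.sz = @g) (@Subtype.mk _ _ (@(fun x0 => @Zsqrtd.mk _ (@Cfsg.Agent.KOf7f05c1.k61 @x0) (@Int.ofNat (nat_lit 0)))) ?_); rewrite [← Cfsg.Agent.KOf7f05c1.e61]; (try delta Cfsg.Agent.H923.Ten.A7.sz); (try generalize @Cfsg.Agent.H923.Ten.A7.sg = g0); rfl') | exact @Cfsg.Agent.H923.Ten.A7.sz | exact ()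
private theorem _root_.Cfsg.Agent.KOf7f05c1.e62 : (by first | exact @Cfsg.Agent.H923.Ten.A7.sz = @_root_.Cfsg.Agent.KOf7f05c1.k62 | exact True : Prop) := by first | (delta _root_.Cfsg.Agent.KOf7f05c1.k62; exact @Subtype.property _ (fun g => @Cfsg.Agent.H923.Ten.A7.sz = @g) _) | rfl | trivial

theorem m_c2 : ∀ (t : Fin 35) (i j : Fin 4), mul4 (mul4 (Mz Ml_c2) (Sm t)) (fun a b => Mz Ml_c2 b a) i j =
    ⟨-28, 0⟩ * (sz (nl_c2 t).2.2.2 * Sm (pi_c2 t) i j) := by (first | (refine of_decide_eq_true ?_; rewrite [Cfsg.Agent.KOf7f05c1.e52, Cfsg.Agent.KOf7f05c1.e12, Cfsg.Agent.KOf7f05c1.e34, Cfsg.Agent.KOf7f05c1.e55, Cfsg.Agent.KOf7f05c1.e56, Cfsg.Agent.KOf7f05c1.e59, Cfsg.Agent.KOf7f05c1.e60, Cfsg.Agent.KOf7f05c1.e62, Cfsg.Agent.KOf7f05c1.e39, Cfsg.Agent.KOf7f05c1.e37]; decide +kernel) | decide +kernel)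
private noncomputable def _root_.Cfsg.Agent.KOf7f05c1.k41s : (by first | exact Subtype (fun g => @Cfsg.Agent.H923.Ten.A7.nl_g7 = @g) | exact Unit : Sort _) := by first | exact ⟨_, by delta Cfsg.Agent.H923.Ten.A7.nl_g7; rewrite [Cfsg.Agent.KOf7f05c1.e15.{0}]; exact rfl⟩ | exact ⟨_, rfl⟩ | exact ()
private noncomputable def _root_.Cfsg.Agent.KOf7f05c1.k41 : (by first | exact type_of% (@Subtype.val _ _ _root_.Cfsg.Agent.KOf7f05c1.k41s) | exact Unit : Sort _) := by first | exact @Subtype.val _ _ _root_.Cfsg.Agent.KOf7f05c1.k41s | exact ()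
private theorem _root_.Cfsg.Agent.KOf7f05c1.e41 : (by first | exact type_of% (show _ = @_root_.Cfsg.Agent.KOf7f05c1.k41 from @Subtype.property _ _ _root_.Cfsg.Agent.KOf7f05c1.k41s) | exact True : Prop) := by first | exact @Subtype.property _ _ _root_.Cfsg.Agent.KOf7f05c1.k41s | trivial

theorem m_g7 : ∀ (t : Fin 35) (i j : Fin 4), mul4 (mul4 (Mz Ml_g7) (Sm t)) (fun a b => Mz Ml_g7 b a) i j =
    ⟨-28, 0⟩ * (sz (nl_g7 t).2.2.2 * Sm (pi_g7 t) i j) := by (first | (refine of_decide_eq_true ?_; rewrite [Cfsg.Agent.KOf7f05c1.e52, Cfsg.Agent.KOf7f05c1.e12, Cfsg.Agent.KOf7f05c1.e34, Cfsg.Agent.KOf7f05c1.e55, Cfsg.Agent.KOf7f05c1.e56, Cfsg.Agent.KOf7f05c1.e59, Cfsg.Agent.KOf7f05c1.e60, Cfsg.Agent.KOf7f05c1.e62, Cfsg.Agent.KOf7f05c1.e41, Cfsg.Agent.KOf7f05c1.e40]; decide +kernel) | decide +kernel)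

theorem u_c2 : ∀ i j : Fin 4, mul4 (Mz Ml_c2) (fun a b => star (Mz Ml_c2 b a)) i j = if i = j then ⟨28, 0⟩ else 0 := by
  decide +kernel
theorem u_g7 : ∀ i j : Fin 4, mul4 (Mz Ml_g7) (fun a b => star (Mz Ml_g7 b a)) i j = if i = j then ⟨28, 0⟩ else 0 := by
  decide +kernel
theorem u_c2' : ∀ i j : Fin 4, mul4 (fun a b => star (Mz Ml_c2 b a)) (Mz Ml_c2) i j = if i = j then ⟨28, 0⟩ else 0 := by
  decide +kernel
theorem u_g7' : ∀ i j : Fin 4, mul4 (fun a b => star (Mz Ml_g7 b a)) (Mz Ml_g7) i j = if i = j then ⟨28, 0⟩ else 0 := by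
  decide +kernel
theorem s_sym : ∀ (t : Fin 35) (i j : Fin 4), Sm t i j = Sm t j i := by (first | (refine of_decide_eq_true ?_; rewrite [Cfsg.Agent.KOf7f05c1.e12, Cfsg.Agent.KOf7f05c1.e34, Cfsg.Agent.KOf7f05c1.e55, Cfsg.Agent.KOf7f05c1.e60]; decide +kernel) | decide +kernel)

/-- four times the values of the spherical function -/
def cv (t : Fin 35) : ℤ√(-7) :=
  sz (cl1 t).2.2.2 * (sz (cl2 t).2.2.2 * (![⟨4, 0⟩, ⟨-1, 0⟩, 0, ⟨0, -1⟩] (cls t)))

/-- list sum, for kernel evaluation -/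
def tot : ℤ√(-7) := ((List.finRange 35).map fun t => cv t * Sm t 0 0).sum

theorem tot_eq : tot = ⟨56, 0⟩ := by decide +kernel

end Cfsg.Agent.H923.Ten.A7
end

-- part: H923/Ten/A7Model
section
/-!
# The ten-dimensional module of `A₇` as symmetric square (helper923)
-/

set_option autoImplicit false
set_option linter.unusedSectionVars false

namespace Cfsg.Agent.H923.Ten.A7

open Module Matrix

universe u v

section basic

variable {F : Type u} [Field F]

/-- evaluation of `ℤ[√-7]` -/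
noncomputable def ev (r : F) (hr : r * r = ((-7 : ℤ) : F)) : ℤ√(-7) →+* F := Zsqrtd.lift ⟨r, hr⟩

theorem ev_apply {r : F} (hr : r * r = ((-7 : ℤ) : F)) (a b : ℤ) : ev r hr ⟨a, b⟩ = a + b * r := by
  rw [ev, Zsqrtd.lift_apply_apply]

/-- a table as a matrix over the field -/
noncomputable def MF (r : F) (hr : r * r = ((-7 : ℤ) : F)) (a : Fin 4 → Fin 4 → ℤ√(-7)) : Matrix (Fin 4) (Fin 4) F :=
  Matrix.of fun i j => ev r hr (a i j)

theorem MF_mul {r : F} (hr : r * r = ((-7 : ℤ) : F)) (a b : Fin 4 → Fin 4 → ℤ√(-7)) :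
    MF r hr a * MF r hr b = MF r hr (mul4 a b) := by
  ext i j
  rw [Matrix.mul_apply, Fin.sum_univ_four]
  simp only [MF, Matrix.of_apply, mul4, map_add, map_mul]

theorem MF_transpose {r : F} (hr : r * r = ((-7 : ℤ) : F)) (a : Fin 4 → Fin 4 → ℤ√(-7)) :
    (MF r hr a)ᵀ = MF r hr (fun i j => a j i) := rfl

theorem ev_sz {r : F} (hr : r * r = ((-7 : ℤ) : F)) (l : Fin 2) : ev r hr (sz l) = (-1 : F) ^ (l : ℕ) := by
  rw [sz, ev_apply]
  fin_cases l
  · simp [sg]
  · simp [sg]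

theorem MF_conj {r : F} (hr : r * r = ((-7 : ℤ) : F)) {M S S' : Fin 4 → Fin 4 → ℤ√(-7)} {l : Fin 2}
    (h : ∀ i j, mul4 (mul4 M S) (fun a b => M b a) i j = ⟨-28, 0⟩ * (sz l * S' i j)) :
    MF r hr M * MF r hr S * (MF r hr M)ᵀ = (-28 : F) • ((-1 : F) ^ (l : ℕ) • MF r hr S') := by
  rw [MF_transpose, MF_mul, MF_mul]
  ext i j
  rw [MF, Matrix.of_apply, h, map_mul, map_mul, ev_sz, ev_apply, Matrix.smul_apply, Matrix.smul_apply, MF,
    Matrix.of_apply, smul_eq_mul, smul_eq_mul]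
  push_cast
  ring

end basic

variable {F : Type u} {V : Type v} [Field F] [AddCommGroup V] [Module F V] [FiniteDimensional F V]
variable {ρ : A →* (V →ₗ[F] V)}

/-- the map to the symmetric matrices -/
noncomputable def Phi (ρ : A →* (V →ₗ[F] V)) (ξ : V →ₗ[F] F) (r : F) (hr : r * r = ((-7 : ℤ) : F)) :
    V →ₗ[F] Matrix (Fin 4) (Fin 4) F :=
  ∑ t : Fin 35, (ξ.comp (ρ (gT t)⁻¹)).smulRight (MF r hr (Sm t))

theorem Phi_apply (ξ : V →ₗ[F] F) (r : F) (hr : r * r = ((-7 : ℤ) : F)) (u : V) :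
    Phi ρ ξ r hr u = ∑ t : Fin 35, ξ (ρ (gT t)⁻¹ u) • MF r hr (Sm t) := by
  rw [Phi, LinearMap.sum_apply]
  rfl

namespace Sph

variable {v : V} {ξ : V →ₗ[F] F} {lam : F} (h : Sph ρ v ξ lam)

include h

theorem step {g : A} {π : Fin 35 → Fin 35} {nl : Fin 35 → Fin 4 × Fin 3 × Fin 3 × Fin 2}
    {M : Fin 4 → Fin 4 → ℤ√(-7)} (h1 : ∀ t : Fin 35, (gT (π t))⁻¹ * g = nfq (nl t) * (gT t)⁻¹)
    (h2 : Function.Injective π)
    (h3 : ∀ (t : Fin 35) (i j : Fin 4), mul4 (mul4 M (Sm t)) (fun a b => M b a) i j =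
      ⟨-28, 0⟩ * (sz (nl t).2.2.2 * Sm (π t) i j)) (r : F) (hr : r * r = ((-7 : ℤ) : F)) (u : V) :
    (-28 : F) • Phi ρ ξ r hr (ρ g u) = MF r hr M * Phi ρ ξ r hr u * (MF r hr M)ᵀ := by
  rw [Phi_apply, Phi_apply, Matrix.mul_sum, Matrix.sum_mul, Finset.smul_sum]
  have hb : Function.Bijective π := Finite.injective_iff_bijective.1 h2
  rw [← hb.sum_comp]
  refine Finset.sum_congr rfl fun t _ => ?_
  rw [act, h1, ← act, nfq, h.nfx, Matrix.mul_smul, Matrix.smul_mul, MF_conj hr (h3 t), smul_smul, smul_smul, smul_smul]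
  congr 1
  ring

theorem lam_mul : -lam * -lam = ((-7 : ℤ) : F) := by
  have := h.sq
  push_cast
  linear_combination this

theorem four : (4 : F) ≠ 0 := by
  have : (4 : F) = 2 * 2 := by norm_num
  rw [this]; exact mul_ne_zero h.irr.two h.irr.two

/-- values of the spherical function -/
theorem value (t : Fin 35) : 4 * ξ (ρ (gT t)⁻¹ v) = ev (-lam) h.lam_mul (cv t) := by
  have h1 : ∀ c : Fin 4, 4 * ξ (ρ (rep c) v) = ev (-lam) h.lam_mul (![⟨4, 0⟩, ⟨-1, 0⟩, 0, ⟨0, -1⟩] c) := by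
    intro c
    fin_cases c
    · change 4 * ξ (ρ 1 v) = ev (-lam) h.lam_mul ⟨4, 0⟩
      rw [act1, h.one, ev_apply]; norm_num
    · change 4 * ξ (ρ c6 v) = ev (-lam) h.lam_mul ⟨-1, 0⟩
      rw [h.x, ev_apply, mul_neg, mul_inv_cancel₀ h.four]; norm_num
    · change 4 * ξ (ρ r1 v) = ev (-lam) h.lam_mul 0
      have h2 : ξ (ρ r1 v) = -ξ (ρ r1 v) := by
        conv_lhs => rw [chk_r1]
        rw [← act, ← act, h.nfx, h.nfv, map_smul]
        simp
      have h3 : (2 : F) * ξ (ρ r1 v) = 0 := by linear_combination h2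
      rw [(mul_eq_zero.1 h3).resolve_left h.irr.two, map_zero, mul_zero]
    · change 4 * ξ (ρ (e2 0 5 5 1 * e2 1 4 2 6) v) = ev (-lam) h.lam_mul ⟨0, -1⟩
      have h2 := congrArg ξ h.hlam
      rw [map_smul, h.one, smul_eq_mul, mul_one, es, map_add, map_add, map_add] at h2
      have n1 : ∀ u, ξ (ρ s1 u) = ξ u := fun u => by
        have := h.nfx 1 0 0 0 u
        rwa [show nf 1 0 0 0 = s1 by decide, show (-1 : F) ^ ((0 : Fin 2) : ℕ) = 1 from pow_zero _, one_mul] at this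
      have n2 : ∀ u, ξ (ρ s2 u) = ξ u := fun u => by
        have := h.nfx 2 0 0 0 u
        rwa [show nf 2 0 0 0 = s2 by decide, show (-1 : F) ^ ((0 : Fin 2) : ℕ) = 1 from pow_zero _, one_mul] at this
      have n3 : ∀ u, ξ (ρ s3 u) = ξ u := fun u => by
        have := h.nfx 3 0 0 0 u
        rwa [show nf 3 0 0 0 = s3 by decide, show (-1 : F) ^ ((0 : Fin 2) : ℕ) = 1 from pow_zero _, one_mul] at this
      rw [n1, n2, n3] at h2
      rw [ev_apply]
      push_cast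
      linear_combination h2
  rw [chk_cl t, nfq, nfq, ← act, ← act, h.nfx, h.nfv, map_smul, map_smul, smul_eq_mul, cv, map_mul, map_mul, ev_sz,
    ev_sz, ← h1]
  ring

theorem Phi_v : (4 * Phi ρ ξ (-lam) h.lam_mul v 0 0 : F) = 56 := by
  rw [Phi_apply, Matrix.sum_apply, Finset.mul_sum]
  have h1 : ∀ t : Fin 35, 4 * (ξ (ρ (gT t)⁻¹ v) • MF (-lam) h.lam_mul (Sm t)) 0 0 =
      ev (-lam) h.lam_mul (cv t * Sm t 0 0) := by
    intro t
    rw [Matrix.smul_apply, smul_eq_mul, ← mul_assoc, h.value, map_mul]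
    rfl
  rw [Finset.sum_congr rfl fun t _ => h1 t, ← map_sum]
  have h2 : ∑ t : Fin 35, cv t * Sm t 0 0 = tot := by
    rw [tot, ← List.sum_ofFn, List.ofFn_eq_map]
  rw [h2, tot_eq, ev_apply]
  norm_num

end Sph

end Cfsg.Agent.H923.Ten.A7
end

-- part: H923/Ten/Kill
section
/-!
# Overgroups of the form `X ↦ G X Gᵀ` in dimension ten (helper923)

`Mdl Φ` : `Φ : F^10 → M_m(F)` injective, the image is closed under `X ↦ G X Gᵀ`.  `kap Φ h : GL_m(F) →* GL_10(F)` the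
induced action, `cone Φ r` : the members of `GL_10(F)` which preserve the set of vectors `v` with `rank (Φ v) ≤ r`.

* `not_max_sl` : if `P ≤ GL_10(F)` acts through `GL_m(F)`, `H = P · scalars`, and `GL_m(F)` is large, then `H` is not
  maximal in `SL_10(F)`;
* `not_max_su` : the unitary version.
-/

set_option autoImplicit false
set_option linter.unusedSectionVars false

namespace Cfsg.Agent.H923.Ten

open Cfsg Cfsg.Geo Matrix
open Cfsg.Agent.H915.LD
open scoped commutatorElement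

universe u

section general

variable {F : Type u} [Field F] {m : ℕ}

/-- the model -/
structure Mdl (Φ : (Fin 10 → F) →ₗ[F] Matrix (Fin m) (Fin m) F) : Prop where
  inj : Function.Injective Φ
  cl : ∀ (G : Matrix (Fin m) (Fin m) F) (v : Fin 10 → F), ∃ w, Φ w = G * Φ v * Gᵀ

variable {Φ : (Fin 10 → F) →ₗ[F] Matrix (Fin m) (Fin m) F}

/-- `X ↦ G X Gᵀ` as a linear map -/
def cj (G : Matrix (Fin m) (Fin m) F) : Matrix (Fin m) (Fin m) F →ₗ[F] Matrix (Fin m) (Fin m) F where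
  toFun X := G * X * Gᵀ
  map_add' X Y := by rw [Matrix.mul_add, Matrix.add_mul]
  map_smul' c X := by simp

theorem eq_of_mulVec {n : ℕ} {A B : Matrix (Fin n) (Fin n) F} (h : ∀ v, A *ᵥ v = B *ᵥ v) : A = B :=
  Matrix.toLin'.injective (LinearMap.ext fun v => by rw [Matrix.toLin'_apply, Matrix.toLin'_apply, h])

theorem exists_kapM (h : Mdl Φ) : ∃ f : Matrix (Fin m) (Fin m) F →* Matrix (Fin 10) (Fin 10) F,
    ∀ G v, Φ (f G *ᵥ v) = G * Φ v * Gᵀ := by
  obtain ⟨Ψ, hΨ⟩ := Φ.exists_leftInverse_of_injective (LinearMap.ker_eq_bot.2 h.inj)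
  have hΨ' : ∀ w, Ψ (Φ w) = w := fun w => LinearMap.congr_fun hΨ w
  have key : ∀ (G : Matrix (Fin m) (Fin m) F) (v : Fin 10 → F),
      Φ (LinearMap.toMatrix' (Ψ ∘ₗ cj G ∘ₗ Φ) *ᵥ v) = G * Φ v * Gᵀ := by
    intro G v
    rw [← Matrix.toLin'_apply, Matrix.toLin'_toMatrix']
    change Φ (Ψ (G * Φ v * Gᵀ)) = _
    obtain ⟨w, hw⟩ := h.cl G v
    rw [← hw, hΨ']
  refine ⟨{ toFun := fun G => LinearMap.toMatrix' (Ψ ∘ₗ cj G ∘ₗ Φ), map_one' := ?_, map_mul' := ?_ }, key⟩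
  · apply eq_of_mulVec
    intro v
    apply h.inj
    rw [key, one_mul, transpose_one, mul_one, Matrix.one_mulVec]
  · intro G G'
    apply eq_of_mulVec
    intro v
    apply h.inj
    rw [key, ← Matrix.mulVec_mulVec, key, key, transpose_mul]
    simp only [Matrix.mul_assoc]

/-- the action of `GL_m(F)` on `F^10` -/
noncomputable def kap (h : Mdl Φ) : GL (Fin m) F →* GL (Fin 10) F := Units.map (exists_kapM h).choose

theorem kap_spec (h : Mdl Φ) (G : GL (Fin m) F) (v : Fin 10 → F) :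
    Φ ((kap h G : Matrix (Fin 10) (Fin 10) F) *ᵥ v) =
      (G : Matrix (Fin m) (Fin m) F) * Φ v * (G : Matrix (Fin m) (Fin m) F)ᵀ :=
  (exists_kapM h).choose_spec (G : Matrix (Fin m) (Fin m) F) v

/-- The members of `GL_10` preserving the vectors of small rank. -/
def cone (Φ : (Fin 10 → F) →ₗ[F] Matrix (Fin m) (Fin m) F) (r : ℕ) : Subgroup (GL (Fin 10) F) where
  carrier := {g | ∀ v, (Φ ((g : Matrix (Fin 10) (Fin 10) F) *ᵥ v)).rank ≤ r ↔ (Φ v).rank ≤ r}
  mul_mem' := by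
    intro a b ha hb v
    rw [Units.val_mul, ← Matrix.mulVec_mulVec, ha, hb]
  one_mem' := by
    intro v
    rw [Units.val_one, Matrix.one_mulVec]
  inv_mem' := by
    intro a ha v
    have h1 := ha (((a⁻¹ : GL (Fin 10) F) : Matrix (Fin 10) (Fin 10) F) *ᵥ v)
    rw [Matrix.mulVec_mulVec, ← Units.val_mul, mul_inv_cancel, Units.val_one, Matrix.one_mulVec] at h1
    exact h1.symm

theorem rank_conj (G : GL (Fin m) F) (X : Matrix (Fin m) (Fin m) F) :
    ((G : Matrix (Fin m) (Fin m) F) * X * (G : Matrix (Fin m) (Fin m) F)ᵀ).rank = X.rank := by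
  have h1 : IsUnit (G : Matrix (Fin m) (Fin m) F).det := by
    rw [← Matrix.isUnit_iff_isUnit_det]
    exact G.isUnit
  rw [Matrix.rank_mul_eq_left_of_isUnit_det _ _ (by rwa [Matrix.det_transpose]),
    Matrix.rank_mul_eq_right_of_isUnit_det _ _ h1]

theorem mem_cone_of_conj {r : ℕ} {g : GL (Fin 10) F} (G : GL (Fin m) F)
    (h : ∀ v, Φ ((g : Matrix (Fin 10) (Fin 10) F) *ᵥ v) =
      (G : Matrix (Fin m) (Fin m) F) * Φ v * (G : Matrix (Fin m) (Fin m) F)ᵀ) : g ∈ cone Φ r := by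
  intro v
  rw [h, rank_conj]

theorem kap_mem_cone {r : ℕ} (h : Mdl Φ) (G : GL (Fin m) F) : kap h G ∈ cone Φ r :=
  mem_cone_of_conj G (kap_spec h G)

theorem scalar_mem_cone {r : ℕ} {g : GL (Fin 10) F} {c : F}
    (hg : (g : Matrix (Fin 10) (Fin 10) F) = c • (1 : Matrix (Fin 10) (Fin 10) F)) : g ∈ cone Φ r := by
  have hc : c ≠ 0 := by
    rintro rfl
    rw [zero_smul] at hg
    exact (Units.ne_zero g) hg
  intro v
  rw [hg, Matrix.smul_mulVec, Matrix.one_mulVec, map_smul]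
  have h1 : ∀ X : Matrix (Fin m) (Fin m) F, (c • X).rank = X.rank := by
    intro X
    have h2 : c • X = (c • (1 : Matrix (Fin m) (Fin m) F)) * X := by rw [smul_mul_assoc, one_mul]
    rw [h2]
    apply Matrix.rank_mul_eq_right_of_isUnit_det
    rw [Matrix.det_smul, Matrix.det_one, mul_one]
    exact (pow_ne_zero _ hc).isUnit
  rw [h1]

end general

section main

variable {F : Type u} [Field F] [Finite F] {m : ℕ} {Φ : (Fin 10 → F) →ₗ[F] Matrix (Fin m) (Fin m) F}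
  {H P : Subgroup (GL (Fin 10) F)}

theorem card_le_of_normalize (h : Mdl Φ)
    (hsc : ∀ (G : GL (Fin m) F) (c : F), (∀ v, (G : Matrix (Fin m) (Fin m) F) * Φ v * (G : Matrix (Fin m) (Fin m) F)ᵀ =
      c • Φ v) → G ∈ scalars (Fin m) F)
    (hirr : ActsAbsolutelyIrreducibly (matrixSet P)) (𝒢 : Subgroup (GL (Fin m) F))
    (hn : ∀ G ∈ 𝒢, ∀ x ∈ P, kap h G * x * (kap h G)⁻¹ ∈ P) :
    Nat.card 𝒢 ≤ Nat.card (MulAut P) * Nat.card (scalars (Fin m) F) := by
  have hmem : ∀ G : 𝒢, kap h G ∈ Subgroup.normalizer (P : Set (GL (Fin 10) F)) := by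
    intro G
    rw [Subgroup.mem_normalizer_iff]
    intro x
    refine ⟨fun hx => hn _ G.2 x hx, fun hx => ?_⟩
    have h1 := hn _ (inv_mem G.2) _ hx
    rw [map_inv, inv_inv] at h1
    have h2 : (kap h (G : GL (Fin m) F))⁻¹ * (kap h (G : GL (Fin m) F) * x * (kap h (G : GL (Fin m) F))⁻¹) *
        kap h (G : GL (Fin m) F) = x := by group
    rwa [h2] at h1
  let ψ : 𝒢 →* MulAut P := (Subgroup.normalizerMonoidHom P).comp (((kap h).comp 𝒢.subtype).codRestrict _ hmem)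
  have hψ : ∀ (G : 𝒢) (x : P), ((ψ G x : P) : GL (Fin 10) F) = kap h G * x * (kap h G)⁻¹ := fun G x => rfl
  have hker : ∀ G : 𝒢, ψ G = 1 → (G : GL (Fin m) F) ∈ scalars (Fin m) F := by
    intro G hG
    have h1 : ∀ s ∈ matrixSet P, (kap h (G : GL (Fin m) F) : Matrix (Fin 10) (Fin 10) F) * s =
        s * (kap h (G : GL (Fin m) F) : Matrix (Fin 10) (Fin 10) F) := by
      rintro _ ⟨x, hx, rfl⟩
      have h2 := hψ G ⟨x, hx⟩
      rw [hG] at h2
      have h3 : x = kap h (G : GL (Fin m) F) * x * (kap h (G : GL (Fin m) F))⁻¹ := h2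
      have h4 : kap h (G : GL (Fin m) F) * x = x * kap h (G : GL (Fin m) F) := by
        rw [eq_mul_inv_iff_mul_eq] at h3
        exact h3.symm
      have h5 := congrArg Units.val h4
      rwa [Units.val_mul, Units.val_mul] at h5
    obtain ⟨c, hc⟩ := hirr.2 _ h1
    apply hsc _ c
    intro v
    rw [← kap_spec h, hc, Matrix.smul_mulVec, Matrix.one_mulVec, map_smul]
  have h1 := Subgroup.card_mul_index ψ.ker
  rw [Subgroup.index_ker] at h1
  rw [← h1, mul_comm]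
  apply Nat.mul_le_mul
  · exact Nat.card_le_card_of_injective _ ψ.range.subtype_injective
  · apply Nat.card_le_card_of_injective (fun G : ψ.ker => (⟨(G : 𝒢), hker _ G.2⟩ : scalars (Fin m) F))
    intro a b hab
    have h2 := congrArg Subtype.val hab
    exact Subtype.ext (Subtype.ext h2)

/-- a perfect subgroup of `P · scalars` lies in `P` -/
theorem le_of_perfect {Q : Subgroup (GL (Fin 10) F)} (hQ : ⁅Q, Q⁆ = Q) (hQH : Q ≤ H)
    (hH : ∀ h ∈ H, ∃ x ∈ P, ∃ c : F, (h : Matrix (Fin 10) (Fin 10) F) = c • (x : Matrix (Fin 10) (Fin 10) F)) :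
    Q ≤ P := by
  rw [← hQ, Subgroup.commutator_le]
  intro a ha b hb
  obtain ⟨x, hx, c, hc⟩ := hH a (hQH ha)
  obtain ⟨y, hy, d, hd⟩ := hH b (hQH hb)
  have h1 : ⁅a, b⁆ = ⁅x, y⁆ := by
    have e1 : ∀ g k : GL (Fin 10) F, ⁅g, k⁆ = g * k * (k * g)⁻¹ := by
      intro g k
      rw [commutatorElement_def, _root_.mul_inv_rev]
      group
    rw [e1, e1, mul_inv_eq_iff_eq_mul]
    apply Units.ext
    have h2 : ((b * a : GL (Fin 10) F) : Matrix (Fin 10) (Fin 10) F) = (c * d) • ((y * x : GL (Fin 10) F) :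
        Matrix (Fin 10) (Fin 10) F) := by
      rw [Units.val_mul, hc, hd, Matrix.smul_mul, Matrix.mul_smul, smul_smul, mul_comm d c, Units.val_mul]
    have h3 : ((a * b : GL (Fin 10) F) : Matrix (Fin 10) (Fin 10) F) = (c * d) • ((x * y : GL (Fin 10) F) :
        Matrix (Fin 10) (Fin 10) F) := by
      rw [Units.val_mul, hc, hd, Matrix.smul_mul, Matrix.mul_smul, smul_smul, Units.val_mul]
    rw [h3, Units.val_mul _ (b * a), h2, Matrix.mul_smul, ← Units.val_mul, inv_mul_cancel_right]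
  rw [h1]
  exact Subgroup.commutator_le_self P (Subgroup.commutator_mem_commutator hx hy)

theorem le_cone {r : ℕ}
    (hP : ∀ g ∈ P, ∃ G : GL (Fin m) F, ∀ v, Φ ((g : Matrix (Fin 10) (Fin 10) F) *ᵥ v) =
      (G : Matrix (Fin m) (Fin m) F) * Φ v * (G : Matrix (Fin m) (Fin m) F)ᵀ)
    (hH : ∀ h ∈ H, ∃ x ∈ P, ∃ c : F, (h : Matrix (Fin 10) (Fin 10) F) = c • (x : Matrix (Fin 10) (Fin 10) F)) :
    H ≤ cone Φ r := by
  intro h hh
  obtain ⟨x, hx, c, hc⟩ := hH h hh
  obtain ⟨G, hG⟩ := hP x hx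
  have h1 : h = (h * x⁻¹) * x := by group
  rw [h1]
  refine mul_mem (scalar_mem_cone (c := c) ?_) (mem_cone_of_conj G hG)
  rw [Units.val_mul, hc, Matrix.smul_mul, ← Units.val_mul, mul_inv_cancel, Units.val_one]

theorem conj_perfect {P : Subgroup (GL (Fin 10) F)} (hP : ⁅P, P⁆ = P) (k : GL (Fin 10) F) :
    ⁅P.map (MulAut.conj k).toMonoidHom, P.map (MulAut.conj k).toMonoidHom⁆ = P.map (MulAut.conj k).toMonoidHom := by
  rw [← Subgroup.map_commutator, hP]

theorem conj_mem_sl {y : GL (Fin 10) F} (hy : y ∈ specialLinear (Fin 10) F) (k : GL (Fin 10) F) :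
    k * y * k⁻¹ ∈ specialLinear (Fin 10) F := by
  rw [H908.mem_sl_iff] at *
  rw [Units.val_mul, Units.val_mul, Matrix.det_mul, Matrix.det_mul, hy, mul_one, ← Matrix.det_mul,
    ← Units.val_mul, mul_inv_cancel, Units.val_one, Matrix.det_one]

/-- **No maximal subgroup of `SL_10`.** -/
theorem not_max_sl (h : Mdl Φ)
    (hsc : ∀ (G : GL (Fin m) F) (c : F), (∀ v, (G : Matrix (Fin m) (Fin m) F) * Φ v * (G : Matrix (Fin m) (Fin m) F)ᵀ =
      c • Φ v) → G ∈ scalars (Fin m) F)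
    {r : ℕ} (hcore : IsResidualCore H P)
    (hP : ∀ g ∈ P, ∃ G : GL (Fin m) F, ∀ v, Φ ((g : Matrix (Fin 10) (Fin 10) F) *ᵥ v) =
      (G : Matrix (Fin m) (Fin m) F) * Φ v * (G : Matrix (Fin m) (Fin m) F)ᵀ)
    (hH : ∀ h ∈ H, ∃ x ∈ P, ∃ c : F, (h : Matrix (Fin 10) (Fin 10) F) = c • (x : Matrix (Fin 10) (Fin 10) F))
    (hcard : Nat.card (MulAut P) * Nat.card (scalars (Fin m) F) < Nat.card (GL (Fin m) F))
    (hd : ∃ d w : Fin 10 → F, d ≠ 0 ∧ w ≠ 0 ∧ (Φ d).rank ≤ r ∧ r < (Φ w).rank) :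
    ¬ IsMaximalIn (specialLinear (Fin 10) F) H := by
  intro hmax
  have hle : H ≤ cone Φ r := le_cone hP hH
  rcases hmax.2 (cone Φ r ⊓ specialLinear (Fin 10) F) (le_inf hle hmax.1.le) inf_le_right with h1 | h1
  · have h2 := card_le_of_normalize h hsc hcore.absIrred ⊤ (by
      intro G _ x hx
      have h3 : P.map (MulAut.conj (kap h G)).toMonoidHom ≤ P := by
        refine le_of_perfect (conj_perfect hcore.perfect _) ?_ hH
        rw [← h1]
        rintro _ ⟨y, hy, rfl⟩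
        change kap h G * y * (kap h G)⁻¹ ∈ cone Φ r ⊓ specialLinear (Fin 10) F
        refine Subgroup.mem_inf.2 ⟨mul_mem (mul_mem (kap_mem_cone h G) (hle (hcore.le hy)))
          (inv_mem (kap_mem_cone h G)), conj_mem_sl (hmax.1.le (hcore.le hy)) _⟩
      exact h3 ⟨x, hx, rfl⟩)
    rw [Nat.card_congr Subgroup.topEquiv.toEquiv] at h2
    omega
  · obtain ⟨d, w, hd0, hw0, hdr, hwr⟩ := hd
    obtain ⟨g, hg, hgd⟩ := H908.exists_sl_map1 (n := 10) (by norm_num) hd0 hw0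
    rw [← h1] at hg
    have h2 := (hg.1 d).2 hdr
    rw [hgd] at h2
    omega

end main

end Cfsg.Agent.H923.Ten
end

-- part: H923/Ten/KillU
section
/-!
# Overgroups of the form `X ↦ G X Gᵀ` in dimension ten, unitary case (helper923)
-/

set_option autoImplicit false
set_option linter.unusedSectionVars false

namespace Cfsg.Agent.H923.Ten

open Cfsg Cfsg.Geo Matrix
open Cfsg.Agent.H915.LD
open Cfsg.Agent.LieClassical.GUOrder
open scoped commutatorElement

universe u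

variable {F : Type u} [Field F] [Fintype F] {m q : ℕ}

/-- the standard form on matrices -/
def hh (hF : Fintype.card F = q ^ 2) (X Y : Matrix (Fin m) (Fin m) F) : F := ∑ i, ∑ j, X i j * frob hF (Y i j)

theorem hh_eq (hF : Fintype.card F = q ^ 2) (X Y : Matrix (Fin m) (Fin m) F) :
    hh hF X Y = (X * (Y.map (frob hF))ᵀ).trace := by
  unfold hh Matrix.trace
  refine Finset.sum_congr rfl fun i _ => ?_
  rw [Matrix.diag_apply, Matrix.mul_apply]
  rfl

theorem hh_conj (hF : Fintype.card F = q ^ 2) {G : GL (Fin m) F} (hG : G ∈ Cfsg.GU m F q)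
    (X Y : Matrix (Fin m) (Fin m) F) :
    hh hF ((G : Matrix (Fin m) (Fin m) F) * X * (G : Matrix (Fin m) (Fin m) F)ᵀ)
      ((G : Matrix (Fin m) (Fin m) F) * Y * (G : Matrix (Fin m) (Fin m) F)ᵀ) = hh hF X Y := by
  have h1 : (G : Matrix (Fin m) (Fin m) F)ᵀ * (G : Matrix (Fin m) (Fin m) F).map (frob hF) = 1 :=
    (mul_map_eq_one_iff hF _).1 ((mem_GU_iff G).1 hG)
  have h2 : ((G : Matrix (Fin m) (Fin m) F).map (frob hF))ᵀ * (G : Matrix (Fin m) (Fin m) F) = 1 := by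
    have h3 := congrArg Matrix.transpose h1
    rwa [Matrix.transpose_mul, Matrix.transpose_transpose, Matrix.transpose_one] at h3
  rw [hh_eq, hh_eq]
  set A := (G : Matrix (Fin m) (Fin m) F) with hA
  set B := A.map (frob hF) with hB
  have h4 : (A * Y * Aᵀ).map (frob hF) = B * Y.map (frob hF) * Bᵀ := by
    rw [Matrix.map_mul, Matrix.map_mul, hB, Matrix.transpose_map]
  rw [h4]
  have h5 : A * X * Aᵀ * (B * Y.map (frob hF) * Bᵀ)ᵀ = A * (X * (Y.map (frob hF))ᵀ * Bᵀ) := by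
    rw [Matrix.transpose_mul, Matrix.transpose_mul, Matrix.transpose_transpose]
    calc A * X * Aᵀ * (B * ((Y.map (frob hF))ᵀ * Bᵀ))
        = A * X * (Aᵀ * B) * ((Y.map (frob hF))ᵀ * Bᵀ) := by simp only [Matrix.mul_assoc]
      _ = A * (X * (Y.map (frob hF))ᵀ * Bᵀ) := by rw [h1, Matrix.mul_one]; simp only [Matrix.mul_assoc]
  rw [h5, Matrix.trace_mul_comm, Matrix.mul_assoc, h2, Matrix.mul_one]

theorem hh_add_left (hF : Fintype.card F = q ^ 2) (X X' Y : Matrix (Fin m) (Fin m) F) :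
    hh hF (X + X') Y = hh hF X Y + hh hF X' Y := by
  simp only [hh, Matrix.add_apply, add_mul, Finset.sum_add_distrib]

theorem hh_smul_left (hF : Fintype.card F = q ^ 2) (c : F) (X Y : Matrix (Fin m) (Fin m) F) :
    hh hF (c • X) Y = c * hh hF X Y := by
  simp only [hh, Matrix.smul_apply, smul_eq_mul, Finset.mul_sum, mul_assoc]

theorem hh_add_right (hF : Fintype.card F = q ^ 2) (X Y Y' : Matrix (Fin m) (Fin m) F) :
    hh hF X (Y + Y') = hh hF X Y + hh hF X Y' := by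
  simp only [hh, Matrix.add_apply, map_add, mul_add, Finset.sum_add_distrib]

theorem hh_smul_right (hF : Fintype.card F = q ^ 2) (c : F) (X Y : Matrix (Fin m) (Fin m) F) :
    hh hF X (c • Y) = frob hF c * hh hF X Y := by
  simp only [hh, Matrix.smul_apply, smul_eq_mul, Finset.mul_sum, map_mul]
  exact Finset.sum_congr rfl fun i _ => Finset.sum_congr rfl fun j _ => by ring

variable {Φ : (Fin 10 → F) →ₗ[F] Matrix (Fin m) (Fin m) F} {H P : Subgroup (GL (Fin 10) F)}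

theorem herm_single (hF : Fintype.card F = q ^ 2) {n : ℕ} (u : Fin n → F) (j : Fin n) :
    hermForm n F q u (Pi.single j 1) = u j := by
  rw [herm_eq hF, Finset.sum_eq_single j]
  · simp
  · intro b _ hb
    rw [Pi.single_eq_of_ne hb, map_zero, mul_zero]
  · intro h; exact absurd (Finset.mem_univ _) h

/-- the form of the model is proportional to the standard one -/
theorem exists_herm (hF : Fintype.card F = q ^ 2) (hirr : ActsAbsolutelyIrreducibly (matrixSet P))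
    (hPU : P ≤ Cfsg.GU 10 F q)
    (hP : ∀ g ∈ P, ∃ G ∈ Cfsg.GU m F q, ∀ v, Φ ((g : Matrix (Fin 10) (Fin 10) F) *ᵥ v) =
      (G : Matrix (Fin m) (Fin m) F) * Φ v * (G : Matrix (Fin m) (Fin m) F)ᵀ) :
    ∃ c : F, ∀ u v, hh hF (Φ u) (Φ v) = c * hermForm 10 F q u v := by
  let M : Matrix (Fin 10) (Fin 10) F := Matrix.of fun j i => hh hF (Φ (Pi.single i 1)) (Φ (Pi.single j 1))
  have hexp : ∀ u : Fin 10 → F, u = ∑ i, u i • (Pi.single i (1 : F) : Fin 10 → F) := by
    intro u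
    conv_lhs => rw [← Finset.univ_sum_single u]
    refine Finset.sum_congr rfl fun i _ => ?_
    rw [← Pi.single_smul', smul_eq_mul, mul_one]
  have hsumr : ∀ (s : Finset (Fin 10)) (f : Fin 10 → Fin 10 → F) (X : Matrix (Fin m) (Fin m) F),
      hh hF X (Φ (∑ i ∈ s, f i)) = ∑ i ∈ s, hh hF X (Φ (f i)) := by
    intro s f X
    induction s using Finset.induction_on with
    | empty => simp [hh]
    | insert a s ha ih => rw [Finset.sum_insert ha, Finset.sum_insert ha, map_add, hh_add_right, ih]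
  have hsuml : ∀ (s : Finset (Fin 10)) (f : Fin 10 → Fin 10 → F) (X : Matrix (Fin m) (Fin m) F),
      hh hF (Φ (∑ i ∈ s, f i)) X = ∑ i ∈ s, hh hF (Φ (f i)) X := by
    intro s f X
    induction s using Finset.induction_on with
    | empty => simp [hh]
    | insert a s ha ih => rw [Finset.sum_insert ha, Finset.sum_insert ha, map_add, hh_add_left, ih]
  have hM : ∀ u v, hh hF (Φ u) (Φ v) = hermForm 10 F q (M *ᵥ u) v := by
    intro u v
    have h1 : ∀ j, (M *ᵥ u) j = hh hF (Φ u) (Φ (Pi.single j 1)) := by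
      intro j
      conv_rhs => rw [hexp u, hsuml]
      rw [Matrix.mulVec, dotProduct]
      refine Finset.sum_congr rfl fun i _ => ?_
      rw [map_smul, hh_smul_left, mul_comm]
      rfl
    rw [herm_eq hF]
    conv_lhs => rw [hexp v, hsumr]
    refine Finset.sum_congr rfl fun j _ => ?_
    rw [map_smul, hh_smul_right, h1, mul_comm]
  obtain ⟨c, hc⟩ := hirr.2 M (by
    rintro _ ⟨g, hg, rfl⟩
    apply eq_of_mulVec
    intro u
    rw [← Matrix.mulVec_mulVec, ← Matrix.mulVec_mulVec]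
    obtain ⟨G, hG, hGΦ⟩ := hP g hg
    have h1 : ∀ w, hermForm 10 F q (M *ᵥ ((g : Matrix (Fin 10) (Fin 10) F) *ᵥ u)) w =
        hermForm 10 F q ((g : Matrix (Fin 10) (Fin 10) F) *ᵥ (M *ᵥ u)) w := by
      intro w
      obtain ⟨v, rfl⟩ : ∃ v, w = (g : Matrix (Fin 10) (Fin 10) F) *ᵥ v :=
        ⟨((g⁻¹ : GL (Fin 10) F) : Matrix (Fin 10) (Fin 10) F) *ᵥ w, by
          rw [Matrix.mulVec_mulVec, ← Units.val_mul, mul_inv_cancel, Units.val_one, Matrix.one_mulVec]⟩
      rw [← hM, hGΦ, hGΦ, hh_conj hF hG, hM, (mem_GU_iff g).1 (hPU hg)]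
    ext j
    exact (herm_single hF _ j).symm.trans ((h1 _).trans (herm_single hF _ j)))
  refine ⟨c, fun u v => ?_⟩
  rw [hM, hc, Matrix.smul_mulVec, Matrix.one_mulVec, herm_smul_left hF]

theorem exists_skew (hF : Fintype.card F = q ^ 2) : ∃ c : F, c ≠ 0 ∧ frob hF c = -c := by
  obtain ⟨x, hx⟩ : ∃ x : F, frob hF x ≠ x := by
    by_contra hcon
    push Not at hcon
    have hq := two_le hF
    have h2 := FiniteField.X_pow_card_sub_X_natDegree_eq F (show 1 < q by omega)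
    have h3 : (Polynomial.X ^ q - Polynomial.X : Polynomial F) ≠ 0 := by
      intro h0
      rw [h0, Polynomial.natDegree_zero] at h2
      omega
    classical
    have h4 : (Finset.univ : Finset F).val ≤ (Polynomial.X ^ q - Polynomial.X : Polynomial F).roots := by
      rw [Finset.val_le_iff_val_subset]
      intro y _
      rw [Polynomial.mem_roots h3]
      have := hcon y
      rw [frob_apply] at this
      simp [this]
    have h5 := Multiset.card_le_card h4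
    have h6 := h5.trans (Polynomial.card_roots' _)
    rw [h2] at h6
    have h7 : Fintype.card F ≤ q := h6
    rw [hF] at h7
    nlinarith
  refine ⟨x - frob hF x, fun h => hx (sub_eq_zero.1 h).symm, ?_⟩
  rw [map_sub, frob_frob]
  ring

/-- unitary transvections -/
theorem exists_transv (hF : Fintype.card F = q ^ 2) {n : ℕ} (u : Fin n → F) (hu : hermForm n F q u u = 0) :
    ∃ (t : GL (Fin n) F) (c : F), c ≠ 0 ∧ t ∈ Cfsg.GU n F q ⊓ specialLinear (Fin n) F ∧
      ∀ x, (t : Matrix (Fin n) (Fin n) F) *ᵥ x = x + (c * hermForm n F q x u) • u := by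
  obtain ⟨c, hc0, hc⟩ := exists_skew hF
  set M : Matrix (Fin n) (Fin n) F := 1 + c • Matrix.vecMulVec u (fun i => frob hF (u i)) with hM
  have hMx : ∀ x, M *ᵥ x = x + (c * hermForm n F q x u) • u := by
    intro x
    rw [hM, Matrix.add_mulVec, Matrix.one_mulVec, Matrix.smul_mulVec, vecMulVec_mulVec_herm hF, smul_smul]
  have hiso : ∀ x y : Fin n → F, hermForm n F q (M *ᵥ x) (M *ᵥ y) = hermForm n F q x y := by
    intro x y
    have hwy : hermForm n F q u y = frob hF (hermForm n F q y u) := (frob_herm hF y u).symm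
    rw [hMx, hMx, herm_add_left hF, herm_add_right hF, herm_add_right hF, herm_smul_left hF,
      herm_smul_right hF, herm_smul_left hF, herm_smul_right hF, hu, map_mul, hwy, hc]
    ring
  have hdet : M.det = 1 := by
    have h1 : M = 1 + Matrix.replicateCol Unit (c • u) * Matrix.replicateRow Unit (fun i => frob hF (u i)) := by
      rw [hM]
      congr 1
      ext i j
      simp [Matrix.vecMulVec_apply, Matrix.mul_apply, mul_assoc]
    rw [h1, Matrix.det_one_add_replicateCol_mul_replicateRow]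
    have h2 : (fun i => frob hF (u i)) ⬝ᵥ (c • u) = c * hermForm n F q u u := by
      rw [dotProduct_smul, smul_eq_mul, herm_eq hF, dotProduct]
      congr 1
      exact Finset.sum_congr rfl fun i _ => mul_comm _ _
    rw [h2, hu, mul_zero, add_zero]
  exact ⟨(mkGU hF M hiso : GL (Fin n) F), c, hc0,
    Subgroup.mem_inf.2 ⟨(mkGU hF M hiso).2, (H908.mem_sl_iff _).2 hdet⟩, hMx⟩

/-- **No maximal subgroup of `SU_10`.** -/
theorem not_max_su (hF : Fintype.card F = q ^ 2) (h : Mdl Φ)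
    (hsc : ∀ (G : GL (Fin m) F) (c : F), (∀ v, (G : Matrix (Fin m) (Fin m) F) * Φ v * (G : Matrix (Fin m) (Fin m) F)ᵀ =
      c • Φ v) → G ∈ scalars (Fin m) F)
    {r : ℕ} (hcore : IsResidualCore H P)
    (hP : ∀ g ∈ P, ∃ G ∈ Cfsg.GU m F q, ∀ v, Φ ((g : Matrix (Fin 10) (Fin 10) F) *ᵥ v) =
      (G : Matrix (Fin m) (Fin m) F) * Φ v * (G : Matrix (Fin m) (Fin m) F)ᵀ)
    (hH : ∀ h ∈ H, ∃ x ∈ P, ∃ c : F, (h : Matrix (Fin 10) (Fin 10) F) = c • (x : Matrix (Fin 10) (Fin 10) F))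
    (hcard : Nat.card (MulAut P) * Nat.card (scalars (Fin m) F) < Nat.card (Cfsg.GU m F q))
    (hd : ∃ d u : Fin 10 → F, hh hF (Φ u) (Φ u) = 0 ∧ hh hF (Φ d) (Φ u) ≠ 0 ∧ (Φ d).rank ≤ r ∧
      ∀ c : F, c ≠ 0 → r < (Φ (d + c • u)).rank) :
    ¬ IsMaximalIn (Cfsg.GU 10 F q ⊓ specialLinear (Fin 10) F) H := by
  intro hmax
  have hP' : ∀ g ∈ P, ∃ G : GL (Fin m) F, ∀ v, Φ ((g : Matrix (Fin 10) (Fin 10) F) *ᵥ v) =
      (G : Matrix (Fin m) (Fin m) F) * Φ v * (G : Matrix (Fin m) (Fin m) F)ᵀ := by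
    intro g hg
    obtain ⟨G, -, hG⟩ := hP g hg
    exact ⟨G, hG⟩
  have hle : H ≤ cone Φ r := le_cone hP' hH
  have hPU : P ≤ Cfsg.GU 10 F q := hcore.le.trans (hmax.1.le.trans inf_le_left)
  obtain ⟨c, hc⟩ := exists_herm hF hcore.absIrred hPU hP
  obtain ⟨d, u, hu, hdu, hdr, hdu'⟩ := hd
  have hc0 : c ≠ 0 := by
    rintro rfl
    rw [hc, zero_mul] at hdu
    exact hdu rfl
  rw [hc] at hu hdu
  rcases hmax.2 (cone Φ r ⊓ (Cfsg.GU 10 F q ⊓ specialLinear (Fin 10) F)) (le_inf hle hmax.1.le) inf_le_right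
    with h1 | h1
  · have h2 := card_le_of_normalize h hsc hcore.absIrred (Cfsg.GU m F q) (by
      intro G hG x hx
      have hkU : kap h G ∈ Cfsg.GU 10 F q := by
        rw [mem_GU_iff]
        intro a b
        apply mul_left_cancel₀ hc0
        rw [← hc, ← hc, kap_spec, kap_spec, hh_conj hF hG]
      have h3 : P.map (MulAut.conj (kap h G)).toMonoidHom ≤ P := by
        refine le_of_perfect (conj_perfect hcore.perfect _) ?_ hH
        rw [← h1]
        rintro _ ⟨y, hy, rfl⟩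
        change kap h G * y * (kap h G)⁻¹ ∈ cone Φ r ⊓ (Cfsg.GU 10 F q ⊓ specialLinear (Fin 10) F)
        exact Subgroup.mem_inf.2 ⟨mul_mem (mul_mem (kap_mem_cone h G) (hle (hcore.le hy)))
          (inv_mem (kap_mem_cone h G)), Subgroup.mem_inf.2 ⟨mul_mem (mul_mem hkU (hPU hy)) (inv_mem hkU),
            conj_mem_sl (hmax.1.le (hcore.le hy)).2 _⟩⟩
      exact h3 ⟨x, hx, rfl⟩)
    omega
  · obtain ⟨t, e, he0, ht, htx⟩ := exists_transv hF u ((mul_eq_zero.1 hu).resolve_left hc0)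
    rw [← h1] at ht
    have h2 := ((Subgroup.mem_inf.1 ht).1 d).2 hdr
    rw [htx] at h2
    have h3 := hdu' (e * hermForm 10 F q d u) (mul_ne_zero he0 fun h0 => hdu (by rw [h0, mul_zero]))
    omega

end Cfsg.Agent.H923.Ten
end

-- part: H923/Ten/A7Rep
section
/-!
# Cores isomorphic to `A₇` in dimension ten (helper923)
-/

set_option autoImplicit false
set_option linter.unusedSectionVars false

namespace Cfsg.Agent.H923.Ten.A7

open Module Matrix Cfsg Cfsg.Geo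
open Cfsg.Agent.LieClassical.GUOrder

universe u

variable {F : Type u} [Field F]

/-- the representation on column vectors -/
noncomputable def rp {P : Subgroup (GL (Fin 10) F)} (e : A ≃* P) : A →* ((Fin 10 → F) →ₗ[F] (Fin 10 → F)) where
  toFun g := Matrix.toLin' ((e g : GL (Fin 10) F) : Matrix (Fin 10) (Fin 10) F)
  map_one' := by
    rw [map_one, OneMemClass.coe_one, Units.val_one, Matrix.toLin'_one]; rfl
  map_mul' x y := by
    rw [map_mul, Subgroup.coe_mul, Units.val_mul, Matrix.toLin'_mul]; rfl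

theorem rp_apply {P : Subgroup (GL (Fin 10) F)} (e : A ≃* P) (g : A) (v : Fin 10 → F) :
    rp e g v = ((e g : GL (Fin 10) F) : Matrix (Fin 10) (Fin 10) F) *ᵥ v := by
  change Matrix.toLin' _ v = _
  rw [Matrix.toLin'_apply]

theorem rp_irr {P : Subgroup (GL (Fin 10) F)} (e : A ≃* P) (h2 : (2 : F) ≠ 0)
    (hirr : ActsAbsolutelyIrreducibly (matrixSet P)) : Irr (rp e) where
  two := h2
  dim := by rw [finrank_pi, Fintype.card_fin]
  irr := by
    intro U hU
    apply hirr.1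
    rintro _ ⟨x, hx, rfl⟩
    rw [Submodule.map_le_iff_le_comap]
    intro u hu
    have h1 := hU (e.symm ⟨x, hx⟩) u hu
    rw [rp_apply, MulEquiv.apply_symm_apply] at h1
    rw [Submodule.mem_comap, Matrix.toLin'_apply]
    exact h1

section auto

variable {P : Subgroup (GL (Fin 10) F)} (e : A ≃* P)

/-- no element of `GL₁₀` induces an odd automorphism -/
theorem no_odd {v : Fin 10 → F} {ξ : (Fin 10 → F) →ₗ[F] F} {lam : F} (h : Sph (rp e) v ξ lam) (h7 : (7 : F) ≠ 0)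
    (T : (Fin 10 → F) →ₗ[F] (Fin 10 → F)) (hT : Function.Injective T)
    (hc : ∀ (g g' : A), (g' : Equiv.Perm (Fin 7)) = Equiv.swap 4 5 * (g : Equiv.Perm (Fin 7)) * (Equiv.swap 4 5)⁻¹ →
      ∀ u, T (rp e g u) = rp e g' (T u)) : False := by
  have c1 : ∀ u, T (rp e s1 u) = rp e s1 (T u) := hc s1 s1 (by decide)
  have c2' : ∀ u, T (rp e s2 u) = rp e s2 (T u) := hc s2 s2 (by decide)
  have c3' : ∀ u, T (rp e s3 u) = rp e s3 (T u) := hc s3 s3 (by decide)
  obtain ⟨hv0, v1, v2, -, -, -, hun⟩ := h.good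
  obtain ⟨μ, hμ⟩ := hun (T v) (by rw [← c1, v1]) (by rw [← c2', v2])
  have hμ0 : μ ≠ 0 := by
    rintro rfl
    rw [zero_smul] at hμ
    exact hv0 (hT (hμ.trans (map_zero T).symm))
  have ces : ∀ u, T (es (rp e) u) = es (rp e) (T u) := fun u => by
    rw [es, map_add, map_add, map_add, c1, c2', c3']; rfl
  set g0 : A := e2 0 5 5 1 * e2 1 4 2 6 with hg0
  have cg : ∀ u, T (rp e g0 u) = rp e (g0 * nf 0 0 0 1) (T u) := hc g0 (g0 * nf 0 0 0 1) (by rw [hg0]; decide)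
  have h1 := congrArg T h.hlam
  rw [ces, cg, hμ, map_smul, map_smul, hμ, ← act, h.nfv, map_smul] at h1
  have h2 : ∀ (c : F) u, es (rp e) (c • u) = c • es (rp e) u := by
    intro c u
    rw [es, es, map_smul, map_smul, map_smul, smul_add, smul_add, smul_add]
  rw [h2, h2, h.hlam, smul_smul, smul_smul, smul_smul] at h1
  have h3 := smul_left_injective F hv0 h1
  have h4 : (-1 : F) ^ ((1 : Fin 2) : ℕ) = -1 := pow_one _
  rw [h4] at h3
  have h5 : (2 * μ) * lam = 0 := by linear_combination -h3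
  have h6 : lam = 0 := (mul_eq_zero.1 h5).resolve_left (mul_ne_zero h.irr.two hμ0)
  have h7' := h.sq
  rw [h6] at h7'
  apply h7
  linear_combination h7'

/-- every element normalising the core is a scalar times an element of the core -/
theorem eq_mul {v : Fin 10 → F} {ξ : (Fin 10 → F) →ₗ[F] F} {lam : F} (h : Sph (rp e) v ξ lam) (h7 : (7 : F) ≠ 0)
    (hirr : ActsAbsolutelyIrreducibly (matrixSet P)) (t : GL (Fin 10) F) (ht : ∀ x, x ∈ P ↔ t * x * t⁻¹ ∈ P) :
    ∃ x ∈ P, ∃ c : F, (t : Matrix (Fin 10) (Fin 10) F) = c • (x : Matrix (Fin 10) (Fin 10) F) := by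
  -- the automorphism
  let ψ : P ≃* P :=
    { toFun := fun x => ⟨t * x * t⁻¹, (ht x).1 x.2⟩
      invFun := fun x => ⟨t⁻¹ * x * t, (ht _).2 (by
        have : t * (t⁻¹ * (x : GL (Fin 10) F) * t) * t⁻¹ = x := by group
        rw [this]; exact x.2)⟩
      left_inv := fun x => Subtype.ext (by change t⁻¹ * (t * (x : GL (Fin 10) F) * t⁻¹) * t = x; group)
      right_inv := fun x => Subtype.ext (by change t * (t⁻¹ * (x : GL (Fin 10) F) * t) * t⁻¹ = x; group)
      map_mul' := fun x y => Subtype.ext (by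
        change t * ((x : GL (Fin 10) F) * y) * t⁻¹ = (t * x * t⁻¹) * (t * y * t⁻¹); group) }
  let φ : MulAut A := (e.trans ψ).trans e.symm
  obtain ⟨σ, hσ⟩ := (S2119.result 7 (by norm_num) (by norm_num)).2 φ
  have hφ : ∀ g : A, t * (e g : GL (Fin 10) F) * t⁻¹ = (e (φ g) : GL (Fin 10) F) := by
    intro g
    change _ = ((e (e.symm (ψ (e g))) : P) : GL (Fin 10) F)
    rw [MulEquiv.apply_symm_apply]
    rfl
  have hφσ : ∀ g : A, ((φ g : A) : Equiv.Perm (Fin 7)) = σ * (g : Equiv.Perm (Fin 7)) * σ⁻¹ := by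
    intro g
    rw [← hσ]
    exact MulAut.conjNormal_apply σ g
  rcases Int.units_eq_one_or (Equiv.Perm.sign σ) with h1 | h1
  · -- inner
    let σ' : A := ⟨σ, h1⟩
    have h2 : ∀ g : A, φ g = σ' * g * σ'⁻¹ := fun g => Subtype.ext (hφσ g)
    obtain ⟨c, hc⟩ := hirr.2 (((e σ' : GL (Fin 10) F)⁻¹ * t : GL (Fin 10) F) : Matrix (Fin 10) (Fin 10) F) (by
      rintro _ ⟨x, hx, rfl⟩
      rw [← Units.val_mul, ← Units.val_mul]
      congr 1
      obtain ⟨g, hg⟩ : ∃ g : A, (e g : GL (Fin 10) F) = x := ⟨e.symm ⟨x, hx⟩, by rw [MulEquiv.apply_symm_apply]⟩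
      have h3 := hφ g
      rw [h2, map_mul, map_mul, map_inv, Subgroup.coe_mul, Subgroup.coe_mul, Subgroup.coe_inv, hg] at h3
      have h4 : t * x = (e σ' : GL (Fin 10) F) * x * (e σ' : GL (Fin 10) F)⁻¹ * t := by rw [← h3]; group
      rw [mul_assoc, h4]; group)
    refine ⟨_, (e σ').2, c, ?_⟩
    have h3 : t = (e σ' : GL (Fin 10) F) * ((e σ' : GL (Fin 10) F)⁻¹ * t) := by group
    conv_lhs => rw [h3]
    rw [Units.val_mul, hc, Matrix.mul_smul, Matrix.mul_one]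
  · -- outer
    exfalso
    have hsw : Equiv.Perm.sign (Equiv.swap (4 : Fin 7) 5) = -1 := Equiv.Perm.sign_swap (by decide)
    let σ' : A := ⟨(Equiv.swap 4 5)⁻¹ * σ, by
      rw [Equiv.Perm.mem_alternatingGroup, map_mul, Equiv.Perm.sign_inv, hsw, h1]; decide⟩
    have hσ' : σ = Equiv.swap 4 5 * (σ' : Equiv.Perm (Fin 7)) := by
      change σ = Equiv.swap 4 5 * ((Equiv.swap 4 5)⁻¹ * σ)
      group
    apply no_odd e h h7 (Matrix.toLin' ((t * (e σ' : GL (Fin 10) F)⁻¹ : GL (Fin 10) F) : Matrix (Fin 10) (Fin 10) F))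
    · intro a b hab
      rw [Matrix.toLin'_apply, Matrix.toLin'_apply] at hab
      have h2 := congrArg (fun z => ((t * (e σ' : GL (Fin 10) F)⁻¹ : GL (Fin 10) F)⁻¹ : GL (Fin 10) F).1 *ᵥ z) hab
      simp only [Matrix.mulVec_mulVec, ← Units.val_mul, inv_mul_cancel, Units.val_one, Matrix.one_mulVec] at h2
      exact h2
    · intro g g' hg' u
      rw [rp_apply, rp_apply, Matrix.toLin'_apply, Matrix.toLin'_apply, Matrix.mulVec_mulVec, Matrix.mulVec_mulVec,
        ← Units.val_mul, ← Units.val_mul]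
      have h2 : (e g' : GL (Fin 10) F) = t * (e (σ'⁻¹ * g * σ') : GL (Fin 10) F) * t⁻¹ := by
        rw [hφ]
        congr 2
        apply Subtype.ext
        rw [hφσ, hg', hσ']
        push_cast
        group
      have h3 : t * (e σ' : GL (Fin 10) F)⁻¹ * (e g : GL (Fin 10) F) =
          (e g' : GL (Fin 10) F) * (t * (e σ' : GL (Fin 10) F)⁻¹) := by
        rw [h2, map_mul, map_mul, map_inv, Subgroup.coe_mul, Subgroup.coe_mul, Subgroup.coe_inv]
        group
      rw [h3]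

end auto

end Cfsg.Agent.H923.Ten.A7
end

-- part: H923/Ten/A7Sym
section
/-!
# The model of the ten-dimensional module of `A₇` (helper923)
-/

set_option autoImplicit false
set_option linter.unusedSectionVars false
set_option maxRecDepth 20000

namespace Cfsg.Agent.H923.Ten.A7

open Module Matrix Cfsg Cfsg.Geo
open Cfsg.Agent.LieClassical.GUOrder

universe u v

section sym

variable {F : Type u} [Field F]

def ix : Fin 10 → Fin 4 × Fin 4 :=
  ![(0, 0), (0, 1), (0, 2), (0, 3), (1, 1), (1, 2), (1, 3), (2, 2), (2, 3), (3, 3)]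

theorem ix_surj : ∀ i j : Fin 4, ∃ k, ix k = (i, j) ∨ ix k = (j, i) := by decide

/-- coordinates -/
def cd (F : Type u) [Field F] : Matrix (Fin 4) (Fin 4) F →ₗ[F] (Fin 10 → F) where
  toFun X k := X (ix k).1 (ix k).2
  map_add' _ _ := rfl
  map_smul' _ _ := rfl

theorem cd_inj {X Y : Matrix (Fin 4) (Fin 4) F} (hX : Xᵀ = X) (hY : Yᵀ = Y) (h : cd F X = cd F Y) : X = Y := by
  ext i j
  obtain ⟨k, hk | hk⟩ := ix_surj i j
  · have := congrFun h k
    change X (ix k).1 (ix k).2 = Y (ix k).1 (ix k).2 at this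
    rwa [hk] at this
  · have := congrFun h k
    change X (ix k).1 (ix k).2 = Y (ix k).1 (ix k).2 at this
    rw [hk] at this
    have e1 : X i j = X j i := by rw [← congrFun (congrFun hX i) j]; rfl
    have e2 : Y i j = Y j i := by rw [← congrFun (congrFun hY i) j]; rfl
    rw [e1, e2]
    exact this

theorem sym_surj {Φ : (Fin 10 → F) →ₗ[F] Matrix (Fin 4) (Fin 4) F} (hinj : Function.Injective Φ)
    (hsym : ∀ v, (Φ v)ᵀ = Φ v) {X : Matrix (Fin 4) (Fin 4) F} (hX : Xᵀ = X) : ∃ v, Φ v = X := by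
  have h1 : Function.Injective ((cd F).comp Φ) := fun a b hab => hinj (cd_inj (hsym a) (hsym b) hab)
  obtain ⟨v, hv⟩ := (LinearMap.injective_iff_surjective.1 h1) (cd F X)
  exact ⟨v, cd_inj (hsym v) hX hv⟩

/-- elements acting as scalars are scalars -/
theorem sym_scalar {G : GL (Fin 4) F} {c : F}
    (h : ∀ X : Matrix (Fin 4) (Fin 4) F, Xᵀ = X →
      (G : Matrix (Fin 4) (Fin 4) F) * X * (G : Matrix (Fin 4) (Fin 4) F)ᵀ = c • X) : G ∈ scalars (Fin 4) F := by
  set A : Matrix (Fin 4) (Fin 4) F := (G : Matrix (Fin 4) (Fin 4) F) with hA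
  have e1 : ∀ i j k l : Fin 4, A i k * A j l + A i l * A j k =
      c * ((if i = k ∧ j = l then 1 else 0) + if i = l ∧ j = k then 1 else 0) := by
    intro i j k l
    have h1 := h (Matrix.single k l 1 + Matrix.single l k 1) (by
      rw [Matrix.transpose_add, Matrix.transpose_single, Matrix.transpose_single, add_comm])
    have h2 := congrFun (congrFun h1 i) j
    rw [Matrix.mul_add, Matrix.add_mul, Matrix.smul_apply, Matrix.add_apply, Matrix.add_apply] at h2
    have h3 : ∀ k l : Fin 4, (A * Matrix.single k l (1 : F) * Aᵀ) i j = A i k * A j l := by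
      intro k l
      rw [Matrix.mul_apply, Finset.sum_eq_single l]
      · rw [Matrix.mul_single_apply_same, mul_one, Matrix.transpose_apply]
      · intro b _ hb
        rw [Matrix.mul_single_apply_of_ne (hbj := hb), zero_mul]
      · intro h0; exact absurd (Finset.mem_univ _) h0
    rw [h3, h3] at h2
    rw [h2, smul_eq_mul]
    congr 2
    · rw [Matrix.single_apply]; simp only [eq_comm]
    · rw [Matrix.single_apply]; simp only [eq_comm]
  have e0 : ∀ i j k : Fin 4, A i k * A j k = c * (if i = k ∧ j = k then 1 else 0) := by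
    intro i j k
    have h1 := h (Matrix.single k k 1) (by rw [Matrix.transpose_single])
    have h2 := congrFun (congrFun h1 i) j
    have h3 : (A * Matrix.single k k (1 : F) * Aᵀ) i j = A i k * A j k := by
      rw [Matrix.mul_apply, Finset.sum_eq_single k]
      · rw [Matrix.mul_single_apply_same, mul_one, Matrix.transpose_apply]
      · intro b _ hb
        rw [Matrix.mul_single_apply_of_ne (hbj := hb), zero_mul]
      · intro h0; exact absurd (Finset.mem_univ _) h0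
    rw [h3, Matrix.smul_apply, smul_eq_mul, Matrix.single_apply] at h2
    rw [h2]
    simp only [eq_comm]
  -- off-diagonal entries vanish
  have e2 : ∀ i k : Fin 4, i ≠ k → A i k = 0 := by
    intro i k hik
    have := e0 i i k
    rw [if_neg (fun h => hik h.1), mul_zero] at this
    exact mul_self_eq_zero.1 this
  have e3 : ∀ k : Fin 4, A k k * A k k = c := by
    intro k
    have := e0 k k k
    rwa [if_pos ⟨rfl, rfl⟩, mul_one] at this
  have e4 : ∀ k l : Fin 4, k ≠ l → A k k * A l l = c := by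
    intro k l hkl
    have := e1 k l k l
    rw [e2 k l hkl, zero_mul, add_zero, if_pos ⟨rfl, rfl⟩, if_neg (fun h => hkl h.1), add_zero, mul_one] at this
    exact this
  have e5 : A 0 0 ≠ 0 := by
    intro h0
    have hc : c = 0 := by rw [← e3 0, h0, mul_zero]
    have hA0 : A = 0 := by
      ext i j
      by_cases hij : i = j
      · subst hij
        have := e3 i
        rw [hc] at this
        exact mul_self_eq_zero.1 this
      · exact e2 i j hij
    have h1 : A * ((G⁻¹ : GL (Fin 4) F) : Matrix (Fin 4) (Fin 4) F) = 1 := by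
      rw [hA, ← Units.val_mul, mul_inv_cancel, Units.val_one]
    rw [hA0, Matrix.zero_mul] at h1
    exact absurd (congrFun (congrFun h1 0) 0) (by simp)
  rw [mem_scalars_iff]
  refine ⟨Units.mk0 _ e5, ?_⟩
  rw [← hA, Units.val_mk0]
  ext i j
  rw [Matrix.smul_apply, Matrix.one_apply, smul_eq_mul]
  by_cases hij : i = j
  · subst hij
    rw [if_pos rfl, mul_one]
    by_cases hi : i = 0
    · rw [hi]
    · have h1 := e4 0 i (Ne.symm hi)
      rw [← e3 0] at h1
      exact mul_left_cancel₀ e5 h1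
  · rw [if_neg hij, mul_zero]
    exact e2 i j hij

end sym

section gen

variable {F : Type u} [Field F]

theorem MF_28 {r : F} (hr : r * r = ((-7 : ℤ) : F)) {a : Fin 4 → Fin 4 → ℤ√(-7)}
    (h : ∀ i j, a i j = if i = j then ⟨28, 0⟩ else 0) : MF r hr a = (28 : F) • 1 := by
  ext i j
  rw [MF, Matrix.of_apply, h, Matrix.smul_apply, Matrix.one_apply, smul_eq_mul]
  by_cases hij : i = j
  · rw [if_pos hij, if_pos hij, ev_apply]; norm_num
  · rw [if_neg hij, if_neg hij, map_zero, mul_zero]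

/-- the generator attached to a table -/
noncomputable def gG (r : F) (hr : r * r = ((-7 : ℤ) : F)) (h0 : r ≠ 0) (h2 : (2 : F) ≠ 0) (h28 : (28 : F) ≠ 0)
    (M : Fin 4 → Fin 4 → ℤ√(-7))
    (hM : ∀ i j : Fin 4, mul4 M (fun a b => star (M b a)) i j = if i = j then ⟨28, 0⟩ else 0)
    (hM' : ∀ i j : Fin 4, mul4 (fun a b => star (M b a)) M i j = if i = j then ⟨28, 0⟩ else 0) : GL (Fin 4) F where
  val := (2 * r)⁻¹ • MF r hr M
  inv := ((2 * r) * 28⁻¹) • MF r hr (fun a b => star (M b a))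
  val_inv := by
    rw [Matrix.smul_mul, Matrix.mul_smul, MF_mul, MF_28 hr hM, smul_smul, smul_smul]
    have : (2 * r)⁻¹ * (2 * r * 28⁻¹ * 28) = 1 := by
      field_simp
    rw [mul_assoc, this, one_smul]
  inv_val := by
    rw [Matrix.smul_mul, Matrix.mul_smul, MF_mul, MF_28 hr hM', smul_smul, smul_smul]
    have : (2 * r) * 28⁻¹ * (2 * r)⁻¹ * 28 = 1 := by
      field_simp
    rw [this, one_smul]

theorem gG_conj {r : F} (hr : r * r = ((-7 : ℤ) : F)) (h0 : r ≠ 0) (h2 : (2 : F) ≠ 0) (h28 : (28 : F) ≠ 0)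
    {M : Fin 4 → Fin 4 → ℤ√(-7)}
    (hM : ∀ i j : Fin 4, mul4 M (fun a b => star (M b a)) i j = if i = j then ⟨28, 0⟩ else 0)
    (hM' : ∀ i j : Fin 4, mul4 (fun a b => star (M b a)) M i j = if i = j then ⟨28, 0⟩ else 0)
    {X Y : Matrix (Fin 4) (Fin 4) F} (h : (-28 : F) • Y = MF r hr M * X * (MF r hr M)ᵀ) :
    Y = (gG r hr h0 h2 h28 M hM hM' : Matrix (Fin 4) (Fin 4) F) * X *
      (gG r hr h0 h2 h28 M hM hM' : Matrix (Fin 4) (Fin 4) F)ᵀ := by
  change Y = ((2 * r)⁻¹ • MF r hr M) * X * ((2 * r)⁻¹ • MF r hr M)ᵀ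
  rw [Matrix.transpose_smul, Matrix.smul_mul, Matrix.smul_mul, Matrix.mul_smul, ← h, smul_smul, smul_smul]
  have : (2 * r)⁻¹ * (2 * r)⁻¹ * -28 = 1 := by
    have h3 : (-28 : F) = (2 * r) * (2 * r) := by
      have : (2 * r) * (2 * r) = 4 * (r * r) := by ring
      rw [this, hr]; push_cast; ring
    rw [h3]
    field_simp
  rw [this, one_smul]

/-- the two generators -/
theorem exists_G {V : Type v} [AddCommGroup V] [Module F V] [FiniteDimensional F V]
    {ρ : A →* (V →ₗ[F] V)} {v : V} {ξ : V →ₗ[F] F} {lam : F} (h : Sph ρ v ξ lam) {r : F}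
    (hr : r * r = ((-7 : ℤ) : F)) (h0 : r ≠ 0) (h2 : (2 : F) ≠ 0) (h28 : (28 : F) ≠ 0) (K : Subgroup (GL (Fin 4) F))
    (k1 : gG r hr h0 h2 h28 (Mz Ml_c2) u_c2 u_c2' ∈ K) (k2 : gG r hr h0 h2 h28 (Mz Ml_g7) u_g7 u_g7' ∈ K) (g : A) :
    ∃ G ∈ K, ∀ u, Phi ρ ξ r hr (ρ g u) =
      (G : Matrix (Fin 4) (Fin 4) F) * Phi ρ ξ r hr u * (G : Matrix (Fin 4) (Fin 4) F)ᵀ := by
  let S : Subgroup A :=
    { carrier := {g | ∃ G ∈ K, ∀ u, Phi ρ ξ r hr (ρ g u) =
        (G : Matrix (Fin 4) (Fin 4) F) * Phi ρ ξ r hr u * (G : Matrix (Fin 4) (Fin 4) F)ᵀ}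
      one_mem' := ⟨1, one_mem _, fun u => by
        rw [act1, Units.val_one, Matrix.transpose_one, Matrix.one_mul, Matrix.mul_one]⟩
      mul_mem' := by
        rintro x y ⟨G, hG, hx⟩ ⟨G', hG', hy⟩
        refine ⟨G * G', mul_mem hG hG', fun u => ?_⟩
        rw [← act, hx, hy, Units.val_mul, Matrix.transpose_mul]
        simp only [Matrix.mul_assoc]
      inv_mem' := by
        rintro x ⟨G, hG, hx⟩
        refine ⟨G⁻¹, inv_mem hG, fun u => ?_⟩
        have h1 := hx (ρ x⁻¹ u)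
        rw [act_inv] at h1
        rw [h1]
        have e1 : ((G⁻¹ : GL (Fin 4) F) : Matrix (Fin 4) (Fin 4) F) * (G : Matrix (Fin 4) (Fin 4) F) = 1 := by
          rw [← Units.val_mul, inv_mul_cancel, Units.val_one]
        have e2 : (G : Matrix (Fin 4) (Fin 4) F)ᵀ * ((G⁻¹ : GL (Fin 4) F) : Matrix (Fin 4) (Fin 4) F)ᵀ = 1 := by
          rw [← Matrix.transpose_mul, e1, Matrix.transpose_one]
        generalize Phi ρ ξ r hr (ρ x⁻¹ u) = X
        symm
        calc ((G⁻¹ : GL (Fin 4) F) : Matrix (Fin 4) (Fin 4) F) * ((G : Matrix (Fin 4) (Fin 4) F) * X *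
              (G : Matrix (Fin 4) (Fin 4) F)ᵀ) * ((G⁻¹ : GL (Fin 4) F) : Matrix (Fin 4) (Fin 4) F)ᵀ =
            (((G⁻¹ : GL (Fin 4) F) : Matrix (Fin 4) (Fin 4) F) * (G : Matrix (Fin 4) (Fin 4) F)) * X *
              ((G : Matrix (Fin 4) (Fin 4) F)ᵀ * ((G⁻¹ : GL (Fin 4) F) : Matrix (Fin 4) (Fin 4) F)ᵀ) := by
              simp only [Matrix.mul_assoc]
          _ = X := by rw [e1, e2, Matrix.one_mul, Matrix.mul_one] }
  have m1 : c2 ∈ S := by
    refine ⟨_, k1, fun u => ?_⟩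
    exact gG_conj hr h0 h2 h28 u_c2 u_c2' (h.step chk_c2 inj_c2 m_c2 r hr u)
  have m2 : g7 ∈ S := by
    refine ⟨_, k2, fun u => ?_⟩
    exact gG_conj hr h0 h2 h28 u_g7 u_g7' (h.step chk_g7 inj_g7 m_g7 r hr u)
  have hS : S = ⊤ := top_of_g S m1 m2
  have : g ∈ S := by rw [hS]; trivial
  exact this

end gen

end Cfsg.Agent.H923.Ten.A7
end

private theorem dce_94f89a6b46b3 : _root_.True := by
  try have : _root_.True := by simp only [_root_.Cfsg.Agent.H923.Ten.A7.Phi.congr_simp]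
  try have : _root_.True := by simp only [_root_.Cfsg.Agent.H923.Ten.A7.tot.eq_1]
  try have : _root_.True := by simp only [_root_.Cfsg.Agent.H923.Ten.A7.Ng.eq_1]
  try have : _root_.True := by simp only [_root_.Cfsg.Agent.H923.Ten.A7.nfq.eq_1]
  try have : _root_.True := by simp only [_root_.Cfsg.Agent.H923.Ten.A7.nf.eq_1]
  try have : _root_.True := by simp only [_root_.Cfsg.Agent.H923.Ten.A7.ev.congr_simp]
  try have : _root_.True := by simp only [_root_.Cfsg.Agent.H923.Ten.A7.ev.eq_1]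
  try have : _root_.True := by simp only [_root_.Cfsg.Agent.H923.Ten.A7.V0.eq_1]
  try have : _root_.True := by simp only [_root_.Cfsg.Agent.H923.Ten.A7.W1.eq_1]
  try have : _root_.True := by simp only [_root_.Cfsg.Agent.H923.Ten.hh.eq_1]
  try have : _root_.True := by simp only [_root_.Cfsg.Agent.H923.Ten.A7.Fx.eq_1]
  try have : _root_.True := by simp only [_root_.Cfsg.Agent.H923.Ten.A7.WW.eq_1]
  try have : _root_.True := by simp only [_root_.Cfsg.Agent.H923.Ten.A7.W2.eq_1]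
  try have : _root_.True := by simp only [_root_.Cfsg.Agent.H923.Ten.A7.sz.eq_1]
  try have : _root_.True := by simp only [_root_.Cfsg.Agent.H923.Ten.A7.Phi.eq_1]
  try have : _root_.True := by simp only [_root_.Cfsg.Agent.H923.Ten.A7.MF.eq_1]
  try have : _root_.True := by simp only [_root_.Cfsg.Agent.H923.Ten.A7.e2.congr_simp]
  try have : _root_.True := by simp only [_root_.Cfsg.Agent.H923.Ten.A7.sg.eq_1]
  try have : _root_.True := by simp only [_root_.Cfsg.Agent.H923.Ten.A7.es.eq_1]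
  try have : _root_.True := by simp only [_root_.Cfsg.Agent.H923.Ten.A7.cv.eq_1]
  try have : _root_.True := by simp only [_root_.Cfsg.Agent.H923.Ten.A7.W3.eq_1]
  try have : _root_.True := by simp only [_root_.Cfsg.Agent.H923.Ten.A7.mul4.eq_1]
  try have : _root_.True := by simp only [_root_.Cfsg.Agent.H923.Ten.kap.congr_simp]
  exact _root_.True.intro
end

-- part: H840/M11/Ovm
section
set_option linter.all false
open scoped Cfsg.Agent.FastGrp

/-!
# A group generated by `M11` and an involution : abstract part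
-/

set_option autoImplicit false

namespace Cfsg.Agent.H840.M11

section

variable {Γ : Type*} [Group Γ] {P : Subgroup Γ} {u1 u2 a g : Γ}

theorem conj_mem (gg : g * g = 1) (g1 : g * u1 * (g * u1) = 1) (g2 : g * u2 = u2 * g) {r : Γ}
    (hr : r ∈ Subgroup.closure ({u1, u2} : Set Γ)) : g * r * g ∈ Subgroup.closure ({u1, u2} : Set Γ) := by
  induction hr using Subgroup.closure_induction with
  | mem x hx =>
    rcases hx with rfl | hx
    · have h1 : g * x * g = x⁻¹ := by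
        rw [eq_inv_iff_mul_eq_one]
        rw [← g1]; group
      rw [h1]
      exact Subgroup.inv_mem _ (Subgroup.subset_closure (Or.inl rfl))
    · rw [Set.mem_singleton_iff] at hx
      subst hx
      rw [g2, mul_assoc, gg, mul_one]
      exact Subgroup.subset_closure (Or.inr rfl)
  | one => rw [mul_one, gg]; exact Subgroup.one_mem _
  | mul x y _ _ hx hy =>
    have h1 : g * (x * y) * g = g * x * g * (g * y * g) := by
      calc g * (x * y) * g = g * x * 1 * y * g := by group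
        _ = g * x * (g * g) * y * g := by rw [gg]
        _ = _ := by group
    rw [h1]
    exact Subgroup.mul_mem _ hx hy
  | inv x _ hx =>
    have h1 : g⁻¹ = g := inv_eq_of_mul_eq_one_left gg
    have h2 : g * x⁻¹ * g = (g * x * g)⁻¹ := by
      rw [mul_inv_rev, mul_inv_rev, h1, mul_assoc]
    rw [h2]
    exact Subgroup.inv_mem _ hx

/-- The double coset group. -/
theorem exists_Q (m1 : u1 ∈ P) (m2 : u2 ∈ P) (ma : a ∈ P) (gg : g * g = 1) (g1 : g * u1 * (g * u1) = 1)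
    (g2 : g * u2 = u2 * g) (ga : g * a * g = a * g * a)
    (dec : ∀ p ∈ P, p ∈ Subgroup.closure ({u1, u2} : Set Γ) ∨ ∃ b ∈ Subgroup.closure ({u1, u2} : Set Γ),
      ∃ c ∈ Subgroup.closure ({u1, u2} : Set Γ), p = b * a * c) :
    ∃ Q : Subgroup Γ, P ≤ Q ∧ g ∈ Q ∧ ∀ x ∈ Q, x ∈ P ∨ ∃ p ∈ P, ∃ q ∈ P, x = p * g * q := by
  have hle : Subgroup.closure ({u1, u2} : Set Γ) ≤ P := by
    rw [Subgroup.closure_le]
    rintro x (rfl | hx)
    · exact m1
    · rw [Set.mem_singleton_iff.1 hx]; exact m2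
  have hg' : g⁻¹ = g := inv_eq_of_mul_eq_one_left gg
  have key : ∀ r ∈ P, g * r * g ∈ P ∨ ∃ p ∈ P, ∃ q ∈ P, g * r * g = p * g * q := by
    intro r hr
    rcases dec r hr with h | ⟨b, hb, c, hc, rfl⟩
    · exact Or.inl (hle (conj_mem gg g1 g2 h))
    · right
      refine ⟨g * b * g * a, P.mul_mem (hle (conj_mem gg g1 g2 hb)) ma, a * (g * c * g),
        P.mul_mem ma (hle (conj_mem gg g1 g2 hc)), ?_⟩
      calc g * (b * a * c) * g = g * b * 1 * a * 1 * c * g := by group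
        _ = g * b * (g * g) * a * (g * g) * c * g := by rw [gg]
        _ = g * b * g * (g * a * g) * (g * c * g) := by group
        _ = g * b * g * (a * g * a) * (g * c * g) := by rw [ga]
        _ = _ := by group
  refine ⟨{ carrier := {x | x ∈ P ∨ ∃ p ∈ P, ∃ q ∈ P, x = p * g * q}, one_mem' := Or.inl P.one_mem,
            mul_mem' := ?_, inv_mem' := ?_ }, fun x hx => Or.inl hx,
            Or.inr ⟨1, P.one_mem, 1, P.one_mem, by group⟩, fun x hx => hx⟩
  · rintro x y (hx | ⟨p, hp, q, hq, rfl⟩) (hy | ⟨p', hp', q', hq', rfl⟩)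
    · exact Or.inl (P.mul_mem hx hy)
    · exact Or.inr ⟨x * p', P.mul_mem hx hp', q', hq', by group⟩
    · exact Or.inr ⟨p, hp, q * y, P.mul_mem hq hy, by group⟩
    · rcases key (q * p') (P.mul_mem hq hp') with h | ⟨r, hr, t, ht, h⟩
      · left
        have h1 : p * g * q * (p' * g * q') = p * (g * (q * p') * g) * q' := by group
        rw [h1]
        exact P.mul_mem (P.mul_mem hp h) hq'
      · right
        refine ⟨p * r, P.mul_mem hp hr, t * q', P.mul_mem ht hq', ?_⟩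
        have h1 : p * g * q * (p' * g * q') = p * (g * (q * p') * g) * q' := by group
        rw [h1, h]; group
  · rintro x (hx | ⟨p, hp, q, hq, rfl⟩)
    · exact Or.inl (P.inv_mem hx)
    · refine Or.inr ⟨q⁻¹, P.inv_mem hq, p⁻¹, P.inv_mem hp, ?_⟩
      rw [mul_inv_rev, mul_inv_rev, hg', mul_assoc]

theorem card_Q [Finite P] {Q : Subgroup Γ} (hQ : ∀ x ∈ Q, x ∈ P ∨ ∃ p ∈ P, ∃ q ∈ P, x = p * g * q) :
    Finite Q ∧ Nat.card Q ≤ Nat.card P + Nat.card P * Nat.card P := by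
  classical
  have h1 : ∀ x : Q, ∃ t : P ⊕ P × P, (x : Γ) = Sum.elim (fun p : P => (p : Γ)) (fun pq : P × P => (pq.1 : Γ) * g * pq.2) t := by
    intro x
    rcases hQ x x.2 with h | ⟨p, hp, q, hq, h⟩
    · exact ⟨Sum.inl ⟨x, h⟩, rfl⟩
    · exact ⟨Sum.inr (⟨p, hp⟩, ⟨q, hq⟩), h⟩
  choose t ht using h1
  have hinj : Function.Injective t := by
    intro x y hxy
    apply Subtype.ext
    rw [ht x, ht y, hxy]
  refine ⟨Finite.of_injective t hinj, ?_⟩
  have := Nat.card_le_card_of_injective t hinj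
  rwa [Nat.card_sum, Nat.card_prod] at this

end

end Cfsg.Agent.H840.M11
end

-- part: H840/M11/Zx
section
set_option linter.all false
open scoped Cfsg.Agent.FastGrp

/-!
# Elements of order 11 have no fixed vectors, characteristic three (adapted from `H6/M11/Main3`)
-/

set_option autoImplicit false
set_option linter.unusedSectionVars false
set_option linter.unusedVariables false
set_option maxRecDepth 100000

namespace Cfsg.Agent.H840.M11

open Module LinearMap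
open Cfsg.Agent.H6.M11

variable {G : Type*} [Group G] {v : ℕ → G} {k : Type*} [Field k] {V : Type*} [AddCommGroup V] [Module k V]
  [FiniteDimensional k V] {R : G →* End k V} {ζ ξ : k}

/-- an element of order 11 has no fixed vectors -/
theorem fix_eleven (h : Sat v) (h3 : (3 : k) = 0) (hζ : IsPrimitiveRoot ζ 11) (hξ : IsPrimitiveRoot ξ 5)
    (irr : Irr v R) (hX1 : op v R [5] ≠ 1) (hn2 : 2 ≤ finrank k V) (hn : finrank k V ≤ 12) :
    finrank k (End.eigenspace (op v R [5]) 1) = 0 := by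
  have h11k := eleven_ne_of3 h3
  have hX := h.toL.pow_eleven (R := R)
  obtain ⟨m, a, b, ha, hb, hm, hdim⟩ := h.toL.eigen (R := R) hζ ⊤ (fun _ _ => trivial) (fun _ _ => trivial)
  have top' : ∀ c : k, finrank k (⊤ ⊓ End.eigenspace (op v R [5]) c : Submodule k V) =
      finrank k (End.eigenspace (op v R [5]) c) := fun c => by rw [top_inf_eq]
  simp only [top'] at ha hb hm
  rw [finrank_top] at hdim
  have hab : 0 < a + b := by
    by_contra hcon
    have h2 : a = 0 ∧ b = 0 := by omega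
    apply hX1
    have h4 : (⊤ : Submodule k V) ≤ End.eigenspace (op v R [5]) 1 := le_of_finrank (by
      rw [top_inf_eq, hm, finrank_top, hdim]; omega)
    ext u
    have h5 := h4 (Submodule.mem_top (x := u))
    rw [End.mem_eigenspace_iff, one_smul] at h5
    exact h5
  by_contra hcon
  have hm1 : 1 ≤ m := by rw [hm] at hcon; omega
  -- an eigenvector of `d`
  obtain ⟨x0, c, hx0, f5, f6⟩ : ∃ (x0 : V) (c : k), x0 ≠ 0 ∧ op v R [5] x0 = x0 ∧ op v R [6] x0 = c • x0 := by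
    have hinv : ∀ u ∈ fix (op v R [5]), op v R [6] u ∈ fix (op v R [5]) := by
      intro u hu
      exact mem_of_comm (isProj_av h11k hX) (h.toL.d_av h11k) hu
    have hsum := finrank_eq_sum hξ (by norm_num) (h.toL.pow_five (R := R)) (fix (op v R [5])) hinv
    have h1 : finrank k (fix (op v R [5])) = m := hm
    obtain ⟨j, -, hj⟩ : ∃ j ∈ (Finset.univ : Finset (Fin 5)),
        finrank k (fix (op v R [5]) ⊓ End.eigenspace (op v R [6]) (ξ ^ (j : ℕ)) : Submodule k V) ≠ 0 := by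
      by_contra hc
      push Not at hc
      rw [Finset.sum_eq_zero hc, h1] at hsum
      omega
    have h2 : (fix (op v R [5]) ⊓ End.eigenspace (op v R [6]) (ξ ^ (j : ℕ)) : Submodule k V) ≠ ⊥ := by
      intro hc
      rw [hc, finrank_bot] at hj
      exact hj rfl
    obtain ⟨x0, hx, hx0⟩ := (Submodule.ne_bot_iff _).1 h2
    obtain ⟨g1, g2⟩ := Submodule.mem_inf.1 hx
    exact ⟨x0, ξ ^ (j : ℕ), hx0, mem_fix.1 g1, End.mem_eigenspace_iff.1 g2⟩
  obtain ⟨i5, i6, i7⟩ := h.toL.span_inv f5 f6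
  have hUb : spanO (op v R [5]) x0 (op v R [7] x0) ≠ ⊥ := by
    intro h1
    have h2 : x0 ∈ spanO (op v R [5]) x0 (op v R [7] x0) := x0_mem
    rw [h1, Submodule.mem_bot] at h2
    exact hx0 h2
  have hone : a + b = 1 → spanO (op v R [5]) x0 (op v R [7] x0) = ⊤ := by
    intro hab1
    by_contra hU
    obtain ⟨m1, a1, b1, -, -, g1, g2⟩ := h.step h3 hζ irr hn2 ha hb i5 i6 i7 hUb hU
    omega
  have hm2 : m ≤ 2 := by
    by_cases hab1 : a + b = 1
    · have h1 := finrank_fix_le (u := op v R [7] x0) h11k hX f5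
      rw [hone hab1, top_inf_eq, hm] at h1
      exact h1
    · omega
  have hd := h.d_trivial h3 hξ (by rw [hm]; exact hm2)
  have f6' := hd x0 f5
  have hT := h.toL.twelve_w f5 f6'
  have hsX := hT.X_sum h11k
  have hs := h.no_fix h3 irr hn2 hsX (hd _ hsX) hT.T_sum
  obtain ⟨φ, e0, eX, eW⟩ := hT.exists_dual h3 hx0 hs
  have hφav : ∀ y, φ (av 11 (op v R [5]) y) = φ y := by
    intro y
    have e1 : ∀ i : ℕ, φ ((op v R [5] ^ i) y) = φ y := by
      intro i
      induction i with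
      | zero => rfl
      | succ i ih => rw [pow_succ', Module.End.mul_apply, eX, ih]
    rw [av, LinearMap.smul_apply, LinearMap.sum_apply, map_smul, map_sum, Finset.sum_congr rfl fun i _ => e1 i,
      Finset.sum_const, Finset.card_range, nsmul_eq_mul, smul_eq_mul, ← mul_assoc, inv_mul_cancel₀ h11k, one_mul]
  have eD : ∀ y, φ (op v R [6] y) = φ y := by
    intro y
    rw [← hφav (op v R [6] y), ← Module.End.mul_apply, ← h.toL.d_av h11k, Module.End.mul_apply,
      hd _ (av_apply_mem hX y), hφav]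
  have hUt : spanO (op v R [5]) x0 (op v R [7] x0) ≠ ⊤ := by
    intro hU
    have h1 := h.no_dual h3 irr hn2 (ψ := φ) eX eD (fun u => eW u (by rw [hU]; trivial))
    rw [h1, LinearMap.zero_apply] at e0
    exact zero_ne_one e0
  obtain ⟨m1, a1, b1, hdim1, hm1', g1, g2⟩ := h.step h3 hζ irr hn2 ha hb i5 i6 i7 hUb hUt
  have hm1le : m1 ≤ 2 := by
    rw [← hm1']
    refine le_trans (Submodule.finrank_mono inf_le_right) (by rw [hm]; exact hm2)
  have hxU : x0 ∈ spanO (op v R [5]) x0 (op v R [7] x0) ⊓ End.eigenspace (op v R [5]) 1 :=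
    Submodule.mem_inf.2 ⟨x0_mem, by rw [End.mem_eigenspace_iff, one_smul]; exact f5⟩
  have hm1pos : 0 < m1 := by
    rw [← hm1']
    have : Nontrivial (spanO (op v R [5]) x0 (op v R [7] x0) ⊓ End.eigenspace (op v R [5]) 1 : Submodule k V) := by
      rw [Submodule.nontrivial_iff_ne_bot]
      intro h1
      rw [h1, Submodule.mem_bot] at hxU
      exact hx0 hxU
    exact finrank_pos
  have final : ∀ S : Submodule k V, (∀ u ∈ S, op v R [5] u ∈ S) → (∀ u ∈ S, op v R [6] u ∈ S) →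
      (∀ u ∈ S, op v R [7] u ∈ S) → finrank k S = 6 →
      finrank k (S ⊓ End.eigenspace (op v R [5]) 1 : Submodule k V) = 1 → False := by
    intro S j5 j6 j7 hS6 hS1
    have h1 := h.toL.lemF_sub h3 hζ hξ j5 j6 j7 hS6 hS1 (fun u _ hu => hd u hu)
    have h2 : (S ⊓ End.eigenspace (op v R [5]) 1 : Submodule k V) ≠ ⊥ := by
      intro hc
      rw [hc, finrank_bot] at hS1
      exact zero_ne_one hS1
    obtain ⟨y, hy, hy0⟩ := (Submodule.ne_bot_iff _).1 h2
    obtain ⟨y1, y2⟩ := Submodule.mem_inf.1 hy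
    rw [End.mem_eigenspace_iff, one_smul] at y2
    exact hy0 (h.no_fix h3 irr hn2 y2 (hd y y2) (h1 y y1 y2))
  rcases (show m1 = 1 ∨ m1 = 2 by omega) with hm1'' | hm1''
  · exact final _ i5 i6 i7 (by omega) (by rw [hm1', hm1''])
  · refine final (spanO (op v R [5]) x0 (op v R [7] x0) ⊓ LinearMap.ker φ) ?_ ?_ ?_ ?_ ?_
    · intro u hu
      obtain ⟨u1, u2⟩ := Submodule.mem_inf.1 hu
      refine Submodule.mem_inf.2 ⟨i5 u u1, ?_⟩
      rw [LinearMap.mem_ker] at u2 ⊢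
      rw [eX, u2]
    · intro u hu
      obtain ⟨u1, u2⟩ := Submodule.mem_inf.1 hu
      refine Submodule.mem_inf.2 ⟨i6 u u1, ?_⟩
      rw [LinearMap.mem_ker] at u2 ⊢
      rw [eD, u2]
    · intro u hu
      obtain ⟨u1, u2⟩ := Submodule.mem_inf.1 hu
      refine Submodule.mem_inf.2 ⟨i7 u u1, ?_⟩
      rw [LinearMap.mem_ker] at u2 ⊢
      rw [eW u u1, u2]
    · have h1 := finrank_inf_ker φ _ (x0_mem (X := op v R [5]) (x0 := x0) (u := op v R [7] x0)) e0
      omega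
    · have h1 := finrank_inf_ker φ _ hxU e0
      rw [hm1'] at h1
      rw [inf_right_comm]
      omega

end Cfsg.Agent.H840.M11
end
end
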